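import Cfsg.Agent.Lib.Helper6.Spor.Fi23UB
import Cfsg.Agent.S1689
import Cfsg.Agent.Lib.Helper6.TCD.Fi23aL.LB

set_option autoImplicit false
set_option maxRecDepth 100000

namespace Cfsg.Agent.Lib.Helper6.Fi23Ord

open Cfsg.Spor Cfsg.Agent.Lib.Helper6.TC Cfsg.Agent.Lib.Helper6.TCD
open Cfsg.Agent.Lib.Helper6.TCP.Fi23

/-! # The order of the presented group Fi23, and its faithful action on 31671 points -/

theorem rep : ∃ φ : Fi23 →* Equiv.Perm (Fin 31671),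
    (∀ w, (∀ c ∈ w, c < 10) → ∀ p : Fin 31671,
      ((φ (PresentedGroup.mk Rels (wordElt gc w)))⁻¹ p).val = wapp Fi23a.px w p.val) ∧
    (∃ F : (Fi23 ⧸ subH Rels Cfsg.Agent.S1689.S) ≃ Fin 31671, ∀ g q, F (g • q) = φ g (F q)) ∧
    Function.Injective φ ∧ Nat.card Fi23 = 4089470473293004800 ∧ Finite Fi23 := by
  obtain ⟨φ, hw, hfixH, htrans⟩ := perm_rep (rels := Rels) (S := Cfsg.Agent.S1689.S)
    Cfsg.Agent.S1689.hP hC (rel_cover Cfsg.Agent.S1689.hP Cfsg.Agent.S1689.hfix)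
    Cfsg.Agent.S1689.hsubP Cfsg.Agent.S1689.htree
  obtain ⟨_, F, hF⟩ := index_eq Cfsg.Agent.S1689.hP.Npos hfixH htrans
    Cfsg.Agent.S1689.idx_le.1 Cfsg.Agent.S1689.idx_le.2
  have hfin : Finite Fi23 := Fi23UB.card_le.1
  have hlb := Fi23aL.chain_lb (φ := φ) hw
  obtain ⟨hinj, hcard⟩ := faithful_of_card hlb Fi23UB.card_le.2 (by norm_num)
  exact ⟨φ, hw, ⟨F, hF⟩, hinj, hcard, hfin⟩

end Cfsg.Agent.Lib.Helper6.Fi23Ord
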