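import Cfsg.Agent.Lib.Helper6.PMat
import Cfsg.Agent.Lib.Helper6.Spor.HNM133a

set_option autoImplicit false
set_option Elab.async false

namespace Cfsg.Agent.Lib.Helper6.HNM133

open Cfsg.Agent.Lib.Helper6.PMat

/-! # The packed matrices of degree 133 for the Harada–Norton group are well formed -/

/-- the packed matrix of a column -/
def gN : ℕ → List ℕ
  | 0 => mX
  | 1 => mXi
  | 2 => mY
  | 3 => mYi
  | 4 => mZ
  | 5 => mT
  | _ => mTi

theorem good0 : Good 5 133 mX := by decide +kernel
theorem good1 : Good 5 133 mXi := by decide +kernel
theorem good2 : Good 5 133 mY := by decide +kernel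
theorem good3 : Good 5 133 mYi := by decide +kernel
theorem good4 : Good 5 133 mZ := by decide +kernel
theorem good5 : Good 5 133 mT := by decide +kernel
theorem good6 : Good 5 133 mTi := by decide +kernel

theorem good_gN (c : ℕ) : Good 5 133 (gN c) := by
  match c with
  | 0 => exact good0
  | 1 => exact good1
  | 2 => exact good2
  | 3 => exact good3
  | 4 => exact good4
  | 5 => exact good5
  | (k + 6) => exact good6

end Cfsg.Agent.Lib.Helper6.HNM133
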