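import Cfsg.Agent.Lib.Helper6.PMat2
import Cfsg.Agent.Lib.Helper6.Spor.HNM133b
import Cfsg.Agent.Lib.Helper6.Spor.HNM133d

set_option autoImplicit false
set_option Elab.async false

namespace Cfsg.Agent.Lib.Helper6.HNM133

open Cfsg.Agent.Lib.Helper6.PMat

theorem s4_1 : wordMacc 5 133 gN [0, 2, 0, 2, 0, 2, 0, 2, 0, 2, 0, 2] (A4_2) = idM 133 := by decide +kernel
theorem s5_2 : wordMacc 5 133 gN [0, 2, 0, 2, 2, 2, 0, 2, 0, 2, 2, 2] (idM 133) = A5_2 := by decide +kernel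

end Cfsg.Agent.Lib.Helper6.HNM133
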