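import Cfsg.Agent.Lib.Helper6.Spor.HNM133c0
import Cfsg.Agent.Lib.Helper6.Spor.HNM133c1
import Cfsg.Agent.Lib.Helper6.Spor.HNM133c2
import Cfsg.Agent.Lib.Helper6.Spor.HNM133c3
import Cfsg.Agent.Lib.Helper6.Spor.HNM133c4
import Cfsg.Agent.Lib.Helper6.Spor.HNM133c5
import Cfsg.Agent.Lib.Helper6.Spor.HNM133c6
import Cfsg.Agent.Lib.Helper6.Spor.HNM133c7
import Cfsg.Agent.Lib.Helper6.TCP.HN

set_option autoImplicit false
set_option Elab.async false
set_option maxRecDepth 100000

namespace Cfsg.Agent.Lib.Helper6.HNM133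

open Cfsg.Spor Cfsg.Agent.Lib.Helper6.PMat Cfsg.Agent.Lib.Helper6.TC
open Cfsg.Agent.Lib.Helper6.TCP

/-! # A representation of degree 133 over the field with 5 elements of the presented group `HN`,
in which the square of `x` is not trivial -/

/-- the matrix of a column -/
noncomputable def gM (c : ℕ) : Matrix (Fin 133) (Fin 133) (ZMod 5) := toMat 5 133 (gN c)

theorem toMat_word (w : List ℕ) :
    toMat 5 133 (wordM 5 133 gN w) = (w.map gM).prod :=
  toMat_wordM (by decide) (by decide) (by decide) gN w (fun c _ => good_gN c)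

theorem prod_of_word {w : List ℕ} (h : wordM 5 133 gN w = idM 133) : (w.map gM).prod = 1 := by
  rw [← toMat_word, h, toMat_idM]

theorem hp0 : ([2, 2, 2, 2, 2, 2].map gM).prod = 1 := by
  have h1 := step_acc (by decide) (by decide) (by decide) gN good_gN (start_acc (by decide) gN) s0_1
  have h := h1.2
  rw [toMat_idM] at h
  exact h.symm

theorem hp1 : ([0, 0, 2, 0, 0, 3].map gM).prod = 1 := by
  have h1 := step_acc (by decide) (by decide) (by decide) gN good_gN (start_acc (by decide) gN) s1_1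
  have h := h1.2
  rw [toMat_idM] at h
  exact h.symm

theorem hp2 : ([1, 3, 0, 2, 1, 3, 0, 2, 1, 3, 0, 2].map gM).prod = 1 := by
  have h1 := step_acc (by decide) (by decide) (by decide) gN good_gN (start_acc (by decide) gN) s2_1
  have h := h1.2
  rw [toMat_idM] at h
  exact h.symm

theorem hp3 : ([1, 2, 2, 0, 2, 2, 2, 1, 2, 2, 0, 2, 2, 2, 1, 2, 2, 0, 2, 2, 2].map gM).prod = 1 := by
  have h2 := step_acc (by decide) (by decide) (by decide) gN good_gN (start_acc (by decide) gN) s3_2
  have h1 := step_acc (by decide) (by decide) (by decide) gN good_gN h2 s3_1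
  have h := h1.2
  rw [toMat_idM] at h
  exact h.symm

theorem hp4 : ([0, 2, 0, 2, 0, 2, 0, 2, 0, 2, 0, 2, 0, 2, 0, 2].map gM).prod = 1 := by
  have h2 := step_acc (by decide) (by decide) (by decide) gN good_gN (start_acc (by decide) gN) s4_2
  have h1 := step_acc (by decide) (by decide) (by decide) gN good_gN h2 s4_1
  have h := h1.2
  rw [toMat_idM] at h
  exact h.symm

theorem hp5 : ([0, 2, 0, 2, 2, 2, 0, 2, 0, 2, 2, 2, 0, 2, 0, 2, 2, 2, 0, 2, 0, 2, 2, 2].map gM).prod = 1 := by
  have h2 := step_acc (by decide) (by decide) (by decide) gN good_gN (start_acc (by decide) gN) s5_2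
  have h1 := step_acc (by decide) (by decide) (by decide) gN good_gN h2 s5_1
  have h := h1.2
  rw [toMat_idM] at h
  exact h.symm

theorem hp6 : ([4, 4].map gM).prod = 1 := by
  have h1 := step_acc (by decide) (by decide) (by decide) gN good_gN (start_acc (by decide) gN) s6_1
  have h := h1.2
  rw [toMat_idM] at h
  exact h.symm

theorem hp7 : ([4, 0, 4, 0].map gM).prod = 1 := by
  have h1 := step_acc (by decide) (by decide) (by decide) gN good_gN (start_acc (by decide) gN) s7_1
  have h := h1.2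
  rw [toMat_idM] at h
  exact h.symm

theorem hp8 : ([4, 2, 1, 3, 3, 1, 3, 1, 3, 4, 2, 0, 2, 0, 2, 2, 0, 3, 1, 1].map gM).prod = 1 := by
  have h2 := step_acc (by decide) (by decide) (by decide) gN good_gN (start_acc (by decide) gN) s8_2
  have h1 := step_acc (by decide) (by decide) (by decide) gN good_gN h2 s8_1
  have h := h1.2
  rw [toMat_idM] at h
  exact h.symm

theorem hp9 : ([4, 3, 1, 3, 1, 3, 3, 3, 4, 2, 2, 2, 0, 2, 0, 2, 0, 3, 1, 3, 1, 3, 3, 3, 4, 2, 2, 2, 0, 2, 0, 2, 0, 3, 1, 3, 1, 3, 3, 3, 4, 2, 2, 2, 0, 2, 0, 2, 0].map gM).prod = 1 := by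
  have h5 := step_acc (by decide) (by decide) (by decide) gN good_gN (start_acc (by decide) gN) s9_5
  have h4 := step_acc (by decide) (by decide) (by decide) gN good_gN h5 s9_4
  have h3 := step_acc (by decide) (by decide) (by decide) gN good_gN h4 s9_3
  have h2 := step_acc (by decide) (by decide) (by decide) gN good_gN h3 s9_2
  have h1 := step_acc (by decide) (by decide) (by decide) gN good_gN h2 s9_1
  have h := h1.2
  rw [toMat_idM] at h
  exact h.symm

theorem hp10 : ([5, 5, 5, 5, 5].map gM).prod = 1 := by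
  have h1 := step_acc (by decide) (by decide) (by decide) gN good_gN (start_acc (by decide) gN) s10_1
  have h := h1.2
  rw [toMat_idM] at h
  exact h.symm

theorem hp11 : ([1, 5, 0, 5, 5].map gM).prod = 1 := by
  have h1 := step_acc (by decide) (by decide) (by decide) gN good_gN (start_acc (by decide) gN) s11_1
  have h := h1.2
  rw [toMat_idM] at h
  exact h.symm

theorem hp12 : ([6, 3, 5, 2].map gM).prod = 1 := by
  have h1 := step_acc (by decide) (by decide) (by decide) gN good_gN (start_acc (by decide) gN) s12_1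
  have h := h1.2
  rw [toMat_idM] at h
  exact h.symm

theorem hp13 : ([4, 5, 4, 5, 4, 5].map gM).prod = 1 := by
  have h1 := step_acc (by decide) (by decide) (by decide) gN good_gN (start_acc (by decide) gN) s13_1
  have h := h1.2
  rw [toMat_idM] at h
  exact h.symm

theorem hp14 : ([0, 1].map gM).prod = 1 := by
  have h1 := step_acc (by decide) (by decide) (by decide) gN good_gN (start_acc (by decide) gN) s14_1
  have h := h1.2
  rw [toMat_idM] at h
  exact h.symm

theorem hp15 : ([2, 3].map gM).prod = 1 := by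
  have h1 := step_acc (by decide) (by decide) (by decide) gN good_gN (start_acc (by decide) gN) s15_1
  have h := h1.2
  rw [toMat_idM] at h
  exact h.symm

theorem hp16 : ([5, 6].map gM).prod = 1 := by
  have h1 := step_acc (by decide) (by decide) (by decide) gN good_gN (start_acc (by decide) gN) s16_1
  have h := h1.2
  rw [toMat_idM] at h
  exact h.symm

theorem hbaseM : ∀ b ∈ HN.base, (b.map gM).prod = 1 := by
  intro b hb
  simp only [HN.base, List.mem_cons, List.mem_nil_iff, or_false] at hb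
  rcases hb with rfl | rfl | rfl | rfl | rfl | rfl | rfl | rfl | rfl | rfl | rfl | rfl | rfl | rfl | rfl | rfl | rfl
  · exact hp0
  · exact hp1
  · exact hp2
  · exact hp3
  · exact hp4
  · exact hp5
  · exact hp6
  · exact hp7
  · exact hp8
  · exact hp9
  · exact hp10
  · exact hp11
  · exact hp12
  · exact hp13
  · exact hp14
  · exact hp15
  · exact hp16

theorem pair_mul {a b : ℕ} (h : ([a, b].map gM).prod = 1) : gM a * gM b = 1 := by
  simpa using h

/-- the unit of a generator -/
noncomputable def φ : HN.Gen → GL (Fin 133) (ZMod 5)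
  | .x => ⟨gM 0, gM 1, pair_mul (hp14), mul_eq_one_comm.mp (pair_mul (hp14))⟩
  | .y => ⟨gM 2, gM 3, pair_mul (hp15), mul_eq_one_comm.mp (pair_mul (hp15))⟩
  | .z => ⟨gM 4, gM 4, pair_mul (hp6), pair_mul (hp6)⟩
  | .t => ⟨gM 5, gM 6, pair_mul (hp16), mul_eq_one_comm.mp (pair_mul (hp16))⟩

/-- the unit of a column -/
noncomputable def U : ℕ → GL (Fin 133) (ZMod 5)
  | 0 => φ .x
  | 1 => (φ .x)⁻¹
  | 2 => φ .y
  | 3 => (φ .y)⁻¹
  | 4 => φ .z
  | 5 => φ .t
  | _ => (φ .t)⁻¹

theorem U_val (c : ℕ) : ((U c : GL (Fin 133) (ZMod 5)) : Matrix (Fin 133) (Fin 133) (ZMod 5)) = gM c := by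
  match c with
  | 0 => rfl
  | 1 => rfl
  | 2 => rfl
  | 3 => rfl
  | 4 => rfl
  | 5 => rfl
  | (k + 6) => rfl

theorem lift_ce (c : ℕ) : FreeGroup.lift φ (ceOf HN.gc c) = U c := by
  match c with
  | 0 => exact FreeGroup.lift_apply_of
  | 1 => show FreeGroup.lift φ (HN.x⁻¹) = _; rw [map_inv]; exact congrArg _ FreeGroup.lift_apply_of
  | 2 => exact FreeGroup.lift_apply_of
  | 3 => show FreeGroup.lift φ (HN.y⁻¹) = _; rw [map_inv]; exact congrArg _ FreeGroup.lift_apply_of
  | 4 => exact FreeGroup.lift_apply_of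
  | 5 => exact FreeGroup.lift_apply_of
  | (k + 6) => show FreeGroup.lift φ (HN.t⁻¹) = _; rw [map_inv]; exact congrArg _ FreeGroup.lift_apply_of

theorem lift_word (w : List ℕ) : FreeGroup.lift φ (wordElt HN.gc w) = (w.map U).prod := by
  induction w with
  | nil => simp [wordElt_nil]
  | cons c w ih => rw [wordElt_cons, map_mul, ih, lift_ce, List.map_cons, List.prod_cons]

theorem val_prod (w : List ℕ) :
    (((w.map U).prod : GL (Fin 133) (ZMod 5)) : Matrix (Fin 133) (Fin 133) (ZMod 5)) = (w.map gM).prod := by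
  induction w with
  | nil => simp
  | cons c w ih => rw [List.map_cons, List.prod_cons, Units.val_mul, ih, U_val, List.map_cons, List.prod_cons]

theorem lift_base : ∀ b ∈ HN.base, FreeGroup.lift φ (wordElt HN.gc b) = 1 := by
  intro b hb
  rw [lift_word]
  apply Units.ext
  rw [val_prod, hbaseM b hb, Units.val_one]

theorem hrels : ∀ r ∈ HN.Rels, FreeGroup.lift φ r = 1 := by
  intro r hr
  rcases hr with hr | hr
  · obtain ⟨a, ha, _⟩ := hr
    exact absurd ha (by simp [coxNodes, HN.edges])
  · have hr' : r ∈ HN.extra := hr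
    have hz : FreeGroup.lift φ HN.z * FreeGroup.lift φ HN.z = 1 := by
      have := lift_base [4, 4] (by decide)
      rw [wordElt_cons, wordElt_cons, wordElt_nil, mul_one, map_mul] at this
      exact this
    simp only [HN.extra, List.mem_cons, List.mem_nil_iff, or_false] at hr'
    rcases hr' with rfl | rfl | rfl | rfl | rfl | rfl | rfl | rfl | rfl | rfl | rfl | rfl | rfl | rfl
    · have := lift_base _ (by decide +kernel : [2, 2, 2, 2, 2, 2] ∈ HN.base)
      rw [HN.hb0] at this; exact this
    · have := lift_base _ (by decide +kernel : [0, 0, 2, 0, 0, 3] ∈ HN.base)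
      rw [HN.hb1] at this; exact this
    · have := lift_base _ (by decide +kernel : [1, 3, 0, 2, 1, 3, 0, 2, 1, 3, 0, 2] ∈ HN.base)
      rw [HN.hb2] at this; exact this
    · have := lift_base _ (by decide +kernel : [1, 2, 2, 0, 2, 2, 2, 1, 2, 2, 0, 2, 2, 2, 1, 2, 2, 0, 2, 2, 2] ∈ HN.base)
      rw [HN.hb3] at this; exact this
    · have := lift_base _ (by decide +kernel : [0, 2, 0, 2, 0, 2, 0, 2, 0, 2, 0, 2, 0, 2, 0, 2] ∈ HN.base)
      rw [HN.hb4] at this; exact this
    · have := lift_base _ (by decide +kernel : [0, 2, 0, 2, 2, 2, 0, 2, 0, 2, 2, 2, 0, 2, 0, 2, 2, 2, 0, 2, 0, 2, 2, 2] ∈ HN.base)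
      rw [HN.hb5] at this; exact this
    · have := lift_base _ (by decide +kernel : [4, 4] ∈ HN.base)
      rw [HN.hb6] at this; exact this
    · have := lift_base _ (by decide +kernel : [4, 0, 4, 0] ∈ HN.base)
      rw [HN.hb7] at this; exact this
    · have h8 := lift_base _ (by decide +kernel : [4, 2, 1, 3, 3, 1, 3, 1, 3, 4, 2, 0, 2, 0, 2, 2, 0, 3, 1, 1] ∈ HN.base)
      rw [wordElt_cons, map_mul, HN.ce4] at h8
      have e2 : FreeGroup.lift φ (HN.extra[8]'(by decide)) = 1 := by
        rw [HN.hb8, map_mul, map_inv, inv_mul_eq_one]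
        exact mul_left_cancel (hz.trans h8.symm)
      exact e2
    · have := lift_base _ (by decide +kernel : [4, 3, 1, 3, 1, 3, 3, 3, 4, 2, 2, 2, 0, 2, 0, 2, 0, 3, 1, 3, 1, 3, 3, 3, 4, 2, 2, 2, 0, 2, 0, 2, 0, 3, 1, 3, 1, 3, 3, 3, 4, 2, 2, 2, 0, 2, 0, 2, 0] ∈ HN.base)
      rw [HN.hb9] at this; exact this
    · have := lift_base _ (by decide +kernel : [5, 5, 5, 5, 5] ∈ HN.base)
      rw [HN.hb10] at this; exact this
    · have := lift_base _ (by decide +kernel : [1, 5, 0, 5, 5] ∈ HN.base)
      rw [HN.hb11] at this; exact this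
    · have := lift_base _ (by decide +kernel : [6, 3, 5, 2] ∈ HN.base)
      rw [HN.hb12] at this; exact this
    · have := lift_base _ (by decide +kernel : [4, 5, 4, 5, 4, 5] ∈ HN.base)
      rw [HN.hb13] at this; exact this

/-- the representation -/
noncomputable def hom : PresentedGroup HN.Rels →* GL (Fin 133) (ZMod 5) := PresentedGroup.toGroup hrels

theorem hom_word (w : List ℕ) :
    hom (PresentedGroup.mk HN.Rels (wordElt HN.gc w)) = (w.map U).prod := by
  rw [← lift_word]
  rfl

theorem entry : dg ((wordM 5 133 gN [0, 0]).getD 0 0) 0 = 2 := by decide +kernel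

/-- the square of `x` is not trivial in the presented group -/
theorem xx_ne_one : PresentedGroup.mk HN.Rels (wordElt HN.gc [0, 0]) ≠ 1 := by
  intro h
  have h1 : (([0, 0].map U).prod : GL (Fin 133) (ZMod 5)) = 1 := by
    rw [← hom_word, h, map_one]
  have h2 : ([0, 0].map gM).prod = 1 := by
    rw [← val_prod, h1, Units.val_one]
  rw [← toMat_word] at h2
  have h3 : toMat 5 133 (wordM 5 133 gN [0, 0]) (0 : Fin 133) (0 : Fin 133) = ((2 : ℕ) : ZMod 5) := by
    show ((dg ((wordM 5 133 gN [0, 0]).getD ((0 : Fin 133) : ℕ) 0) ((0 : Fin 133) : ℕ) : ℕ) : ZMod 5) = _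
    rw [show ((0 : Fin 133) : ℕ) = 0 from rfl, entry]
  rw [h2, Matrix.one_apply_eq] at h3
  revert h3
  decide

end Cfsg.Agent.Lib.Helper6.HNM133
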