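import Cfsg.Agent.Lib.Helper6.Spor.HNP1Ord
import Cfsg.Agent.Lib.Helper6.TCP.HN
import Cfsg.Agent.Lib.Helper6.WP6

set_option autoImplicit false

namespace Cfsg.Agent.Lib.Helper6.HNOra

open Cfsg.Agent.Lib.Helper6.TC Cfsg.Agent.Lib.Helper6.TCD Cfsg.Agent.Lib.Helper6.TCP

/-! # Words in `x` and `y` which are trivial in the group presented by the relators between `x` and
`y` are trivial in the presented group `HN` -/

theorem hsub : ∀ b ∈ HNP1.base, b ∈ HN.base := by decide +kernel

theorem hrel : ∀ b ∈ HNP1.base,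
    PresentedGroup.mk HN.Rels (wordElt HN.gc (b.map (fun i => i))) = 1 := by
  intro b hb
  rw [List.map_id']
  exact HN.hbase b (hsub b hb)

/-- the map from the group presented by the relators between `x` and `y` -/
noncomputable def psi : HNP1.G →* PresentedGroup HN.Rels :=
  wpHom (k := 4) (rels := HN.Rels) (gc := HN.gc) (fun i => i) HNP1.hbl hrel

theorem psi_word (w : List ℕ) (hw : ∀ c ∈ w, c < 4) :
    psi (PresentedGroup.mk HNP1.Rels (wordElt HNP1.gc w)) =
      PresentedGroup.mk HN.Rels (wordElt HN.gc w) := by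
  show FreeGroup.lift (fun i : Fin 4 => PresentedGroup.mk HN.Rels (ceOf HN.gc ((fun i => i) i.val)))
    (wordElt (gcF 4) w) = _
  rw [lift_wordElt_map (fun i => i) w hw, List.map_id']

/-- a word fixing three points is trivial in the group presented by the relators between `x`
and `y` -/
theorem oracle1 (wd : List ℕ) (hwd : ∀ c ∈ wd, c < 4)
    (h0 : wapp HNP1sa.px wd 0 = 0) (h1 : wapp HNP1sa.px wd 309 = 309)
    (h2 : wapp HNP1sa.px wd 1 = 1) :
    PresentedGroup.mk HNP1.Rels (wordElt HNP1.gc wd) = 1 := by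
  obtain ⟨φ, hw, _, _, _, hfix⟩ := HNP1Ord.rep
  have hmem := welt_mem_ptFix hw wd hwd
    ([⟨1, by decide⟩, ⟨309, by decide⟩, ⟨0, by decide⟩] : List (Fin 1512)) (by
      intro b hb
      simp only [List.mem_cons, List.not_mem_nil, or_false] at hb
      rcases hb with rfl | rfl | rfl
      · exact h2
      · exact h1
      · exact h0)
  rw [hfix, Subgroup.mem_bot] at hmem
  unfold welt at hmem
  exact inv_eq_one.mp hmem

theorem oracle (wd : List ℕ) (hwd : ∀ c ∈ wd, c < 4)
    (h0 : wapp HNP1sa.px wd 0 = 0) (h1 : wapp HNP1sa.px wd 309 = 309)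
    (h2 : wapp HNP1sa.px wd 1 = 1) :
    PresentedGroup.mk HN.Rels (wordElt HN.gc wd) = 1 := by
  rw [← psi_word wd hwd, oracle1 wd hwd h0 h1 h2, map_one]

end Cfsg.Agent.Lib.Helper6.HNOra
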