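import Mathlib
import Cfsg.Agent.Lib.Helper6.TCP.HNP2W
import Cfsg.Agent.Lib.Helper6.TC14
import Cfsg.Agent.Lib.Helper6.TCD.HNP2Wa.AllS

set_option autoImplicit false

namespace Cfsg.Agent.Lib.Helper6.HNP2WIdx
open Cfsg.Agent.Lib.Helper6.TC Cfsg.Agent.Lib.Helper6.TCP.HNP2W Cfsg.Agent.Lib.Helper6.TCD.HNP2Wa

/-! # The index and the suborbits of a subgroup of the group `HNP2W` presented by words -/

section helpers
set_option maxRecDepth 100000
set_option linter.unusedSimpArgs false

/-- the words of the generators of the subgroup -/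
def subw : List (List ℕ) := [[0], [2]]

/-- the generating set of the subgroup -/
abbrev S : Set (FreeGroup (Fin 5)) := wset 5 subw

theorem hsw : ∀ s ∈ S, ∃ w ∈ subw, s = wordElt gc w := wp_hsw subw

theorem hsw' : ∀ w ∈ subw, (∀ c ∈ w, c < 5) ∧ wordElt gc w ∈ S := wp_hsw' (by decide)

theorem chkW : allB (chkWord WD WI base subw Cfsg.Agent.Lib.Helper6.TCD.HNP2Wa.INV ncol nrw) nw = true := by
  decide +kernel

theorem hS : ∀ s < n * ncol, chkSlot SH SC NH NC WD n ncol nrw nw tmax Cfsg.Agent.Lib.Helper6.TCD.HNP2Wa.INV s = true := by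
  intro s hs
  have hs' : s < 17850 := hs
  by_cases h0 : s < 8000
  · exact allR_spec chkS0 s (by omega) (by omega)
  by_cases h1 : s < 16000
  · exact allR_spec chkS1 s (by omega) (by omega)
  by_cases h2 : s < 17850
  · exact allR_spec chkS2 s (by omega) (by omega)
  omega

theorem hN : ∀ ν < n, chkName SH NH NC WD n ncol nrw nw tmax ν = true := by
  intro ν hν
  have hν' : ν < 3570 := hν
  by_cases h0 : ν < 3570
  · exact allR_spec chkN0 ν (by omega) (by omega)
  omega

theorem hL : ∀ ν < n, chkLive SH NH n ncol tmax ν = true := by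
  intro ν hν
  have hν' : ν < 3570 := hν
  by_cases h0 : ν < 3570
  · exact allR_spec chkL0 ν (by omega) (by omega)
  omega

theorem hwords :
    (∀ j < nrw, j < nw → PresentedGroup.mk Rels (wordElt gc (wordL WD j)) = 1) ∧
    (∀ j, nrw ≤ j → j < nw → wordElt gc (wordL WD j) ∈ Subgroup.closure S) ∧
    (∀ j < nw, ∀ c ∈ wordL WD j, c < ncol) :=
  words_ok (S := S) (nw := nw) hinvG hbl hbase
    (fun w hw => Subgroup.subset_closure (hsw' w hw).2) (fun j hj => allB_spec chkW j hj)

theorem idx_le : (subH Rels S).index ≤ N ∧ (subH Rels S).index ≠ 0 := by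
  have h := index_le (rels := Rels) (S := S) (gc := gc) (n := n) (ncol := ncol) (nrw := nrw) (nw := nw)
    (tmax := tmax) (INV := Cfsg.Agent.Lib.Helper6.TCD.HNP2Wa.INV) (SH := SH) (SC := SC) (NH := NH) (NC := NC) (WD := WD)
    (by decide) hgen hinv1 hinvG (fun j hj => hwords.1 j hj (by unfold nrw nw at *; omega)) hwords.2.1 hwords.2.2 hS hN hL
  have e : cntLive NH n tmax n = N := chkC
  rw [e] at h
  exact h

end helpers

end Cfsg.Agent.Lib.Helper6.HNP2WIdx
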