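import Cfsg.Agent.Lib.Helper6.WP3
import Cfsg.Agent.Lib.Helper6.Spor.HNP2WIdx
import Cfsg.Agent.Lib.Helper6.Spor.HNOra
import Cfsg.Agent.Lib.Helper6.TCP.HNP1W

set_option autoImplicit false
set_option maxRecDepth 100000

namespace Cfsg.Agent.Lib.Helper6.HNP2WUB

open Cfsg.Agent.Lib.Helper6.TC Cfsg.Agent.Lib.Helper6.TCD Cfsg.Agent.Lib.Helper6.TCP

/-! # The order of the group `HNP2W` presented by words is at most 177408000 -/

/-- the additional relator -/
def w0 : List ℕ := [1, 2, 2, 1, 3, 1, 3, 1, 2, 2, 0, 3, 3, 0, 2, 0, 2, 0, 3, 3]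

theorem hmap1 : ∀ b ∈ HNP1.base, b.map (fun i => i) ∈ HNP1W.base := by decide +kernel

/-- the map onto the group with the additional relator -/
noncomputable def pi1 : HNP1.G →* HNP1W.G :=
  wpHom (k := 4) (rels := HNP1W.Rels) (gc := HNP1W.gc) (fun i => i) HNP1.hbl
    (fun b hb => HNP1W.hbase _ (hmap1 b hb))

theorem pi1_surj : Function.Surjective pi1 := by
  rw [← MonoidHom.range_eq_top, eq_top_iff, ← PresentedGroup.closure_range_of, Subgroup.closure_le]
  rintro _ ⟨i, rfl⟩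
  refine ⟨PresentedGroup.mk _ (FreeGroup.of i), ?_⟩
  unfold pi1
  rw [wpHom_of]
  show PresentedGroup.mk HNP1W.Rels (FreeGroup.of (Fin.ofNat 4 i.val)) = _
  congr 2
  apply Fin.ext
  rw [Fin.val_ofNat, Nat.mod_eq_of_lt i.isLt]

/-- the element of order three of the kernel -/
noncomputable def cc : HNP1.G := PresentedGroup.mk HNP1.Rels (wordElt HNP1.gc w0)

theorem cc_ker : pi1 cc = 1 := by
  unfold cc pi1
  show FreeGroup.lift (fun i : Fin 4 => PresentedGroup.mk HNP1W.Rels (ceOf HNP1W.gc ((fun i => i) i.val)))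
    (wordElt (gcF 4) w0) = _
  rw [lift_wordElt_map (fun i => i) w0 (by decide), List.map_id']
  exact HNP1W.hbase w0 (by decide)

theorem cube_chk : wapp HNP1sa.px (w0 ++ (w0 ++ w0)) 0 = 0 ∧ wapp HNP1sa.px (w0 ++ (w0 ++ w0)) 309 = 309 ∧
    wapp HNP1sa.px (w0 ++ (w0 ++ w0)) 1 = 1 := by decide +kernel

theorem move_chk : wapp HNP1sa.px w0 0 = 702 := by decide +kernel

theorem cc_cube : cc ^ 3 = 1 := by
  have h := HNOra.oracle1 (w0 ++ (w0 ++ w0)) (by decide) cube_chk.1 cube_chk.2.1 cube_chk.2.2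
  rw [wordElt_append, wordElt_append, map_mul, map_mul] at h
  rw [pow_succ, pow_two]
  unfold cc
  rw [mul_assoc]
  exact h

theorem cc_ne : cc ≠ 1 := by
  intro h
  obtain ⟨φ, hw, _, _, _, _⟩ := HNP1Ord.rep
  have h1 := hw w0 (by decide) ⟨0, by decide⟩
  have e : PresentedGroup.mk HNP1.Rels (wordElt HNP1.gc w0) = 1 := h
  rw [e, map_one, inv_one, Equiv.Perm.one_apply, move_chk] at h1
  exact absurd h1 (by decide)

theorem p1w_le : Finite HNP1W.G ∧ Nat.card HNP1W.G ≤ 504000 := by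
  obtain ⟨_, _, _, hcard, hfin, _⟩ := HNP1Ord.rep
  haveI : Finite HNP1.G := hfin
  have hfinW : Finite HNP1W.G := Finite.of_surjective pi1 pi1_surj
  refine ⟨hfinW, ?_⟩
  have h1 : Nat.card pi1.ker * pi1.ker.index = Nat.card HNP1.G := Subgroup.card_mul_index _
  rw [Subgroup.index_ker, MonoidHom.range_eq_top.mpr pi1_surj, Subgroup.card_top, hcard] at h1
  have ho : orderOf cc = 3 := orderOf_eq_prime cc_cube cc_ne
  have hmem : cc ∈ pi1.ker := cc_ker
  have h3 : 3 ∣ Nat.card pi1.ker := by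
    have := orderOf_dvd_natCard (⟨cc, hmem⟩ : pi1.ker)
    rw [Subgroup.orderOf_mk, ho] at this
    exact this
  obtain ⟨q, hq⟩ := h3
  rw [hq] at h1
  have hqpos : 0 < q := by
    rcases Nat.eq_zero_or_pos q with h | h
    · rw [h] at h1; omega
    · exact h
  nlinarith

theorem card_le : Finite HNP2W.G ∧ Nat.card HNP2W.G ≤ 177408000 := by
  have h := wp_step (k := 5) (k' := 4) (base := HNP2W.base) (subw := HNP2WIdx.subw)
    (base' := HNP1W.base) (fun i => i) HNP2WIdx.idx_le (by decide) HNP1W.hbl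
    (by decide +kernel) p1w_le
  exact ⟨h.1, h.2.trans (by norm_num [TCD.HNP2Wa.N])⟩

end Cfsg.Agent.Lib.Helper6.HNP2WUB
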