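import Cfsg.Agent.Lib.Helper6.LTC3
import Cfsg.Agent.Lib.Helper6.TCD.HNL.All
import Cfsg.Agent.Lib.Helper6.Spor.HNOra

set_option autoImplicit false
set_option maxRecDepth 100000

namespace Cfsg.Agent.Lib.Helper6.HNW0

open Cfsg.Agent.Lib.Helper6.TC Cfsg.Agent.Lib.Helper6.LTC Cfsg.Agent.Lib.Helper6.TCD
open Cfsg.Agent.Lib.Helper6.TCP

/-! # A word in `x` and `y` which is trivial in the presented group `HN` (by a labelled coset
enumeration over the subgroup generated by `x` and `y`) -/

theorem chkW : allB (chkWord HNL.WD HNL.WI HN.base [] 90448641 7 84) 84 = true := by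
  decide +kernel

theorem hF : ∀ f < 83325, chkFact HNL.NC HNL.FT HNL.FL HNL.FK HNL.FS HNL.FJ HNL.WD HNP1sa.px 7 4 84
    90448641 0 309 1 f = true := by
  intro f hf
  by_cases h0 : f < 6790
  · exact allR_spec HNL.chkF0 f (by omega) (by omega)
  by_cases h1 : f < 12661
  · exact allR_spec HNL.chkF1 f (by omega) (by omega)
  by_cases h2 : f < 20717
  · exact allR_spec HNL.chkF2 f (by omega) (by omega)
  by_cases h3 : f < 28739
  · exact allR_spec HNL.chkF3 f (by omega) (by omega)
  by_cases h4 : f < 36467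
  · exact allR_spec HNL.chkF4 f (by omega) (by omega)
  by_cases h5 : f < 44537
  · exact allR_spec HNL.chkF5 f (by omega) (by omega)
  by_cases h6 : f < 52529
  · exact allR_spec HNL.chkF6 f (by omega) (by omega)
  by_cases h7 : f < 59510
  · exact allR_spec HNL.chkF7 f (by omega) (by omega)
  by_cases h8 : f < 62305
  · exact allR_spec HNL.chkF8 f (by omega) (by omega)
  by_cases h9 : f < 63638
  · exact allR_spec HNL.chkF9 f (by omega) (by omega)
  by_cases h10 : f < 65265
  · exact allR_spec HNL.chkF10 f (by omega) (by omega)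
  by_cases h11 : f < 67016
  · exact allR_spec HNL.chkF11 f (by omega) (by omega)
  by_cases h12 : f < 69175
  · exact allR_spec HNL.chkF12 f (by omega) (by omega)
  by_cases h13 : f < 71204
  · exact allR_spec HNL.chkF13 f (by omega) (by omega)
  by_cases h14 : f < 72833
  · exact allR_spec HNL.chkF14 f (by omega) (by omega)
  by_cases h15 : f < 74875
  · exact allR_spec HNL.chkF15 f (by omega) (by omega)
  by_cases h16 : f < 76947
  · exact allR_spec HNL.chkF16 f (by omega) (by omega)
  by_cases h17 : f < 78991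
  · exact allR_spec HNL.chkF17 f (by omega) (by omega)
  by_cases h18 : f < 80801
  · exact allR_spec HNL.chkF18 f (by omega) (by omega)
  by_cases h19 : f < 82052
  · exact allR_spec HNL.chkF19 f (by omega) (by omega)
  exact allR_spec HNL.chkF20 f (by omega) (by omega)

theorem lhyp : LHyp HNL.NC HNL.FT HNL.FL HNL.FK HNL.FS HNL.FJ HNL.WD HNP1sa.px 7 4 84 83325
    90448641 0 309 1 HN.Rels HN.gc where
  hinvG := HN.hinvG
  hwords := fun j hj =>
    (words_ok (S := (∅ : Set (FreeGroup Cfsg.Spor.HN.Gen))) (nw := 84) HN.hinvG HN.hbl HN.hbase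
      (fun w hw => absurd hw List.not_mem_nil) (fun j hj => allB_spec chkW j hj)).1 j hj hj
  horacle := HNOra.oracle
  hkA := by norm_num
  hF := hF

theorem final_lab : plets (HNL.FL 83324) = [1, 2, 2, 1, 3, 1, 3, 1, 2, 2, 0, 3, 3, 0, 2, 0, 2, 0, 3, 3] := by decide +kernel

theorem final_ab : fa HNL.FT 83324 = fb HNL.FT 83324 := by decide +kernel

theorem final_l : ¬ fl HNL.FT 83324 < 7 := by decide +kernel

/-- the word is trivial in the presented group -/
theorem w0_trivial : PresentedGroup.mk HN.Rels (wordElt HN.gc [1, 2, 2, 1, 3, 1, 3, 1, 2, 2, 0, 3, 3, 0, 2, 0, 2, 0, 3, 3]) = 1 := by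
  have h := label_trivial lhyp (f := 83324) (by norm_num) final_ab final_l
  rw [final_lab] at h
  exact h

end Cfsg.Agent.Lib.Helper6.HNW0
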