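import Cfsg.Agent.Lib.Helper1.HSM1
import Cfsg.Agent.S1586
import Cfsg.Agent.Lib.Helper6.TCP.HNP2W
import Cfsg.Agent.Lib.Helper6.WP10
import Cfsg.Agent.Lib.Helper6.TCD.HS100L.LB

set_option autoImplicit false
set_option Elab.async false

namespace Cfsg.Agent.Lib.Helper6.HSRep

open Cfsg Cfsg.Agent.Lib.Helper1.HSG Cfsg.Agent.Lib.Helper1.HSM Cfsg.Agent.Lib.Helper1.HSI
open Cfsg.Agent.Lib.Helper1.Stein
open Cfsg.Agent.Lib.Helper6.TC Cfsg.Agent.Lib.Helper6.TCD Cfsg.Agent.Lib.Helper6.TCP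

/-! # The group presented by the relators of the Harada–Norton presentation between x, y and z acts
on the standard graph on 100 vertices -/

/-- the table of the column 0 (acting on the right) -/
def LX : List ℕ := [91, 65, 40, 68, 22, 31, 73, 46, 35, 20, 66, 14, 38, 25, 11, 71, 41, 47, 50, 70, 9, 44, 4, 83, 61, 13, 99, 39, 57, 88, 74, 5, 94, 97, 54, 8, 82, 77, 12, 27, 2, 16, 92, 59, 21, 87, 7, 17, 51, 81, 18, 48, 84, 62, 34, 80, 75, 28, 64, 43, 89, 24, 53, 86, 58, 1, 10, 95, 3, 76, 19, 15, 93, 6, 30, 56, 69, 37, 98, 90, 55, 49, 36, 23, 52, 96, 63, 45, 29, 60, 79, 0, 42, 72, 32, 67, 85, 33, 78, 26]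

/-- the table of the column 1 (acting on the right) -/
def LXi : List ℕ := [91, 65, 40, 68, 22, 31, 73, 46, 35, 20, 66, 14, 38, 25, 11, 71, 41, 47, 50, 70, 9, 44, 4, 83, 61, 13, 99, 39, 57, 88, 74, 5, 94, 97, 54, 8, 82, 77, 12, 27, 2, 16, 92, 59, 21, 87, 7, 17, 51, 81, 18, 48, 84, 62, 34, 80, 75, 28, 64, 43, 89, 24, 53, 86, 58, 1, 10, 95, 3, 76, 19, 15, 93, 6, 30, 56, 69, 37, 98, 90, 55, 49, 36, 23, 52, 96, 63, 45, 29, 60, 79, 0, 42, 72, 32, 67, 85, 33, 78, 26]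

/-- the table of the column 2 (acting on the right) -/
def LY : List ℕ := [93, 12, 72, 39, 63, 2, 23, 28, 8, 49, 16, 64, 70, 46, 22, 42, 36, 44, 68, 34, 20, 74, 48, 50, 38, 7, 24, 87, 97, 89, 83, 71, 4, 86, 98, 30, 1, 15, 69, 90, 27, 43, 37, 81, 73, 47, 67, 45, 5, 88, 3, 0, 59, 75, 58, 62, 54, 61, 91, 60, 57, 99, 76, 84, 25, 41, 26, 21, 32, 80, 10, 40, 14, 17, 85, 53, 55, 92, 56, 35, 66, 29, 95, 82, 18, 13, 33, 96, 9, 65, 6, 94, 77, 51, 78, 79, 31, 11, 19, 52]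

/-- the table of the column 3 (acting on the right) -/
def LYi : List ℕ := [51, 36, 5, 50, 32, 48, 90, 25, 8, 88, 70, 97, 1, 85, 72, 37, 10, 73, 84, 98, 20, 67, 14, 6, 26, 64, 66, 40, 7, 81, 35, 96, 68, 86, 19, 79, 16, 42, 24, 3, 71, 65, 15, 41, 17, 47, 13, 45, 22, 9, 23, 93, 99, 75, 56, 76, 78, 60, 54, 52, 59, 57, 55, 4, 11, 89, 80, 46, 18, 38, 12, 31, 2, 44, 21, 53, 62, 92, 94, 95, 69, 43, 83, 30, 63, 74, 33, 27, 49, 29, 39, 58, 77, 0, 91, 82, 87, 28, 34, 61]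

/-- the table of the column 4 (acting on the right) -/
def LZ : List ℕ := [91, 68, 31, 65, 4, 40, 73, 50, 35, 9, 66, 11, 38, 41, 14, 71, 25, 47, 46, 70, 20, 44, 22, 23, 48, 16, 72, 39, 28, 49, 74, 2, 42, 63, 34, 8, 36, 64, 12, 27, 5, 13, 32, 43, 21, 45, 18, 17, 24, 29, 7, 61, 52, 62, 54, 55, 75, 57, 77, 59, 60, 51, 53, 33, 37, 3, 10, 67, 1, 69, 19, 15, 26, 6, 30, 56, 76, 58, 78, 90, 80, 88, 82, 83, 84, 96, 97, 87, 81, 89, 79, 0, 94, 99, 92, 95, 85, 86, 98, 93]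

theorem permX : TblPerm LXi LX := by
  unfold TblPerm
  decide +kernel

theorem permXi : TblPerm LX LXi := by
  unfold TblPerm
  decide +kernel

theorem permY : TblPerm LYi LY := by
  unfold TblPerm
  decide +kernel

theorem permYi : TblPerm LY LYi := by
  unfold TblPerm
  decide +kernel

theorem permZ : TblPerm LZ LZ := by
  unfold TblPerm
  decide +kernel

set_option maxRecDepth 1000000 in
theorem adjX : TblAdj LX := by
  unfold TblAdj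
  decide +kernel

set_option maxRecDepth 1000000 in
theorem adjXi : TblAdj LXi := by
  unfold TblAdj
  decide +kernel

set_option maxRecDepth 1000000 in
theorem adjY : TblAdj LY := by
  unfold TblAdj
  decide +kernel

set_option maxRecDepth 1000000 in
theorem adjYi : TblAdj LYi := by
  unfold TblAdj
  decide +kernel

set_option maxRecDepth 1000000 in
theorem adjZ : TblAdj LZ := by
  unfold TblAdj
  decide +kernel

/-- the automorphism of a column -/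
def f : ℕ → GA S22
  | 0 => autOfList LXi LX permX adjXi
  | 1 => autOfList LX LXi permXi adjX
  | 2 => autOfList LYi LY permY adjYi
  | 3 => autOfList LY LYi permYi adjY
  | _ => autOfList LZ LZ permZ adjZ

theorem φ0_inv_autOfList (l l' : List ℕ) (hp : TblPerm l l') (ha : TblAdj l) (i : Fin 100) :
    ((φ0 (autOfList l l' hp ha))⁻¹ i).val = l'.getD i.val 0 := by
  rw [← map_inv, φ0_apply]
  show encV (decV (l'.getD (encV (decV i)) 0)) = _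
  rw [encV_decV i.2, encV_decV (hp _ i.2).2.1]

set_option maxRecDepth 1000000 in
theorem tab_chk : ∀ p : Fin 100, LX.getD p.val 0 = HS100a.P0 p.val ∧ LXi.getD p.val 0 = HS100a.P1 p.val ∧
    LY.getD p.val 0 = HS100a.P2 p.val ∧ LYi.getD p.val 0 = HS100a.P3 p.val ∧
    LZ.getD p.val 0 = HS100a.P4 p.val := by
  decide +kernel

theorem inv_f (c : ℕ) (p : Fin 100) : ((φ0 (f c))⁻¹ p).val = HS100a.px c p.val := by
  match c with
  | 0 => exact (φ0_inv_autOfList LXi LX permX adjXi p).trans (tab_chk p).1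
  | 1 => exact (φ0_inv_autOfList LX LXi permXi adjX p).trans (tab_chk p).2.1
  | 2 => exact (φ0_inv_autOfList LYi LY permY adjYi p).trans (tab_chk p).2.2.1
  | 3 => exact (φ0_inv_autOfList LY LYi permYi adjY p).trans (tab_chk p).2.2.2.1
  | (k + 4) => exact (φ0_inv_autOfList LZ LZ permZ adjZ p).trans (tab_chk p).2.2.2.2

theorem inv_word (b : List ℕ) : ∀ p : Fin 100,
    ((φ0 ((b.map f).prod))⁻¹ p).val = wapp HS100a.px b p.val := by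
  induction b with
  | nil =>
    intro p
    rw [List.map_nil, List.prod_nil, map_one, inv_one, Equiv.Perm.one_apply, wapp_nil]
  | cons c b ih =>
    intro p
    rw [List.map_cons, List.prod_cons, map_mul, mul_inv_rev, Equiv.Perm.mul_apply, wapp_cons, ih,
      inv_f]

set_option maxRecDepth 1000000 in
theorem fix_chk : ∀ b ∈ HNP2W.base, ∀ p < 100, wapp HS100a.px b p = p := by decide +kernel

theorem prod_eq_one {b : List ℕ} (h : ∀ p < 100, wapp HS100a.px b p = p) : (b.map f).prod = 1 := by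
  apply φ0_injective
  rw [map_one, ← inv_inj, inv_one]
  ext p
  rw [inv_word, h p.val p.isLt, Equiv.Perm.one_apply]

theorem hrelF : ∀ b ∈ HNP2W.base, (b.map f).prod = 1 := fun b hb => prod_eq_one (fix_chk b hb)

/-- the action on the graph -/
noncomputable def gbar : HNP2W.G →* GA S22 := wgHom f HNP2W.hbl hrelF

theorem gbar_word (w : List ℕ) (hw : ∀ c ∈ w, c < 5) :
    gbar (PresentedGroup.mk HNP2W.Rels (wordElt HNP2W.gc w)) = (w.map f).prod :=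
  lift_wordElt_prod f w hw

/-- the action on the codes of the vertices -/
noncomputable def phi : HNP2W.G →* Equiv.Perm (Fin 100) := φ0.comp gbar

theorem hw : ∀ w, (∀ c ∈ w, c < 5) → ∀ p : Fin 100,
    ((phi (PresentedGroup.mk HNP2W.Rels (wordElt HNP2W.gc w)))⁻¹ p).val =
      wapp HS100a.px w p.val := by
  intro w hwl p
  show ((φ0 (gbar _))⁻¹ p).val = _
  rw [gbar_word w hwl, inv_word]

theorem phi_ker (g : HNP2W.G) : phi g = 1 ↔ gbar g = 1 := by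
  show φ0 (gbar g) = 1 ↔ _
  rw [← map_one φ0]
  exact φ0_injective.eq_iff

/-- the lower bound for the order -/
theorem lb [Finite HNP2W.G] :
    88704000 * Nat.card (ptFix phi ([⟨3, by decide⟩, ⟨2, by decide⟩, ⟨1, by decide⟩, ⟨8, by decide⟩, ⟨20, by decide⟩] : List (Fin 100))) ≤
      Nat.card HNP2W.G :=
  HS100L.chain_lb (φ := phi) hw

/-! ## The centraliser of the action is trivial -/

/-- words leading from the code 20 to the other codes -/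
def reach : List (List ℕ) := [[0, 2, 0, 3, 0, 3, 3, 4, 3], [0, 2, 4, 2, 2, 0], [0, 2, 0, 3, 0, 3, 3, 0, 4, 3], [0, 2, 4, 2, 2, 4], [0, 2, 0, 3, 0, 3, 0, 3, 3], [0, 2, 0, 3, 3, 4, 3, 0, 2, 0], [0, 2, 4, 2, 2, 4, 2, 2, 2], [0, 2, 0, 3, 3, 0, 4, 2], [0, 2, 0, 3, 3, 4, 3, 3, 0, 3, 0], [0], [0, 2, 0, 3, 3, 0, 3], [0, 2, 0, 3, 3, 0, 4, 3, 3], [0, 2, 4, 2, 2, 0, 2], [0, 2, 0, 3, 3, 4], [0, 2, 0, 3, 0, 3, 3, 0, 4, 2], [0, 2, 0, 3, 3, 0, 4, 3, 4, 2], [0, 2, 0, 3, 3, 0], [0, 2, 0, 3, 3, 4, 2, 2, 2, 0, 3], [0, 2, 0, 3, 0, 3, 0, 2], [0, 2, 0, 3, 3, 0, 3, 3, 0], [], [0, 2, 0, 3, 3, 4, 2, 2, 2], [0, 2, 0, 3, 0, 3, 0, 3, 3, 0], [0, 2, 4, 2, 2, 4, 3, 3], [0, 2, 4, 2, 0, 2, 2, 0], [0, 2, 0, 3, 3, 0, 4], [0, 2, 0, 3, 0, 3, 3, 0], [0, 2, 4, 2, 2, 4, 2, 0], [0, 2, 4, 2, 0, 2, 0], [0, 2, 4], [0, 2, 0, 3, 3, 4, 3, 3, 0], [0, 2, 0, 3, 3, 4, 3, 0, 2], [0, 2, 4, 2, 2, 0, 4, 2], [0,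 2, 0, 3, 0, 3, 0, 3, 4], [0, 2, 0, 3, 3, 0, 3, 3, 0, 2], [0, 2, 0, 3, 3, 4, 3, 3, 0, 3], [0, 2, 0, 3, 3, 0, 2], [0, 2, 0, 3, 3, 0, 4, 3, 4], [0, 2, 4, 2, 2, 0, 2, 0], [0, 2, 4, 2, 2, 4, 2], [0, 2, 4, 2, 2, 4, 2, 0, 3], [0, 2, 0, 3, 3], [0, 2, 4, 2, 2, 0, 4, 2, 4], [0, 2, 0, 3], [0, 2, 0, 3, 3, 4, 2, 2, 2, 0], [0, 2, 0, 3, 3, 4, 3, 0, 3, 0], [0, 2, 0, 3, 3, 4, 2], [0, 2, 0, 3, 3, 4, 3, 0, 3, 0, 2], [0, 2, 4, 2, 0, 2, 2, 0, 4], [0, 2], [0, 2, 4, 2, 2, 4, 3], [0, 2, 4, 2, 0, 2, 2, 4], [0, 2, 0, 3, 0, 3], [0, 2, 0, 3, 3, 0, 3, 0, 3, 0, 2, 0], [0, 2, 0, 3, 3, 0, 4, 3, 0, 3], [0, 2, 0, 3, 3, 0, 3, 0, 3, 0], [0, 2, 0, 3, 3, 0, 4, 3, 0, 3, 3], [0, 2, 4, 2, 0, 2], [0, 2, 0, 3, 3, 0, 4, 3, 0], [0, 2, 0, 3, 0], [0, 2, 4, 2, 0], [0, 2, 4, 2, 0, 2, 2], [0, 2, 0, 3, 3, 0, 3, 0, 3, 0, 2], [0, 2, 0, 3, 0, 3, 0, 3], [0, 2, 0, 3, 3, 0, 4, 3], [0, 2, 4, 2, 2], [0, 2, 0, 3, 3,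 0, 3, 0], [0, 2, 0, 3, 3, 4, 2, 2], [0, 2, 4, 2, 2, 0, 4], [0, 2, 4, 2, 2, 0, 2, 0, 2], [0, 2, 0, 3, 3, 0, 3, 3], [0, 2, 0, 3, 3, 4, 3, 0, 2, 2], [0, 2, 0, 3, 0, 3, 3, 0, 4], [0, 2, 4, 2, 2, 4, 2, 2, 2, 0], [0, 2, 0, 3, 3, 4, 3, 3], [0, 2, 0, 3, 3, 0, 4, 3, 0, 3, 3, 0], [0, 2, 4, 2, 2, 0, 2, 0, 2, 0], [0, 2, 0, 3, 3, 0, 4, 3, 0, 4], [0, 2, 4, 2, 2, 0, 4, 2, 0, 2], [0, 2, 4, 2, 2, 4, 2, 2, 0], [0, 2, 0, 3, 3, 0, 3, 0, 3], [0, 2, 0], [0, 2, 0, 3, 3, 0, 2, 0], [0, 2, 0, 3, 3, 0, 2, 0, 3], [0, 2, 0, 3, 0, 3, 0], [0, 2, 0, 3, 3, 4, 3], [0, 2, 0, 3, 0, 3, 0, 3, 0], [0, 2, 0, 3, 3, 4, 3, 0, 3], [0, 3], [0, 2, 4, 2], [0, 2, 4, 2, 2, 4, 2, 2], [0, 2, 0, 3, 0, 3, 3, 4, 3, 0], [0, 2, 4, 2, 2, 0, 4, 2, 0, 4], [0, 2, 0, 3, 0, 3, 3, 4], [0, 2, 4, 2, 2, 0, 4, 2, 0], [0, 2, 0, 3, 3, 0, 2, 0, 2], [0, 2, 0, 3, 3, 4, 3, 0], [0, 2, 4, 2, 0, 2, 0, 2], [0, 2, 0, 3, 3, 0, 3, 3, 0,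 3], [0, 2, 0, 3, 0, 3, 3]]

set_option maxRecDepth 1000000 in
theorem reach_chk : ∀ β < 100, (∀ c ∈ reach.getD β [], c < 5) ∧ wapp HS100a.px (reach.getD β []) 20 = β := by
  decide +kernel

theorem stab_chk : ∀ q < 100, wapp HS100a.px [2] q = q → wapp HS100a.px [4] q = q → q = 20 := by
  decide +kernel

theorem stab_fix : wapp HS100a.px [2] 20 = 20 ∧ wapp HS100a.px [4] 20 = 20 := by decide +kernel

theorem cent_trivial (σ : Equiv.Perm (Fin 100)) (hσ : ∀ g : HNP2W.G, σ * phi g = phi g * σ) : σ = 1 := by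
  have hcomm : ∀ (w : List ℕ) (p : Fin 100),
      σ ((phi (PresentedGroup.mk HNP2W.Rels (wordElt HNP2W.gc w)))⁻¹ p) =
        (phi (PresentedGroup.mk HNP2W.Rels (wordElt HNP2W.gc w)))⁻¹ (σ p) := by
    intro w p
    have h := hσ (PresentedGroup.mk HNP2W.Rels (wordElt HNP2W.gc w))
    have h2 : σ * (phi (PresentedGroup.mk HNP2W.Rels (wordElt HNP2W.gc w)))⁻¹ =
        (phi (PresentedGroup.mk HNP2W.Rels (wordElt HNP2W.gc w)))⁻¹ * σ := by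
      rw [eq_inv_mul_iff_mul_eq, ← mul_assoc, ← h, mul_assoc, mul_inv_cancel, mul_one]
    have h3 := congrArg (fun τ : Equiv.Perm (Fin 100) => τ p) h2
    simpa [Equiv.Perm.mul_apply] using h3
  have h20 : σ ⟨20, by decide⟩ = ⟨20, by decide⟩ := by
    have hy : ((phi (PresentedGroup.mk HNP2W.Rels (wordElt HNP2W.gc [2])))⁻¹ (⟨20, by decide⟩ : Fin 100)) =
        ⟨20, by decide⟩ := by
      apply Fin.ext
      rw [hw [2] (by decide)]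
      exact stab_fix.1
    have hz : ((phi (PresentedGroup.mk HNP2W.Rels (wordElt HNP2W.gc [4])))⁻¹ (⟨20, by decide⟩ : Fin 100)) =
        ⟨20, by decide⟩ := by
      apply Fin.ext
      rw [hw [4] (by decide)]
      exact stab_fix.2
    have h1 := hcomm [2] ⟨20, by decide⟩
    rw [hy] at h1
    have h2 := hcomm [4] ⟨20, by decide⟩
    rw [hz] at h2
    have e1 := congrArg Fin.val h1
    have e2 := congrArg Fin.val h2
    rw [hw [2] (by decide)] at e1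
    rw [hw [4] (by decide)] at e2
    apply Fin.ext
    exact stab_chk _ (σ ⟨20, by decide⟩).isLt e1.symm e2.symm
  ext β
  obtain ⟨hl, hr⟩ := reach_chk β.val β.isLt
  have hβ : ((phi (PresentedGroup.mk HNP2W.Rels (wordElt HNP2W.gc (reach.getD β.val []))))⁻¹
      (⟨20, by decide⟩ : Fin 100)) = β := by
    apply Fin.ext
    rw [hw _ hl]
    exact hr
  have h1 := hcomm (reach.getD β.val []) ⟨20, by decide⟩
  rw [hβ, h20, hβ] at h1
  rw [h1, Equiv.Perm.one_apply]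

/-! ## The order of the group of the automorphisms -/

theorem steiner : IsSteinerSystem 3 6 S22 := (exists_graphIso VV WW VV_norm WW_norm VV_WW).2

theorem cardGA : Nat.card (GA S22) = 88704000 := Cfsg.Agent.S1586.result (by simp) steiner

theorem cardH0 : Nat.card H0 = 44352000 := nonempty_HS_equiv.2.2

theorem indexH0 : H0.index = 2 := by
  have h := H0.card_mul_index
  rw [cardH0, cardGA] at h
  omega

end Cfsg.Agent.Lib.Helper6.HSRep
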