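import Cfsg.Agent.Lib.Helper6.Spor.HeOrd
import Cfsg.Agent.Lib.Helper6.LB3
import Cfsg.Agent.Lib.Helper6.WP9
import Cfsg.Agent.Lib.Helper6.Stab1

set_option autoImplicit false
set_option maxRecDepth 100000

namespace Cfsg.Agent.Lib.Helper6.HeOrd

open Cfsg.Spor Cfsg.Agent.Lib.Helper6.TC Cfsg.Agent.Lib.Helper6.TCD Cfsg.Agent.Lib.Helper6.Simp
open Cfsg.Agent.Lib.Helper6.TCP.He

/-! # The presented group He on 2058 points: words fixing a base are trivial, and the
stabiliser of the point 0 is the subgroup `H` -/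

/-- the action on 2058 points, with all that is known of it -/
theorem rep2 : ∃ φ : He →* Equiv.Perm (Fin 2058),
    (∀ w, (∀ c ∈ w, c < 7) → ∀ p : Fin 2058,
      ((φ (PresentedGroup.mk Rels (wordElt gc w)))⁻¹ p).val = wapp Hea.px w p.val) ∧
    (∀ g, g ∈ subH Rels Cfsg.Agent.S1683.S ↔ φ g 0 = 0) ∧
    (∀ p : Fin 2058, ∃ g, φ g 0 = p) ∧
    Function.Injective φ ∧
    ptFix φ ([⟨34, by decide⟩, ⟨15, by decide⟩, ⟨1, by decide⟩, ⟨0, by decide⟩] :
      List (Fin 2058)) = ⊥ := by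
  obtain ⟨φ, hw, hfixH, htrans⟩ := perm_rep (rels := Rels) (S := Cfsg.Agent.S1683.S)
    Cfsg.Agent.S1683.hP hC (rel_cover Cfsg.Agent.S1683.hP Cfsg.Agent.S1683.hfix)
    Cfsg.Agent.S1683.hsubP Cfsg.Agent.S1683.htree
  obtain ⟨hidx, _⟩ := index_eq Cfsg.Agent.S1683.hP.Npos hfixH htrans
    Cfsg.Agent.S1683.idx_le.1 Cfsg.Agent.S1683.idx_le.2
  have hfin : Finite He := HeUB.card_le.1
  have hlb := HeaL.chain_lb (φ := φ) hw
  obtain ⟨hinj, _⟩ := faithful_of_card hlb HeUB.card_le.2 (by norm_num)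
  have hbot := ptFix_eq_bot_of_card hlb HeUB.card_le.2 (by norm_num)
  refine ⟨φ, hw, ?_, htrans, hinj, hbot⟩
  intro g
  constructor
  · exact hfixH g
  · intro hg
    exact mem_of_fix (N := 2058) φ (subH Rels Cfsg.Agent.S1683.S) (0 : Fin 2058) hfixH htrans hidx
      (by norm_num) hg

theorem base_trivial (w : List ℕ) (hwl : ∀ c ∈ w, c < 7)
    (h34 : wappS Hea.px w 34 = 34) (h15 : wappS Hea.px w 15 = 15)
    (h1 : wappS Hea.px w 1 = 1) (h0 : wappS Hea.px w 0 = 0) :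
    PresentedGroup.mk Rels (wordElt gc w) = 1 := by
  obtain ⟨φ, hw, _, _, _, hbot⟩ := rep2
  rw [wappS_eq] at h34 h15 h1 h0
  refine mk_eq_one_of_fix_base hw hbot w hwl ?_
  intro b hb
  cases hb with
  | head => exact h34
  | tail _ hb =>
    cases hb with
    | head => exact h15
    | tail _ hb =>
      cases hb with
      | head => exact h1
      | tail _ hb =>
        cases hb with
        | head => exact h0
        | tail _ hb => cases hb

/-- a word moving a point is not trivial -/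
theorem ne_one_of_move (w : List ℕ) (hwl : ∀ c ∈ w, c < 7) {q : ℕ} (hq : q < 2058)
    (hm : wapp Hea.px w q ≠ q) : PresentedGroup.mk Rels (wordElt gc w) ≠ 1 := by
  obtain ⟨φ, hw, _, _, _, _⟩ := rep2
  intro h
  have h1 := hw w hwl ⟨q, hq⟩
  rw [h, map_one, inv_one] at h1
  exact hm h1.symm

/-- a word fixing the point 0 lies in the subgroup `H` -/
theorem mem_subH_of_fix0 (w : List ℕ) (hwl : ∀ c ∈ w, c < 7) (h0 : wapp Hea.px w 0 = 0) :
    PresentedGroup.mk Rels (wordElt gc w) ∈ subH Rels Cfsg.Agent.S1683.S := by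
  obtain ⟨φ, hw, hK, _, _, _⟩ := rep2
  rw [hK]
  have h1 := hw w hwl 0
  have h2 : (φ (PresentedGroup.mk Rels (wordElt gc w)))⁻¹ 0 = 0 := Fin.ext (h1.trans h0)
  rw [Equiv.Perm.inv_eq_iff_eq] at h2
  exact h2.symm

end Cfsg.Agent.Lib.Helper6.HeOrd
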