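import Mathlib
import Cfsg.Agent.Lib.Helper6.TCP.J3
import Cfsg.Agent.Lib.Helper6.TC14
import Cfsg.Agent.Lib.Helper6.TCD.J3a.All

set_option autoImplicit false

namespace Cfsg.Agent.Lib.Helper6.J3Idx
open Cfsg.Agent.Lib.Helper6.TC Cfsg.Agent.Lib.Helper6.TCP.J3 Cfsg.Agent.Lib.Helper6.TCD.J3a

/-! # The index and the suborbits of a subgroup of the group `J3` presented by words -/

section helpers
set_option maxRecDepth 100000
set_option linter.unusedSimpArgs false

/-- the words of the generators of the subgroup -/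
def subw : List (List ℕ) := [[0], [3]]

/-- the generating set of the subgroup -/
abbrev S : Set (FreeGroup (Fin 5)) := wset 5 subw

theorem hsw : ∀ s ∈ S, ∃ w ∈ subw, s = wordElt gc w := wp_hsw subw

theorem hsw' : ∀ w ∈ subw, (∀ c ∈ w, c < 5) ∧ wordElt gc w ∈ S := wp_hsw' (by decide)

theorem chkW : allB (chkWord WD WI base subw Cfsg.Agent.Lib.Helper6.TCD.J3a.INV ncol nrw) nw = true := by
  decide +kernel

theorem hS : ∀ s < n * ncol, chkSlot SH SC NH NC WD n ncol nrw nw tmax Cfsg.Agent.Lib.Helper6.TCD.J3a.INV s = true := by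
  intro s hs
  have hs' : s < 367220 := hs
  by_cases h0 : s < 8000
  · exact allR_spec chkS0 s (by omega) (by omega)
  by_cases h1 : s < 16000
  · exact allR_spec chkS1 s (by omega) (by omega)
  by_cases h2 : s < 24000
  · exact allR_spec chkS2 s (by omega) (by omega)
  by_cases h3 : s < 32000
  · exact allR_spec chkS3 s (by omega) (by omega)
  by_cases h4 : s < 40000
  · exact allR_spec chkS4 s (by omega) (by omega)
  by_cases h5 : s < 48000
  · exact allR_spec chkS5 s (by omega) (by omega)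
  by_cases h6 : s < 56000
  · exact allR_spec chkS6 s (by omega) (by omega)
  by_cases h7 : s < 64000
  · exact allR_spec chkS7 s (by omega) (by omega)
  by_cases h8 : s < 72000
  · exact allR_spec chkS8 s (by omega) (by omega)
  by_cases h9 : s < 80000
  · exact allR_spec chkS9 s (by omega) (by omega)
  by_cases h10 : s < 88000
  · exact allR_spec chkS10 s (by omega) (by omega)
  by_cases h11 : s < 96000
  · exact allR_spec chkS11 s (by omega) (by omega)
  by_cases h12 : s < 104000
  · exact allR_spec chkS12 s (by omega) (by omega)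
  by_cases h13 : s < 112000
  · exact allR_spec chkS13 s (by omega) (by omega)
  by_cases h14 : s < 120000
  · exact allR_spec chkS14 s (by omega) (by omega)
  by_cases h15 : s < 128000
  · exact allR_spec chkS15 s (by omega) (by omega)
  by_cases h16 : s < 136000
  · exact allR_spec chkS16 s (by omega) (by omega)
  by_cases h17 : s < 144000
  · exact allR_spec chkS17 s (by omega) (by omega)
  by_cases h18 : s < 152000
  · exact allR_spec chkS18 s (by omega) (by omega)
  by_cases h19 : s < 160000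
  · exact allR_spec chkS19 s (by omega) (by omega)
  by_cases h20 : s < 168000
  · exact allR_spec chkS20 s (by omega) (by omega)
  by_cases h21 : s < 176000
  · exact allR_spec chkS21 s (by omega) (by omega)
  by_cases h22 : s < 184000
  · exact allR_spec chkS22 s (by omega) (by omega)
  by_cases h23 : s < 192000
  · exact allR_spec chkS23 s (by omega) (by omega)
  by_cases h24 : s < 200000
  · exact allR_spec chkS24 s (by omega) (by omega)
  by_cases h25 : s < 208000
  · exact allR_spec chkS25 s (by omega) (by omega)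
  by_cases h26 : s < 216000
  · exact allR_spec chkS26 s (by omega) (by omega)
  by_cases h27 : s < 224000
  · exact allR_spec chkS27 s (by omega) (by omega)
  by_cases h28 : s < 232000
  · exact allR_spec chkS28 s (by omega) (by omega)
  by_cases h29 : s < 240000
  · exact allR_spec chkS29 s (by omega) (by omega)
  by_cases h30 : s < 248000
  · exact allR_spec chkS30 s (by omega) (by omega)
  by_cases h31 : s < 256000
  · exact allR_spec chkS31 s (by omega) (by omega)
  by_cases h32 : s < 264000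
  · exact allR_spec chkS32 s (by omega) (by omega)
  by_cases h33 : s < 272000
  · exact allR_spec chkS33 s (by omega) (by omega)
  by_cases h34 : s < 280000
  · exact allR_spec chkS34 s (by omega) (by omega)
  by_cases h35 : s < 288000
  · exact allR_spec chkS35 s (by omega) (by omega)
  by_cases h36 : s < 296000
  · exact allR_spec chkS36 s (by omega) (by omega)
  by_cases h37 : s < 304000
  · exact allR_spec chkS37 s (by omega) (by omega)
  by_cases h38 : s < 312000
  · exact allR_spec chkS38 s (by omega) (by omega)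
  by_cases h39 : s < 320000
  · exact allR_spec chkS39 s (by omega) (by omega)
  by_cases h40 : s < 328000
  · exact allR_spec chkS40 s (by omega) (by omega)
  by_cases h41 : s < 336000
  · exact allR_spec chkS41 s (by omega) (by omega)
  by_cases h42 : s < 344000
  · exact allR_spec chkS42 s (by omega) (by omega)
  by_cases h43 : s < 352000
  · exact allR_spec chkS43 s (by omega) (by omega)
  by_cases h44 : s < 360000
  · exact allR_spec chkS44 s (by omega) (by omega)
  by_cases h45 : s < 367220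
  · exact allR_spec chkS45 s (by omega) (by omega)
  omega

theorem hN : ∀ ν < n, chkName SH NH NC WD n ncol nrw nw tmax ν = true := by
  intro ν hν
  have hν' : ν < 73444 := hν
  by_cases h0 : ν < 6000
  · exact allR_spec chkN0 ν (by omega) (by omega)
  by_cases h1 : ν < 12000
  · exact allR_spec chkN1 ν (by omega) (by omega)
  by_cases h2 : ν < 18000
  · exact allR_spec chkN2 ν (by omega) (by omega)
  by_cases h3 : ν < 24000
  · exact allR_spec chkN3 ν (by omega) (by omega)
  by_cases h4 : ν < 30000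
  · exact allR_spec chkN4 ν (by omega) (by omega)
  by_cases h5 : ν < 36000
  · exact allR_spec chkN5 ν (by omega) (by omega)
  by_cases h6 : ν < 42000
  · exact allR_spec chkN6 ν (by omega) (by omega)
  by_cases h7 : ν < 48000
  · exact allR_spec chkN7 ν (by omega) (by omega)
  by_cases h8 : ν < 54000
  · exact allR_spec chkN8 ν (by omega) (by omega)
  by_cases h9 : ν < 60000
  · exact allR_spec chkN9 ν (by omega) (by omega)
  by_cases h10 : ν < 66000
  · exact allR_spec chkN10 ν (by omega) (by omega)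
  by_cases h11 : ν < 72000
  · exact allR_spec chkN11 ν (by omega) (by omega)
  by_cases h12 : ν < 73444
  · exact allR_spec chkN12 ν (by omega) (by omega)
  omega

theorem hL : ∀ ν < n, chkLive SH NH n ncol tmax ν = true := by
  intro ν hν
  have hν' : ν < 73444 := hν
  by_cases h0 : ν < 6000
  · exact allR_spec chkL0 ν (by omega) (by omega)
  by_cases h1 : ν < 12000
  · exact allR_spec chkL1 ν (by omega) (by omega)
  by_cases h2 : ν < 18000
  · exact allR_spec chkL2 ν (by omega) (by omega)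
  by_cases h3 : ν < 24000
  · exact allR_spec chkL3 ν (by omega) (by omega)
  by_cases h4 : ν < 30000
  · exact allR_spec chkL4 ν (by omega) (by omega)
  by_cases h5 : ν < 36000
  · exact allR_spec chkL5 ν (by omega) (by omega)
  by_cases h6 : ν < 42000
  · exact allR_spec chkL6 ν (by omega) (by omega)
  by_cases h7 : ν < 48000
  · exact allR_spec chkL7 ν (by omega) (by omega)
  by_cases h8 : ν < 54000
  · exact allR_spec chkL8 ν (by omega) (by omega)
  by_cases h9 : ν < 60000
  · exact allR_spec chkL9 ν (by omega) (by omega)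
  by_cases h10 : ν < 66000
  · exact allR_spec chkL10 ν (by omega) (by omega)
  by_cases h11 : ν < 72000
  · exact allR_spec chkL11 ν (by omega) (by omega)
  by_cases h12 : ν < 73444
  · exact allR_spec chkL12 ν (by omega) (by omega)
  omega

theorem hwords :
    (∀ j < nrw, j < nw → PresentedGroup.mk Rels (wordElt gc (wordL WD j)) = 1) ∧
    (∀ j, nrw ≤ j → j < nw → wordElt gc (wordL WD j) ∈ Subgroup.closure S) ∧
    (∀ j < nw, ∀ c ∈ wordL WD j, c < ncol) :=
  words_ok (S := S) (nw := nw) hinvG hbl hbase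
    (fun w hw => Subgroup.subset_closure (hsw' w hw).2) (fun j hj => allB_spec chkW j hj)

theorem idx_le : (subH Rels S).index ≤ N ∧ (subH Rels S).index ≠ 0 := by
  have h := index_le (rels := Rels) (S := S) (gc := gc) (n := n) (ncol := ncol) (nrw := nrw) (nw := nw)
    (tmax := tmax) (INV := Cfsg.Agent.Lib.Helper6.TCD.J3a.INV) (SH := SH) (SC := SC) (NH := NH) (NC := NC) (WD := WD)
    (by decide) hgen hinv1 hinvG (fun j hj => hwords.1 j hj (by unfold nrw nw at *; omega)) hwords.2.1 hwords.2.2 hS hN hL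
  have e : cntLive NH n tmax n = N := chkC
  rw [e] at h
  exact h

theorem hP : PHyp px N 5 Cfsg.Agent.Lib.Helper6.TCP.J3.INV where
  Npos := by decide
  hinv1 := hinv1
  hinvinv := hinvinv
  hlt := by
    intro c hc p hp
    interval_cases c
    · exact (chkCol_spec chkP0 p hp).1
    · exact (chkCol_spec chkP1 p hp).1
    · exact (chkCol_spec chkP2 p hp).1
    · exact (chkCol_spec chkP3 p hp).1
    · exact (chkCol_spec chkP4 p hp).1
  hpx := by
    intro c hc p hp
    interval_cases c
    · exact (chkCol_spec chkP0 p hp).2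
    · exact (chkCol_spec chkP1 p hp).2
    · exact (chkCol_spec chkP2 p hp).2
    · exact (chkCol_spec chkP3 p hp).2
    · exact (chkCol_spec chkP4 p hp).2

theorem px_c0 (p : ℕ) : px 0 p = P0 p := rfl
theorem px_c1 (p : ℕ) : px 1 p = P1 p := rfl
theorem px_c2 (p : ℕ) : px 2 p = P2 p := rfl
theorem px_c3 (p : ℕ) : px 3 p = P3 p := rfl
theorem px_c4 (p : ℕ) : px 4 p = P4 p := rfl

theorem hfixk_0 : ∀ p < N, P0 (P0 p) = p := fun p hp => (chkCol_spec chkP0 p hp).2

theorem hfixw_0 (p : ℕ) : wapp px (base.getD 0 []) p = P0 (P0 p) := by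
  show wapp px [0, 0] p = _
  simp only [wapp_cons, wapp_nil, px_c0]

theorem hfixk_1 : ∀ p < N, R1 p = p := by
  intro p hp
  have hp' : p < 6156 := hp
  exact chkFix_spec chkR1_0 p (by omega) (by omega)

theorem hfixw_1 (p : ℕ) : wapp px (base.getD 1 []) p = R1 p := by
  show wapp px [1, 1, 1] p = _
  simp only [wapp_cons, wapp_nil, px_c0, px_c1, px_c2, px_c3, px_c4]
  rfl

theorem hfixk_2 : ∀ p < N, R2 p = p := by
  intro p hp
  have hp' : p < 6156 := hp
  exact chkFix_spec chkR2_0 p (by omega) (by omega)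

theorem hQU_2 : ∀ p < N, Q2 p = U2 p := by
  intro p hp
  have hp' : p < 6156 := hp
  exact chkEqF_spec chkQ2_0 p (by omega) (by omega)

theorem hUw_2 (p : ℕ) : wapp px [0, 1] p = U2 p := by
  simp only [wapp_cons, wapp_nil, px_c0, px_c1, px_c2, px_c3, px_c4]
  rfl

theorem hfixw_2 (p : ℕ) (hp : p < N) : wapp px (base.getD 2 []) p = R2 p := by
  have e : base.getD 2 [] = (List.replicate 19 [0, 1]).flatten := by decide +kernel
  rw [e, wapp_pow hP (by decide) (fun q hq => (hQU_2 q hq).trans (hUw_2 q).symm) 19 p hp]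
  unfold R2
  simp only [Function.iterate_succ_apply, Function.iterate_zero_apply]

theorem hfixk_3 : ∀ p < N, R3 p = p := by
  intro p hp
  have hp' : p < 6156 := hp
  exact chkFix_spec chkR3_0 p (by omega) (by omega)

theorem hQU_3 : ∀ p < N, Q3 p = U3 p := by
  intro p hp
  have hp' : p < 6156 := hp
  exact chkEqF_spec chkQ3_0 p (by omega) (by omega)

theorem hUw_3 (p : ℕ) : wapp px [0, 2, 0, 1] p = U3 p := by
  simp only [wapp_cons, wapp_nil, px_c0, px_c1, px_c2, px_c3, px_c4]
  rfl

theorem hfixw_3 (p : ℕ) (hp : p < N) : wapp px (base.getD 3 []) p = R3 p := by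
  have e : base.getD 3 [] = (List.replicate 9 [0, 2, 0, 1]).flatten := by decide +kernel
  rw [e, wapp_pow hP (by decide) (fun q hq => (hQU_3 q hq).trans (hUw_3 q).symm) 9 p hp]
  unfold R3
  simp only [Function.iterate_succ_apply, Function.iterate_zero_apply]

theorem hfixk_4 : ∀ p < N, R4 p = p := by
  intro p hp
  have hp' : p < 6156 := hp
  exact chkFix_spec chkR4_0 p (by omega) (by omega)

theorem hQU_4 : ∀ p < N, Q4 p = U4 p := by
  intro p hp
  have hp' : p < 6156 := hp
  exact chkEqF_spec chkQ4_0 p (by omega) (by omega)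

theorem hUw_4 (p : ℕ) : wapp px [0, 1, 0, 1, 0, 1, 0, 1, 0, 1, 0, 1, 0, 2, 0, 2, 0, 2, 0, 2, 0, 2] p = U4 p := by
  simp only [wapp_cons, wapp_nil, px_c0, px_c1, px_c2, px_c3, px_c4]
  rfl

theorem hfixw_4 (p : ℕ) (hp : p < N) : wapp px (base.getD 4 []) p = R4 p := by
  have e : base.getD 4 [] = (List.replicate 2 [0, 1, 0, 1, 0, 1, 0, 1, 0, 1, 0, 1, 0, 2, 0, 2, 0, 2, 0, 2, 0, 2]).flatten := by decide +kernel
  rw [e, wapp_pow hP (by decide) (fun q hq => (hQU_4 q hq).trans (hUw_4 q).symm) 2 p hp]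
  unfold R4
  simp only [Function.iterate_succ_apply, Function.iterate_zero_apply]

theorem hfixk_5 : ∀ p < N, R5 p = p := by
  intro p hp
  have hp' : p < 6156 := hp
  exact chkFix_spec chkR5_0 p (by omega) (by omega)

theorem hQU_5 : ∀ p < N, Q5 p = U5 p := by
  intro p hp
  have hp' : p < 6156 := hp
  by_cases g0 : p < 4178
  · exact chkEqF_spec chkQ5_0 p (by omega) (by omega)
  exact chkEqF_spec chkQ5_1 p (by omega) (by omega)

theorem hUw_5 (p : ℕ) : wapp px [0, 1, 0, 1, 0, 2, 0, 1, 0, 1, 0, 2, 0, 1, 0, 2, 0, 2, 0, 1, 0, 2] p = U5 p := by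
  simp only [wapp_cons, wapp_nil, px_c0, px_c1, px_c2, px_c3, px_c4]
  rfl

theorem hfixw_5 (p : ℕ) (hp : p < N) : wapp px (base.getD 5 []) p = R5 p := by
  have e : base.getD 5 [] = (List.replicate 2 [0, 1, 0, 1, 0, 2, 0, 1, 0, 1, 0, 2, 0, 1, 0, 2, 0, 2, 0, 1, 0, 2]).flatten := by decide +kernel
  rw [e, wapp_pow hP (by decide) (fun q hq => (hQU_5 q hq).trans (hUw_5 q).symm) 2 p hp]
  unfold R5
  simp only [Function.iterate_succ_apply, Function.iterate_zero_apply]

theorem hfixk_6 : ∀ p < N, R6 p = p := by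
  intro p hp
  have hp' : p < 6156 := hp
  by_cases g0 : p < 3843
  · exact chkFix_spec chkR6_0 p (by omega) (by omega)
  exact chkFix_spec chkR6_1 p (by omega) (by omega)

theorem hfixw_6 (p : ℕ) : wapp px (base.getD 6 []) p = R6 p := by
  show wapp px [0, 1, 0, 1, 0, 1, 0, 2, 0, 1, 0, 2, 0, 1, 0, 2, 0, 1, 0, 1, 0, 1, 0, 2, 0, 1, 0, 2, 0, 1, 0, 2, 0, 1, 0, 2, 0, 2, 0, 1, 0, 2, 0, 1, 0, 2, 0, 1, 0, 2] p = _
  simp only [wapp_cons, wapp_nil, px_c0, px_c1, px_c2, px_c3, px_c4]
  rfl

theorem hfixk_7 : ∀ p < N, R7 p = p := by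
  intro p hp
  have hp' : p < 6156 := hp
  exact chkFix_spec chkR7_0 p (by omega) (by omega)

theorem hQU_7 : ∀ p < N, Q7 p = U7 p := by
  intro p hp
  have hp' : p < 6156 := hp
  exact chkEqF_spec chkQ7_0 p (by omega) (by omega)

theorem hUw_7 (p : ℕ) : wapp px [0, 1, 0, 1, 0, 1, 0, 1, 0, 2, 0, 1, 0, 2] p = U7 p := by
  simp only [wapp_cons, wapp_nil, px_c0, px_c1, px_c2, px_c3, px_c4]
  rfl

theorem hfixw_7 (p : ℕ) (hp : p < N) : wapp px (base.getD 7 []) p = R7 p := by
  have e : base.getD 7 [] = (List.replicate 4 [0, 1, 0, 1, 0, 1, 0, 1, 0, 2, 0, 1, 0, 2]).flatten := by decide +kernel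
  rw [e, wapp_pow hP (by decide) (fun q hq => (hQU_7 q hq).trans (hUw_7 q).symm) 4 p hp]
  unfold R7
  simp only [Function.iterate_succ_apply, Function.iterate_zero_apply]

theorem hfixk_8 : ∀ p < N, R8 p = p := by
  intro p hp
  have hp' : p < 6156 := hp
  by_cases g0 : p < 1086
  · exact chkFix_spec chkR8_0 p (by omega) (by omega)
  exact chkFix_spec chkR8_1 p (by omega) (by omega)

theorem hfixw_8 (p : ℕ) : wapp px (base.getD 8 []) p = R8 p := by
  show wapp px [4, 2, 0, 2, 0, 2, 0, 2, 0, 2, 0, 1, 0, 2, 0, 2] p = _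
  simp only [wapp_cons, wapp_nil, px_c0, px_c1, px_c2, px_c3, px_c4]
  rfl

theorem hfixk_9 : ∀ p < N, R9 p = p := by
  intro p hp
  have hp' : p < 6156 := hp
  exact chkFix_spec chkR9_0 p (by omega) (by omega)

theorem hfixw_9 (p : ℕ) : wapp px (base.getD 9 []) p = R9 p := by
  show wapp px [4, 4, 4, 4] p = _
  simp only [wapp_cons, wapp_nil, px_c0, px_c1, px_c2, px_c3, px_c4]
  rfl

theorem hfixk_10 : ∀ p < N, R10 p = p := by
  intro p hp
  have hp' : p < 6156 := hp
  exact chkFix_spec chkR10_0 p (by omega) (by omega)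

theorem hQU_10 : ∀ p < N, Q10 p = U10 p := by
  intro p hp
  have hp' : p < 6156 := hp
  exact chkEqF_spec chkQ10_0 p (by omega) (by omega)

theorem hUw_10 (p : ℕ) : wapp px [4, 0] p = U10 p := by
  simp only [wapp_cons, wapp_nil, px_c0, px_c1, px_c2, px_c3, px_c4]
  rfl

theorem hfixw_10 (p : ℕ) (hp : p < N) : wapp px (base.getD 10 []) p = R10 p := by
  have e : base.getD 10 [] = (List.replicate 6 [4, 0]).flatten := by decide +kernel
  rw [e, wapp_pow hP (by decide) (fun q hq => (hQU_10 q hq).trans (hUw_10 q).symm) 6 p hp]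
  unfold R10
  simp only [Function.iterate_succ_apply, Function.iterate_zero_apply]

theorem hfixk_11 : ∀ p < N, R11 p = p := by
  intro p hp
  have hp' : p < 6156 := hp
  by_cases g0 : p < 3173
  · exact chkFix_spec chkR11_0 p (by omega) (by omega)
  exact chkFix_spec chkR11_1 p (by omega) (by omega)

theorem hfixw_11 (p : ℕ) : wapp px (base.getD 11 []) p = R11 p := by
  show wapp px [4, 4, 0, 4, 0, 3, 0, 3, 0, 4, 4, 0, 3, 0, 4, 4, 0, 3, 3, 0, 4, 0, 4, 0, 3, 0, 3, 0] p = _
  simp only [wapp_cons, wapp_nil, px_c0, px_c1, px_c2, px_c3, px_c4]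
  rfl

theorem hfixk_12 : ∀ p < N, R12 p = p := by
  intro p hp
  have hp' : p < 6156 := hp
  by_cases g0 : p < 5370
  · exact chkFix_spec chkR12_0 p (by omega) (by omega)
  exact chkFix_spec chkR12_1 p (by omega) (by omega)

theorem hfixw_12 (p : ℕ) : wapp px (base.getD 12 []) p = R12 p := by
  show wapp px [4, 4, 0, 3, 0, 3, 0, 4, 0, 4, 0, 3, 0, 3, 0, 4, 0, 3, 0, 4, 0, 4, 0, 3, 0, 3, 0, 4, 0, 4, 0] p = _
  simp only [wapp_cons, wapp_nil, px_c0, px_c1, px_c2, px_c3, px_c4]
  rfl

theorem hfixk_13 : ∀ p < N, R13 p = p := by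
  intro p hp
  have hp' : p < 6156 := hp
  exact chkFix_spec chkR13_0 p (by omega) (by omega)

theorem hfixw_13 (p : ℕ) : wapp px (base.getD 13 []) p = R13 p := by
  show wapp px [0, 2, 4, 2, 3, 0, 2, 4, 2, 3] p = _
  simp only [wapp_cons, wapp_nil, px_c0, px_c1, px_c2, px_c3, px_c4]
  rfl

theorem hfixk_14 : ∀ p < N, R14 p = p := by
  intro p hp
  have hp' : p < 6156 := hp
  exact chkFix_spec chkR14_0 p (by omega) (by omega)

theorem hfixw_14 (p : ℕ) : wapp px (base.getD 14 []) p = R14 p := by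
  show wapp px [0, 1, 1, 4, 2, 3, 0, 2, 4, 2, 3] p = _
  simp only [wapp_cons, wapp_nil, px_c0, px_c1, px_c2, px_c3, px_c4]
  rfl

theorem hfixk_15 : ∀ p < N, R15 p = p := by
  intro p hp
  have hp' : p < 6156 := hp
  exact chkFix_spec chkR15_0 p (by omega) (by omega)

theorem hfixw_15 (p : ℕ) : wapp px (base.getD 15 []) p = R15 p := by
  show wapp px [0, 2, 4, 1, 1, 3, 0, 2, 4, 2, 3] p = _
  simp only [wapp_cons, wapp_nil, px_c0, px_c1, px_c2, px_c3, px_c4]
  rfl

theorem hfixk_16 : ∀ p < N, R16 p = p := by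
  intro p hp
  have hp' : p < 6156 := hp
  exact chkFix_spec chkR16_0 p (by omega) (by omega)

theorem hQU_16 : ∀ p < N, Q16 p = U16 p := by
  intro p hp
  have hp' : p < 6156 := hp
  by_cases g0 : p < 4091
  · exact chkEqF_spec chkQ16_0 p (by omega) (by omega)
  exact chkEqF_spec chkQ16_1 p (by omega) (by omega)

theorem hUw_16 (p : ℕ) : wapp px [0, 1, 1, 4, 2, 3] p = U16 p := by
  simp only [wapp_cons, wapp_nil, px_c0, px_c1, px_c2, px_c3, px_c4]
  rfl

theorem hfixw_16 (p : ℕ) (hp : p < N) : wapp px (base.getD 16 []) p = R16 p := by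
  have e : base.getD 16 [] = (List.replicate 2 [0, 1, 1, 4, 2, 3]).flatten := by decide +kernel
  rw [e, wapp_pow hP (by decide) (fun q hq => (hQU_16 q hq).trans (hUw_16 q).symm) 2 p hp]
  unfold R16
  simp only [Function.iterate_succ_apply, Function.iterate_zero_apply]

theorem hfixk_17 : ∀ p < N, R17 p = p := by
  intro p hp
  have hp' : p < 6156 := hp
  exact chkFix_spec chkR17_0 p (by omega) (by omega)

theorem hQU_17 : ∀ p < N, Q17 p = U17 p := by
  intro p hp
  have hp' : p < 6156 := hp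
  exact chkEqF_spec chkQ17_0 p (by omega) (by omega)

theorem hUw_17 (p : ℕ) : wapp px [0, 2, 4, 1, 1, 3] p = U17 p := by
  simp only [wapp_cons, wapp_nil, px_c0, px_c1, px_c2, px_c3, px_c4]
  rfl

theorem hfixw_17 (p : ℕ) (hp : p < N) : wapp px (base.getD 17 []) p = R17 p := by
  have e : base.getD 17 [] = (List.replicate 2 [0, 2, 4, 1, 1, 3]).flatten := by decide +kernel
  rw [e, wapp_pow hP (by decide) (fun q hq => (hQU_17 q hq).trans (hUw_17 q).symm) 2 p hp]
  unfold R17
  simp only [Function.iterate_succ_apply, Function.iterate_zero_apply]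

theorem hfixk_18 : ∀ p < N, R18 p = p := by
  intro p hp
  have hp' : p < 6156 := hp
  exact chkFix_spec chkR18_0 p (by omega) (by omega)

theorem hQU_18 : ∀ p < N, Q18 p = U18 p := by
  intro p hp
  have hp' : p < 6156 := hp
  exact chkEqF_spec chkQ18_0 p (by omega) (by omega)

theorem hUw_18 (p : ℕ) : wapp px [0, 3] p = U18 p := by
  simp only [wapp_cons, wapp_nil, px_c0, px_c1, px_c2, px_c3, px_c4]
  rfl

theorem hfixw_18 (p : ℕ) (hp : p < N) : wapp px (base.getD 18 []) p = R18 p := by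
  have e : base.getD 18 [] = (List.replicate 6 [0, 3]).flatten := by decide +kernel
  rw [e, wapp_pow hP (by decide) (fun q hq => (hQU_18 q hq).trans (hUw_18 q).symm) 6 p hp]
  unfold R18
  simp only [Function.iterate_succ_apply, Function.iterate_zero_apply]

theorem hfixk_19 : ∀ p < N, R19 p = p := by
  intro p hp
  have hp' : p < 6156 := hp
  exact chkFix_spec chkR19_0 p (by omega) (by omega)

theorem hfixw_19 (p : ℕ) : wapp px (base.getD 19 []) p = R19 p := by
  show wapp px [0, 2, 4, 2, 3, 0, 2, 4, 2, 4, 4, 4] p = _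
  simp only [wapp_cons, wapp_nil, px_c0, px_c1, px_c2, px_c3, px_c4]
  rfl

theorem hfixk_20 : ∀ p < N, R20 p = p := by
  intro p hp
  have hp' : p < 6156 := hp
  by_cases g0 : p < 3212
  · exact chkFix_spec chkR20_0 p (by omega) (by omega)
  exact chkFix_spec chkR20_1 p (by omega) (by omega)

theorem hfixw_20 (p : ℕ) : wapp px (base.getD 20 []) p = R20 p := by
  show wapp px [0, 2, 3, 3, 3, 2, 3, 0, 2, 4, 2, 3] p = _
  simp only [wapp_cons, wapp_nil, px_c0, px_c1, px_c2, px_c3, px_c4]
  rfl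

theorem hfixk_21 : ∀ p < N, R21 p = p := by
  intro p hp
  have hp' : p < 6156 := hp
  exact chkFix_spec chkR21_0 p (by omega) (by omega)

theorem hfixw_21 (p : ℕ) : wapp px (base.getD 21 []) p = R21 p := by
  show wapp px [0, 1, 0, 2, 0, 2, 4, 1, 0, 2, 4, 0, 1, 3] p = _
  simp only [wapp_cons, wapp_nil, px_c0, px_c1, px_c2, px_c3, px_c4]
  rfl

theorem hfixk_22 : ∀ p < N, R22 p = p := by
  intro p hp
  have hp' : p < 6156 := hp
  exact chkFix_spec chkR22_0 p (by omega) (by omega)

theorem hQU_22 : ∀ p < N, Q22 p = U22 p := by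
  intro p hp
  have hp' : p < 6156 := hp
  exact chkEqF_spec chkQ22_0 p (by omega) (by omega)

theorem hUw_22 (p : ℕ) : wapp px [0, 2, 4, 2, 4, 4, 4] p = U22 p := by
  simp only [wapp_cons, wapp_nil, px_c0, px_c1, px_c2, px_c3, px_c4]
  rfl

theorem hfixw_22 (p : ℕ) (hp : p < N) : wapp px (base.getD 22 []) p = R22 p := by
  have e : base.getD 22 [] = (List.replicate 2 [0, 2, 4, 2, 4, 4, 4]).flatten := by decide +kernel
  rw [e, wapp_pow hP (by decide) (fun q hq => (hQU_22 q hq).trans (hUw_22 q).symm) 2 p hp]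
  unfold R22
  simp only [Function.iterate_succ_apply, Function.iterate_zero_apply]

theorem hfixk_23 : ∀ p < N, R23 p = p := by
  intro p hp
  have hp' : p < 6156 := hp
  by_cases g0 : p < 4780
  · exact chkFix_spec chkR23_0 p (by omega) (by omega)
  exact chkFix_spec chkR23_1 p (by omega) (by omega)

theorem hfixw_23 (p : ℕ) : wapp px (base.getD 23 []) p = R23 p := by
  show wapp px [0, 3, 0, 3, 0, 3, 0, 3, 0, 3, 0, 4, 4, 4] p = _
  simp only [wapp_cons, wapp_nil, px_c0, px_c1, px_c2, px_c3, px_c4]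
  rfl

theorem hfixk_24 : ∀ p < N, R24 p = p := by
  intro p hp
  have hp' : p < 6156 := hp
  exact chkFix_spec chkR24_0 p (by omega) (by omega)

theorem hQU_24 : ∀ p < N, Q24 p = U24 p := by
  intro p hp
  have hp' : p < 6156 := hp
  exact chkEqF_spec chkQ24_0 p (by omega) (by omega)

theorem hUw_24 (p : ℕ) : wapp px [0, 2, 3, 3, 3, 2, 3] p = U24 p := by
  simp only [wapp_cons, wapp_nil, px_c0, px_c1, px_c2, px_c3, px_c4]
  rfl

theorem hfixw_24 (p : ℕ) (hp : p < N) : wapp px (base.getD 24 []) p = R24 p := by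
  have e : base.getD 24 [] = (List.replicate 2 [0, 2, 3, 3, 3, 2, 3]).flatten := by decide +kernel
  rw [e, wapp_pow hP (by decide) (fun q hq => (hQU_24 q hq).trans (hUw_24 q).symm) 2 p hp]
  unfold R24
  simp only [Function.iterate_succ_apply, Function.iterate_zero_apply]

theorem hfixk_25 : ∀ p < N, R25 p = p := by
  intro p hp
  have hp' : p < 6156 := hp
  exact chkFix_spec chkR25_0 p (by omega) (by omega)

theorem hfixw_25 (p : ℕ) : wapp px (base.getD 25 []) p = R25 p := by
  show wapp px [0, 1, 0, 1, 0, 1, 0, 2, 0, 2, 4, 0, 1, 3, 1] p = _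
  simp only [wapp_cons, wapp_nil, px_c0, px_c1, px_c2, px_c3, px_c4]
  rfl

theorem hfixk_26 : ∀ p < N, R26 p = p := by
  intro p hp
  have hp' : p < 6156 := hp
  by_cases g0 : p < 5122
  · exact chkFix_spec chkR26_0 p (by omega) (by omega)
  exact chkFix_spec chkR26_1 p (by omega) (by omega)

theorem hfixw_26 (p : ℕ) : wapp px (base.getD 26 []) p = R26 p := by
  show wapp px [0, 1, 0, 1, 4, 2, 0, 3, 1, 0, 2, 0, 1, 3, 1] p = _
  simp only [wapp_cons, wapp_nil, px_c0, px_c1, px_c2, px_c3, px_c4]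
  rfl

theorem hfixk_27 : ∀ p < N, R27 p = p := by
  intro p hp
  have hp' : p < 6156 := hp
  exact chkFix_spec chkR27_0 p (by omega) (by omega)

theorem hfixw_27 (p : ℕ) : wapp px (base.getD 27 []) p = R27 p := by
  show wapp px [0, 1, 0, 2, 0, 2, 4, 2, 2, 0, 2, 4, 0, 1, 3] p = _
  simp only [wapp_cons, wapp_nil, px_c0, px_c1, px_c2, px_c3, px_c4]
  rfl

theorem hfixk_28 : ∀ p < N, R28 p = p := by
  intro p hp
  have hp' : p < 6156 := hp
  exact chkFix_spec chkR28_0 p (by omega) (by omega)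

theorem hfixw_28 (p : ℕ) : wapp px (base.getD 28 []) p = R28 p := by
  show wapp px [0, 1, 0, 2, 4, 2, 0, 2, 4, 2, 4, 2, 3, 1, 3] p = _
  simp only [wapp_cons, wapp_nil, px_c0, px_c1, px_c2, px_c3, px_c4]
  rfl

theorem hfixk_29 : ∀ p < N, R29 p = p := by
  intro p hp
  have hp' : p < 6156 := hp
  by_cases g0 : p < 3320
  · exact chkFix_spec chkR29_0 p (by omega) (by omega)
  exact chkFix_spec chkR29_1 p (by omega) (by omega)

theorem hfixw_29 (p : ℕ) : wapp px (base.getD 29 []) p = R29 p := by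
  show wapp px [0, 1, 0, 2, 0, 2, 4, 1, 0, 1, 1, 4, 0, 1, 3] p = _
  simp only [wapp_cons, wapp_nil, px_c0, px_c1, px_c2, px_c3, px_c4]
  rfl

theorem hfixk_30 : ∀ p < N, R30 p = p := by
  intro p hp
  have hp' : p < 6156 := hp
  exact chkFix_spec chkR30_0 p (by omega) (by omega)

theorem hfixw_30 (p : ℕ) : wapp px (base.getD 30 []) p = R30 p := by
  show wapp px [0, 1, 0, 1, 1, 0, 4, 2, 0, 3, 1, 0, 2, 3, 1] p = _
  simp only [wapp_cons, wapp_nil, px_c0, px_c1, px_c2, px_c3, px_c4]
  rfl

theorem hfixk_31 : ∀ p < N, R31 p = p := by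
  intro p hp
  have hp' : p < 6156 := hp
  exact chkFix_spec chkR31_0 p (by omega) (by omega)

theorem hfixw_31 (p : ℕ) : wapp px (base.getD 31 []) p = R31 p := by
  show wapp px [0, 1, 0, 2, 0, 2, 4, 1, 0, 2, 4, 0, 2, 2, 3] p = _
  simp only [wapp_cons, wapp_nil, px_c0, px_c1, px_c2, px_c3, px_c4]
  rfl

theorem hfixk_32 : ∀ p < N, R32 p = p := by
  intro p hp
  have hp' : p < 6156 := hp
  by_cases g0 : p < 1518
  · exact chkFix_spec chkR32_0 p (by omega) (by omega)
  exact chkFix_spec chkR32_1 p (by omega) (by omega)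

theorem hfixw_32 (p : ℕ) : wapp px (base.getD 32 []) p = R32 p := by
  show wapp px [0, 1, 0, 1, 1, 0, 2, 4, 1, 0, 2, 4, 0, 1, 3] p = _
  simp only [wapp_cons, wapp_nil, px_c0, px_c1, px_c2, px_c3, px_c4]
  rfl

theorem hfixk_33 : ∀ p < N, R33 p = p := by
  intro p hp
  have hp' : p < 6156 := hp
  exact chkFix_spec chkR33_0 p (by omega) (by omega)

theorem hfixw_33 (p : ℕ) : wapp px (base.getD 33 []) p = R33 p := by
  show wapp px [0, 1, 0, 2, 0, 1, 1, 4, 1, 0, 2, 4, 0, 1, 3] p = _
  simp only [wapp_cons, wapp_nil, px_c0, px_c1, px_c2, px_c3, px_c4]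
  rfl

theorem hfixk_34 : ∀ p < N, R34 p = p := by
  intro p hp
  have hp' : p < 6156 := hp
  by_cases g0 : p < 5505
  · exact chkFix_spec chkR34_0 p (by omega) (by omega)
  exact chkFix_spec chkR34_1 p (by omega) (by omega)

theorem hfixw_34 (p : ℕ) : wapp px (base.getD 34 []) p = R34 p := by
  show wapp px [0, 1, 0, 1, 0, 1, 0, 1, 0, 1, 3, 1, 0, 1, 0, 2] p = _
  simp only [wapp_cons, wapp_nil, px_c0, px_c1, px_c2, px_c3, px_c4]
  rfl

theorem hfixk_35 : ∀ p < N, R35 p = p := by
  intro p hp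
  have hp' : p < 6156 := hp
  exact chkFix_spec chkR35_0 p (by omega) (by omega)

theorem hfixw_35 (p : ℕ) : wapp px (base.getD 35 []) p = R35 p := by
  show wapp px [0, 1, 0, 1, 0, 2, 4, 0, 3, 0, 2, 4, 1, 0, 3, 1] p = _
  simp only [wapp_cons, wapp_nil, px_c0, px_c1, px_c2, px_c3, px_c4]
  rfl

theorem hfixk_36 : ∀ p < N, R36 p = p := by
  intro p hp
  have hp' : p < 6156 := hp
  exact chkFix_spec chkR36_0 p (by omega) (by omega)

theorem hfixw_36 (p : ℕ) : wapp px (base.getD 36 []) p = R36 p := by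
  show wapp px [0, 1, 0, 1, 3, 1, 0, 4, 0, 1, 0, 3, 0, 2, 4, 2] p = _
  simp only [wapp_cons, wapp_nil, px_c0, px_c1, px_c2, px_c3, px_c4]
  rfl

theorem hfixk_37 : ∀ p < N, R37 p = p := by
  intro p hp
  have hp' : p < 6156 := hp
  exact chkFix_spec chkR37_0 p (by omega) (by omega)

theorem hQU_37 : ∀ p < N, Q37 p = U37 p := by
  intro p hp
  have hp' : p < 6156 := hp
  by_cases g0 : p < 4732
  · exact chkEqF_spec chkQ37_0 p (by omega) (by omega)
  exact chkEqF_spec chkQ37_1 p (by omega) (by omega)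

theorem hUw_37 (p : ℕ) : wapp px [0, 1, 0, 1, 4, 0, 1, 4] p = U37 p := by
  simp only [wapp_cons, wapp_nil, px_c0, px_c1, px_c2, px_c3, px_c4]
  rfl

theorem hfixw_37 (p : ℕ) (hp : p < N) : wapp px (base.getD 37 []) p = R37 p := by
  have e : base.getD 37 [] = (List.replicate 2 [0, 1, 0, 1, 4, 0, 1, 4]).flatten := by decide +kernel
  rw [e, wapp_pow hP (by decide) (fun q hq => (hQU_37 q hq).trans (hUw_37 q).symm) 2 p hp]
  unfold R37
  simp only [Function.iterate_succ_apply, Function.iterate_zero_apply]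

theorem hfixk_38 : ∀ p < N, R38 p = p := by
  intro p hp
  have hp' : p < 6156 := hp
  exact chkFix_spec chkR38_0 p (by omega) (by omega)

theorem hfixw_38 (p : ℕ) : wapp px (base.getD 38 []) p = R38 p := by
  show wapp px [0, 1, 0, 1, 4, 0, 3, 0, 2, 4, 1, 0, 2, 0, 3, 1] p = _
  simp only [wapp_cons, wapp_nil, px_c0, px_c1, px_c2, px_c3, px_c4]
  rfl

theorem hfixk_39 : ∀ p < N, R39 p = p := by
  intro p hp
  have hp' : p < 6156 := hp
  exact chkFix_spec chkR39_0 p (by omega) (by omega)

theorem hfixw_39 (p : ℕ) : wapp px (base.getD 39 []) p = R39 p := by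
  show wapp px [1, 2] p = _
  simp only [wapp_cons, wapp_nil, px_c0, px_c1, px_c2, px_c3, px_c4]
  rfl

theorem hfixk_40 : ∀ p < N, R40 p = p := by
  intro p hp
  have hp' : p < 6156 := hp
  exact chkFix_spec chkR40_0 p (by omega) (by omega)

theorem hfixw_40 (p : ℕ) : wapp px (base.getD 40 []) p = R40 p := by
  show wapp px [3, 4] p = _
  simp only [wapp_cons, wapp_nil, px_c0, px_c1, px_c2, px_c3, px_c4]
  rfl

theorem hfix_k : ∀ k < 41, ∀ p < N, wapp px (base.getD k []) p = p := by
  intro k hk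
  interval_cases k
  · intro p hp
    rw [hfixw_0]
    exact hfixk_0 p hp
  · intro p hp
    rw [hfixw_1]
    exact hfixk_1 p hp
  · intro p hp
    rw [hfixw_2 p hp]
    exact hfixk_2 p hp
  · intro p hp
    rw [hfixw_3 p hp]
    exact hfixk_3 p hp
  · intro p hp
    rw [hfixw_4 p hp]
    exact hfixk_4 p hp
  · intro p hp
    rw [hfixw_5 p hp]
    exact hfixk_5 p hp
  · intro p hp
    rw [hfixw_6]
    exact hfixk_6 p hp
  · intro p hp
    rw [hfixw_7 p hp]
    exact hfixk_7 p hp
  · intro p hp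
    rw [hfixw_8]
    exact hfixk_8 p hp
  · intro p hp
    rw [hfixw_9]
    exact hfixk_9 p hp
  · intro p hp
    rw [hfixw_10 p hp]
    exact hfixk_10 p hp
  · intro p hp
    rw [hfixw_11]
    exact hfixk_11 p hp
  · intro p hp
    rw [hfixw_12]
    exact hfixk_12 p hp
  · intro p hp
    rw [hfixw_13]
    exact hfixk_13 p hp
  · intro p hp
    rw [hfixw_14]
    exact hfixk_14 p hp
  · intro p hp
    rw [hfixw_15]
    exact hfixk_15 p hp
  · intro p hp
    rw [hfixw_16 p hp]
    exact hfixk_16 p hp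
  · intro p hp
    rw [hfixw_17 p hp]
    exact hfixk_17 p hp
  · intro p hp
    rw [hfixw_18 p hp]
    exact hfixk_18 p hp
  · intro p hp
    rw [hfixw_19]
    exact hfixk_19 p hp
  · intro p hp
    rw [hfixw_20]
    exact hfixk_20 p hp
  · intro p hp
    rw [hfixw_21]
    exact hfixk_21 p hp
  · intro p hp
    rw [hfixw_22 p hp]
    exact hfixk_22 p hp
  · intro p hp
    rw [hfixw_23]
    exact hfixk_23 p hp
  · intro p hp
    rw [hfixw_24 p hp]
    exact hfixk_24 p hp
  · intro p hp
    rw [hfixw_25]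
    exact hfixk_25 p hp
  · intro p hp
    rw [hfixw_26]
    exact hfixk_26 p hp
  · intro p hp
    rw [hfixw_27]
    exact hfixk_27 p hp
  · intro p hp
    rw [hfixw_28]
    exact hfixk_28 p hp
  · intro p hp
    rw [hfixw_29]
    exact hfixk_29 p hp
  · intro p hp
    rw [hfixw_30]
    exact hfixk_30 p hp
  · intro p hp
    rw [hfixw_31]
    exact hfixk_31 p hp
  · intro p hp
    rw [hfixw_32]
    exact hfixk_32 p hp
  · intro p hp
    rw [hfixw_33]
    exact hfixk_33 p hp
  · intro p hp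
    rw [hfixw_34]
    exact hfixk_34 p hp
  · intro p hp
    rw [hfixw_35]
    exact hfixk_35 p hp
  · intro p hp
    rw [hfixw_36]
    exact hfixk_36 p hp
  · intro p hp
    rw [hfixw_37 p hp]
    exact hfixk_37 p hp
  · intro p hp
    rw [hfixw_38]
    exact hfixk_38 p hp
  · intro p hp
    rw [hfixw_39]
    exact hfixk_39 p hp
  · intro p hp
    rw [hfixw_40]
    exact hfixk_40 p hp


theorem hfix : ∀ b ∈ base, ∀ p < N, wapp px b p = p := by
  intro b hb
  obtain ⟨k, hk, rfl⟩ := List.mem_iff_getElem.mp hb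
  have hk' : k < 41 := hk
  have := hfix_k k hk'
  rw [List.getD_eq_getElem _ _ hk] at this
  exact this

theorem htree : ∀ p, 0 < p → p < N → ∃ c < 5, ∃ q < p, px c q = p := chkTree_spec chkT

theorem hsubP : ∀ s ∈ S, ∃ w, (∀ c ∈ w, c < 5) ∧ s = wordElt gc w ∧ wapp px w 0 = 0 := by
  intro s hs
  obtain ⟨w, hw, rfl⟩ := hsw s hs
  refine ⟨w, (hsw' w hw).1, rfl, ?_⟩
  simp only [subw, List.mem_cons, List.mem_nil_iff, or_false] at hw
  rcases hw with rfl | rfl
  · exact Nat.eq_of_beq_eq_true chkH0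
  · exact Nat.eq_of_beq_eq_true chkH1

theorem hlab : ∀ w ∈ subw, ∀ p < N, lab (wapp px w p) = lab p := by
  intro w hw
  simp only [subw, List.mem_cons, List.mem_nil_iff, or_false] at hw
  rcases hw with rfl | rfl
  · exact chkLab_spec chkLab0
  · exact chkLab_spec chkLab1

theorem hsel_mem : ∀ k p, ∃ w ∈ subw, hsel k p = wapp px w p := by
  intro k p
  match k with
  | 0 => exact ⟨_, List.getElem_mem (l := subw) (n := 0) (by decide), rfl⟩
  | (k + 1) => exact ⟨_, List.getElem_mem (l := subw) (n := 1) (by decide), rfl⟩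

theorem isRoot_cases {p : ℕ} (h : isRoot p = true) : p = 0 ∨ p = 1 ∨ p = 9 ∨ p = 10 ∨ p = 15 ∨ p = 55 ∨ p = 74 ∨ p = 166 := by
  unfold isRoot at h
  rw [brec_beq] at h
  by_cases h0 : p = 0
  · exact Or.inl h0
  · rw [if_neg h0] at h
    rw [brec_beq] at h
    by_cases h1 : p = 1
    · exact Or.inr (Or.inl h1)
    · rw [if_neg h1] at h
      rw [brec_beq] at h
      by_cases h2 : p = 9
      · exact Or.inr (Or.inr (Or.inl h2))
      · rw [if_neg h2] at h
        rw [brec_beq] at h
        by_cases h3 : p = 10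
        · exact Or.inr (Or.inr (Or.inr (Or.inl h3)))
        · rw [if_neg h3] at h
          rw [brec_beq] at h
          by_cases h4 : p = 15
          · exact Or.inr (Or.inr (Or.inr (Or.inr (Or.inl h4))))
          · rw [if_neg h4] at h
            rw [brec_beq] at h
            by_cases h5 : p = 55
            · exact Or.inr (Or.inr (Or.inr (Or.inr (Or.inr (Or.inl h5)))))
            · rw [if_neg h5] at h
              rw [brec_beq] at h
              by_cases h6 : p = 74
              · exact Or.inr (Or.inr (Or.inr (Or.inr (Or.inr (Or.inr (Or.inl h6))))))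
              · rw [if_neg h6] at h
                rw [brec_beq] at h
                by_cases h7 : p = 166
                · exact Or.inr (Or.inr (Or.inr (Or.inr (Or.inr (Or.inr (Or.inr (h7)))))))
                · rw [if_neg h7] at h
                  exact absurd h (by simp)

theorem lab_r0 : lab 0 = 0 := by decide +kernel
theorem lab_r1 : lab 1 = 1 := by decide +kernel
theorem lab_r2 : lab 9 = 2 := by decide +kernel
theorem lab_r3 : lab 10 = 3 := by decide +kernel
theorem lab_r4 : lab 15 = 4 := by decide +kernel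
theorem lab_r5 : lab 55 = 5 := by decide +kernel
theorem lab_r6 : lab 74 = 6 := by decide +kernel
theorem lab_r7 : lab 166 = 7 := by decide +kernel

theorem htreeH (p0 : ℕ) (hp0 : p0 = 0 ∨ p0 = 1 ∨ p0 = 9 ∨ p0 = 10 ∨ p0 = 15 ∨ p0 = 55 ∨ p0 = 74 ∨ p0 = 166) :
    ∀ p < N, lab p = lab p0 → p ≠ p0 → ∃ w ∈ subw, rnk (wapp px w p) < rnk p := by
  intro p hp hl hne
  rcases chkRank_spec chkRk p hp with h | h
  · exfalso
    have := isRoot_cases h
    rcases this with rfl | rfl | rfl | rfl | rfl | rfl | rfl | rfl <;> rcases hp0 with rfl | rfl | rfl | rfl | rfl | rfl | rfl | rfl <;>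
      simp only [lab_r0, lab_r1, lab_r2, lab_r3, lab_r4, lab_r5, lab_r6, lab_r7] at hl <;> first | exact hne rfl | omega
  · obtain ⟨w, hw, e⟩ := hsel_mem (Nat.land (Nat.shiftRight (HR p) 4) 15) p
    refine ⟨w, hw, ?_⟩
    rw [← e]
    exact h

theorem orbits_thm : (subH Rels S).index = 6156 ∧ ∃ q1 q2 q3 q4 q5 q6 q7 : G ⧸ subH Rels S, (MulAction.orbit (subH Rels S) q1).ncard = 85 ∧ (MulAction.orbit (subH Rels S) q2).ncard = 120 ∧ (MulAction.orbit (subH Rels S) q3).ncard = 510 ∧ (MulAction.orbit (subH Rels S) q4).ncard = 680 ∧ (MulAction.orbit (subH Rels S) q5).ncard = 1360 ∧ (MulAction.orbit (subH Rels S) q6).ncard = 1360 ∧ (MulAction.orbit (subH Rels S) q7).ncard = 2040 ∧ MulAction.orbit (subH Rels S) q5 ≠ MulAction.orbit (subH Rels S) q6 := by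
  obtain ⟨φ, hw, hfixH, htrans⟩ := perm_rep (rels := Rels) (S := S) hP hC (rel_cover hP hfix) hsubP htree
  obtain ⟨hidx, F, hF⟩ := index_eq hP.Npos hfixH htrans idx_le.1 idx_le.2
  refine ⟨hidx, F.symm ⟨166, by decide⟩, F.symm ⟨74, by decide⟩, F.symm ⟨55, by decide⟩, F.symm ⟨10, by decide⟩, F.symm ⟨1, by decide⟩, F.symm ⟨15, by decide⟩, F.symm ⟨9, by decide⟩, ?_, ?_, ?_, ?_, ?_, ?_, ?_, ?_⟩
  · have h1 := orbit_spec hF hw subw hsw hsw' lab rnk 166 (by decide) hlab (htreeH 166 (by simp))
    have h2 := orbit_ncard lab 166 (by decide) h1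
    rw [lab_r7, ← cntLab_eq] at h2
    exact h2.trans chkCnt7
  · have h1 := orbit_spec hF hw subw hsw hsw' lab rnk 74 (by decide) hlab (htreeH 74 (by simp))
    have h2 := orbit_ncard lab 74 (by decide) h1
    rw [lab_r6, ← cntLab_eq] at h2
    exact h2.trans chkCnt6
  · have h1 := orbit_spec hF hw subw hsw hsw' lab rnk 55 (by decide) hlab (htreeH 55 (by simp))
    have h2 := orbit_ncard lab 55 (by decide) h1
    rw [lab_r5, ← cntLab_eq] at h2
    exact h2.trans chkCnt5
  · have h1 := orbit_spec hF hw subw hsw hsw' lab rnk 10 (by decide) hlab (htreeH 10 (by simp))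
    have h2 := orbit_ncard lab 10 (by decide) h1
    rw [lab_r3, ← cntLab_eq] at h2
    exact h2.trans chkCnt3
  · have h1 := orbit_spec hF hw subw hsw hsw' lab rnk 1 (by decide) hlab (htreeH 1 (by simp))
    have h2 := orbit_ncard lab 1 (by decide) h1
    rw [lab_r1, ← cntLab_eq] at h2
    exact h2.trans chkCnt1
  · have h1 := orbit_spec hF hw subw hsw hsw' lab rnk 15 (by decide) hlab (htreeH 15 (by simp))
    have h2 := orbit_ncard lab 15 (by decide) h1
    rw [lab_r4, ← cntLab_eq] at h2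
    exact h2.trans chkCnt4
  · have h1 := orbit_spec hF hw subw hsw hsw' lab rnk 9 (by decide) hlab (htreeH 9 (by simp))
    have h2 := orbit_ncard lab 9 (by decide) h1
    rw [lab_r2, ← cntLab_eq] at h2
    exact h2.trans chkCnt2
  · intro heq
    have h1 := orbit_spec hF hw subw hsw hsw' lab rnk 1 (by decide) hlab (htreeH 1 (by simp))
    have h3 : F.symm ⟨15, by decide⟩ ∈ MulAction.orbit (subH Rels S) (F.symm ⟨15, by decide⟩) :=
      MulAction.mem_orbit_self _
    rw [← heq, h1, Equiv.apply_symm_apply] at h3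
    simp only [lab_r1, lab_r4] at h3
    omega

end helpers

end Cfsg.Agent.Lib.Helper6.J3Idx
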