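import Cfsg.Agent.Lib.Helper6.Spor.ONUB
import Cfsg.Agent.S1692
import Cfsg.Agent.Lib.Helper6.TCD.ONaL.LB

set_option autoImplicit false
set_option maxRecDepth 100000

namespace Cfsg.Agent.Lib.Helper6.ONOrd

open Cfsg.Spor Cfsg.Agent.Lib.Helper6.TC Cfsg.Agent.Lib.Helper6.TCD
open Cfsg.Agent.Lib.Helper6.TCP.ON

/-! # The order of the presented group O'N, and its faithful action on 122760 points -/

theorem rep : ∃ φ : ON →* Equiv.Perm (Fin 122760),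
    (∀ w, (∀ c ∈ w, c < 8) → ∀ p : Fin 122760,
      ((φ (PresentedGroup.mk Rels (wordElt gc w)))⁻¹ p).val = wapp ONa.px w p.val) ∧
    (∃ F : (ON ⧸ subH Rels Cfsg.Agent.S1692.S) ≃ Fin 122760, ∀ g q, F (g • q) = φ g (F q)) ∧
    Function.Injective φ ∧ Nat.card ON = 460815505920 ∧ Finite ON := by
  obtain ⟨φ, hw, hfixH, htrans⟩ := perm_rep (rels := Rels) (S := Cfsg.Agent.S1692.S)
    Cfsg.Agent.S1692.hP hC (rel_cover Cfsg.Agent.S1692.hP Cfsg.Agent.S1692.hfix)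
    Cfsg.Agent.S1692.hsubP Cfsg.Agent.S1692.htree
  obtain ⟨_, F, hF⟩ := index_eq Cfsg.Agent.S1692.hP.Npos hfixH htrans
    Cfsg.Agent.S1692.idx_le.1 Cfsg.Agent.S1692.idx_le.2
  have hfin : Finite ON := ONUB.card_le.1
  have hlb := ONaL.chain_lb (φ := φ) hw
  obtain ⟨hinj, hcard⟩ := faithful_of_card hlb ONUB.card_le.2 (by norm_num)
  exact ⟨φ, hw, ⟨F, hF⟩, hinj, hcard, hfin⟩

end Cfsg.Agent.Lib.Helper6.ONOrd
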