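import Cfsg.Agent.Lib.Helper6.Spor.SuzUB
import Cfsg.Agent.Lib.Helper6.TCD.SuzaL.LB

set_option autoImplicit false
set_option maxRecDepth 100000

namespace Cfsg.Agent.Lib.Helper6.SuzOrd

open Cfsg.Spor Cfsg.Agent.Lib.Helper6.TC Cfsg.Agent.Lib.Helper6.TCD
open Cfsg.Agent.Lib.Helper6.TCP.Suz

/-! # The order of the presented group Suz, and its faithful action on 1782 points -/

theorem suz_rep : ∃ φ : Suz →* Equiv.Perm (Fin 1782),
    (∀ w, (∀ c ∈ w, c < 7) → ∀ p : Fin 1782,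
      ((φ (PresentedGroup.mk Rels (wordElt gc w)))⁻¹ p).val = wapp Suza.px w p.val) ∧
    (∃ F : (Suz ⧸ subH Rels SuzUB.S) ≃ Fin 1782, ∀ g q, F (g • q) = φ g (F q)) ∧
    Function.Injective φ ∧ Nat.card Suz = 448345497600 ∧ Finite Suz := by
  obtain ⟨φ, hw, hfixH, htrans⟩ := perm_rep (rels := Rels) (S := SuzUB.S)
    Cfsg.Agent.S1680.hP hC (rel_cover Cfsg.Agent.S1680.hP Cfsg.Agent.S1680.hfix)
    Cfsg.Agent.S1680.hsubP Cfsg.Agent.S1680.htree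
  obtain ⟨_, F, hF⟩ := index_eq Cfsg.Agent.S1680.hP.Npos hfixH htrans
    Cfsg.Agent.S1680.idx_le.1 Cfsg.Agent.S1680.idx_le.2
  have hfin : Finite Suz := SuzUB.card_le.1
  have hlb := SuzaL.chain_lb (φ := φ) hw
  obtain ⟨hinj, hcard⟩ := faithful_of_card hlb SuzUB.card_le.2 (by norm_num)
  exact ⟨φ, hw, ⟨F, hF⟩, hinj, hcard, hfin⟩

end Cfsg.Agent.Lib.Helper6.SuzOrd
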