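import Cfsg.Agent.Lib.Helper6.Spor.Fi22UB
import Cfsg.Agent.S1687
import Cfsg.Agent.Lib.Helper6.TCD.Fi22aL.LB

set_option autoImplicit false
set_option maxRecDepth 100000

namespace Cfsg.Agent.Lib.Helper6.Fi22Ord

open Cfsg.Spor Cfsg.Agent.Lib.Helper6.TC Cfsg.Agent.Lib.Helper6.TCD
open Cfsg.Agent.Lib.Helper6.TCP.Fi22

/-! # The order of the presented group Fi22, and its faithful action on 3510 points -/

theorem rep : ∃ φ : Fi22 →* Equiv.Perm (Fin 3510),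
    (∀ w, (∀ c ∈ w, c < 9) → ∀ p : Fin 3510,
      ((φ (PresentedGroup.mk Rels (wordElt gc w)))⁻¹ p).val = wapp Fi22a.px w p.val) ∧
    (∃ F : (Fi22 ⧸ subH Rels Cfsg.Agent.S1687.S) ≃ Fin 3510, ∀ g q, F (g • q) = φ g (F q)) ∧
    Function.Injective φ ∧ Nat.card Fi22 = 64561751654400 ∧ Finite Fi22 := by
  obtain ⟨φ, hw, hfixH, htrans⟩ := perm_rep (rels := Rels) (S := Cfsg.Agent.S1687.S)
    Cfsg.Agent.S1687.hP hC (rel_cover Cfsg.Agent.S1687.hP Cfsg.Agent.S1687.hfix)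
    Cfsg.Agent.S1687.hsubP Cfsg.Agent.S1687.htree
  obtain ⟨_, F, hF⟩ := index_eq Cfsg.Agent.S1687.hP.Npos hfixH htrans
    Cfsg.Agent.S1687.idx_le.1 Cfsg.Agent.S1687.idx_le.2
  have hfin : Finite Fi22 := Fi22UB.card_le.1
  have hlb := Fi22aL.chain_lb (φ := φ) hw
  obtain ⟨hinj, hcard⟩ := faithful_of_card hlb Fi22UB.card_le.2 (by norm_num)
  exact ⟨φ, hw, ⟨F, hF⟩, hinj, hcard, hfin⟩

end Cfsg.Agent.Lib.Helper6.Fi22Ord
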