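import Mathlib
import Cfsg.Agent.Lib.Helper6.TCP.O73
import Cfsg.Agent.Lib.Helper6.TC14
import Cfsg.Agent.Lib.Helper6.TCD.O73a.All

set_option autoImplicit false

namespace Cfsg.Agent.Lib.Helper6.O73Idx
open Cfsg.Agent.Lib.Helper6.TC Cfsg.Agent.Lib.Helper6.TCP.O73 Cfsg.Agent.Lib.Helper6.TCD.O73a

/-! # The index and the suborbits of a subgroup of the group `O73` presented by words -/

section helpers
set_option maxRecDepth 100000
set_option linter.unusedSimpArgs false

/-- the words of the generators of the subgroup -/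
def subw : List (List ℕ) := [[0], [1], [2], [3], [4], [6], [7]]

/-- the generating set of the subgroup -/
abbrev S : Set (FreeGroup (Fin 8)) := wset 8 subw

theorem hsw : ∀ s ∈ S, ∃ w ∈ subw, s = wordElt gc w := wp_hsw subw

theorem hsw' : ∀ w ∈ subw, (∀ c ∈ w, c < 8) ∧ wordElt gc w ∈ S := wp_hsw' (by decide)

theorem chkW : allB (chkWord WD WI base subw Cfsg.Agent.Lib.Helper6.TCD.O73a.INV ncol nrw) nw = true := by
  decide +kernel

theorem hS : ∀ s < n * ncol, chkSlot SH SC NH NC WD n ncol nrw nw tmax Cfsg.Agent.Lib.Helper6.TCD.O73a.INV s = true := by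
  intro s hs
  have hs' : s < 12352 := hs
  by_cases h0 : s < 8000
  · exact allR_spec chkS0 s (by omega) (by omega)
  by_cases h1 : s < 12352
  · exact allR_spec chkS1 s (by omega) (by omega)
  omega

theorem hN : ∀ ν < n, chkName SH NH NC WD n ncol nrw nw tmax ν = true := by
  intro ν hν
  have hν' : ν < 1544 := hν
  by_cases h0 : ν < 1544
  · exact allR_spec chkN0 ν (by omega) (by omega)
  omega

theorem hL : ∀ ν < n, chkLive SH NH n ncol tmax ν = true := by
  intro ν hν
  have hν' : ν < 1544 := hν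
  by_cases h0 : ν < 1544
  · exact allR_spec chkL0 ν (by omega) (by omega)
  omega

theorem hwords :
    (∀ j < nrw, j < nw → PresentedGroup.mk Rels (wordElt gc (wordL WD j)) = 1) ∧
    (∀ j, nrw ≤ j → j < nw → wordElt gc (wordL WD j) ∈ Subgroup.closure S) ∧
    (∀ j < nw, ∀ c ∈ wordL WD j, c < ncol) :=
  words_ok (S := S) (nw := nw) hinvG hbl hbase
    (fun w hw => Subgroup.subset_closure (hsw' w hw).2) (fun j hj => allB_spec chkW j hj)

theorem idx_le : (subH Rels S).index ≤ N ∧ (subH Rels S).index ≠ 0 := by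
  have h := index_le (rels := Rels) (S := S) (gc := gc) (n := n) (ncol := ncol) (nrw := nrw) (nw := nw)
    (tmax := tmax) (INV := Cfsg.Agent.Lib.Helper6.TCD.O73a.INV) (SH := SH) (SC := SC) (NH := NH) (NC := NC) (WD := WD)
    (by decide) hgen hinv1 hinvG (fun j hj => hwords.1 j hj (by unfold nrw nw at *; omega)) hwords.2.1 hwords.2.2 hS hN hL
  have e : cntLive NH n tmax n = N := chkC
  rw [e] at h
  exact h

theorem hP : PHyp px N 8 Cfsg.Agent.Lib.Helper6.TCP.O73.INV where
  Npos := by decide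
  hinv1 := hinv1
  hinvinv := hinvinv
  hlt := by
    intro c hc p hp
    interval_cases c
    · exact (chkCol_spec chkP0 p hp).1
    · exact (chkCol_spec chkP1 p hp).1
    · exact (chkCol_spec chkP2 p hp).1
    · exact (chkCol_spec chkP3 p hp).1
    · exact (chkCol_spec chkP4 p hp).1
    · exact (chkCol_spec chkP5 p hp).1
    · exact (chkCol_spec chkP6 p hp).1
    · exact (chkCol_spec chkP7 p hp).1
  hpx := by
    intro c hc p hp
    interval_cases c
    · exact (chkCol_spec chkP0 p hp).2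
    · exact (chkCol_spec chkP1 p hp).2
    · exact (chkCol_spec chkP2 p hp).2
    · exact (chkCol_spec chkP3 p hp).2
    · exact (chkCol_spec chkP4 p hp).2
    · exact (chkCol_spec chkP5 p hp).2
    · exact (chkCol_spec chkP6 p hp).2
    · exact (chkCol_spec chkP7 p hp).2

theorem px_c0 (p : ℕ) : px 0 p = P0 p := rfl
theorem px_c1 (p : ℕ) : px 1 p = P1 p := rfl
theorem px_c2 (p : ℕ) : px 2 p = P2 p := rfl
theorem px_c3 (p : ℕ) : px 3 p = P3 p := rfl
theorem px_c4 (p : ℕ) : px 4 p = P4 p := rfl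
theorem px_c5 (p : ℕ) : px 5 p = P5 p := rfl
theorem px_c6 (p : ℕ) : px 6 p = P6 p := rfl
theorem px_c7 (p : ℕ) : px 7 p = P7 p := rfl

theorem hfixk_0 : ∀ p < N, P0 (P0 p) = p := fun p hp => (chkCol_spec chkP0 p hp).2

theorem hfixw_0 (p : ℕ) : wapp px (base.getD 0 []) p = P0 (P0 p) := by
  show wapp px [0, 0] p = _
  simp only [wapp_cons, wapp_nil, px_c0]

theorem hfixk_1 : ∀ p < N, P1 (P1 p) = p := fun p hp => (chkCol_spec chkP1 p hp).2

theorem hfixw_1 (p : ℕ) : wapp px (base.getD 1 []) p = P1 (P1 p) := by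
  show wapp px [1, 1] p = _
  simp only [wapp_cons, wapp_nil, px_c1]

theorem hfixk_2 : ∀ p < N, P2 (P2 p) = p := fun p hp => (chkCol_spec chkP2 p hp).2

theorem hfixw_2 (p : ℕ) : wapp px (base.getD 2 []) p = P2 (P2 p) := by
  show wapp px [2, 2] p = _
  simp only [wapp_cons, wapp_nil, px_c2]

theorem hfixk_3 : ∀ p < N, P3 (P3 p) = p := fun p hp => (chkCol_spec chkP3 p hp).2

theorem hfixw_3 (p : ℕ) : wapp px (base.getD 3 []) p = P3 (P3 p) := by
  show wapp px [3, 3] p = _
  simp only [wapp_cons, wapp_nil, px_c3]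

theorem hfixk_4 : ∀ p < N, P4 (P4 p) = p := fun p hp => (chkCol_spec chkP4 p hp).2

theorem hfixw_4 (p : ℕ) : wapp px (base.getD 4 []) p = P4 (P4 p) := by
  show wapp px [4, 4] p = _
  simp only [wapp_cons, wapp_nil, px_c4]

theorem hfixk_5 : ∀ p < N, P5 (P5 p) = p := fun p hp => (chkCol_spec chkP5 p hp).2

theorem hfixw_5 (p : ℕ) : wapp px (base.getD 5 []) p = P5 (P5 p) := by
  show wapp px [5, 5] p = _
  simp only [wapp_cons, wapp_nil, px_c5]

theorem hfixk_6 : ∀ p < N, P6 (P6 p) = p := fun p hp => (chkCol_spec chkP6 p hp).2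

theorem hfixw_6 (p : ℕ) : wapp px (base.getD 6 []) p = P6 (P6 p) := by
  show wapp px [6, 6] p = _
  simp only [wapp_cons, wapp_nil, px_c6]

theorem hfixk_7 : ∀ p < N, P7 (P7 p) = p := fun p hp => (chkCol_spec chkP7 p hp).2

theorem hfixw_7 (p : ℕ) : wapp px (base.getD 7 []) p = P7 (P7 p) := by
  show wapp px [7, 7] p = _
  simp only [wapp_cons, wapp_nil, px_c7]

theorem hfixk_8 : ∀ p < N, R8 p = p := by
  intro p hp
  have hp' : p < 364 := hp
  exact chkFix_spec chkR8_0 p (by omega) (by omega)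

theorem hfixw_8 (p : ℕ) : wapp px (base.getD 8 []) p = R8 p := by
  show wapp px [0, 1, 0, 1, 0, 1] p = _
  simp only [wapp_cons, wapp_nil, px_c0, px_c1, px_c2, px_c3, px_c4, px_c5, px_c6, px_c7]
  rfl

theorem hfixk_9 : ∀ p < N, R9 p = p := by
  intro p hp
  have hp' : p < 364 := hp
  exact chkFix_spec chkR9_0 p (by omega) (by omega)

theorem hfixw_9 (p : ℕ) : wapp px (base.getD 9 []) p = R9 p := by
  show wapp px [0, 2, 0, 2] p = _
  simp only [wapp_cons, wapp_nil, px_c0, px_c1, px_c2, px_c3, px_c4, px_c5, px_c6, px_c7]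
  rfl

theorem hfixk_10 : ∀ p < N, R10 p = p := by
  intro p hp
  have hp' : p < 364 := hp
  exact chkFix_spec chkR10_0 p (by omega) (by omega)

theorem hfixw_10 (p : ℕ) : wapp px (base.getD 10 []) p = R10 p := by
  show wapp px [0, 3, 0, 3] p = _
  simp only [wapp_cons, wapp_nil, px_c0, px_c1, px_c2, px_c3, px_c4, px_c5, px_c6, px_c7]
  rfl

theorem hfixk_11 : ∀ p < N, R11 p = p := by
  intro p hp
  have hp' : p < 364 := hp
  exact chkFix_spec chkR11_0 p (by omega) (by omega)

theorem hfixw_11 (p : ℕ) : wapp px (base.getD 11 []) p = R11 p := by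
  show wapp px [0, 4, 0, 4] p = _
  simp only [wapp_cons, wapp_nil, px_c0, px_c1, px_c2, px_c3, px_c4, px_c5, px_c6, px_c7]
  rfl

theorem hfixk_12 : ∀ p < N, R12 p = p := by
  intro p hp
  have hp' : p < 364 := hp
  exact chkFix_spec chkR12_0 p (by omega) (by omega)

theorem hfixw_12 (p : ℕ) : wapp px (base.getD 12 []) p = R12 p := by
  show wapp px [0, 5, 0, 5] p = _
  simp only [wapp_cons, wapp_nil, px_c0, px_c1, px_c2, px_c3, px_c4, px_c5, px_c6, px_c7]
  rfl

theorem hfixk_13 : ∀ p < N, R13 p = p := by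
  intro p hp
  have hp' : p < 364 := hp
  exact chkFix_spec chkR13_0 p (by omega) (by omega)

theorem hfixw_13 (p : ℕ) : wapp px (base.getD 13 []) p = R13 p := by
  show wapp px [0, 6, 0, 6] p = _
  simp only [wapp_cons, wapp_nil, px_c0, px_c1, px_c2, px_c3, px_c4, px_c5, px_c6, px_c7]
  rfl

theorem hfixk_14 : ∀ p < N, R14 p = p := by
  intro p hp
  have hp' : p < 364 := hp
  exact chkFix_spec chkR14_0 p (by omega) (by omega)

theorem hfixw_14 (p : ℕ) : wapp px (base.getD 14 []) p = R14 p := by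
  show wapp px [0, 7, 0, 7] p = _
  simp only [wapp_cons, wapp_nil, px_c0, px_c1, px_c2, px_c3, px_c4, px_c5, px_c6, px_c7]
  rfl

theorem hfixk_15 : ∀ p < N, R15 p = p := by
  intro p hp
  have hp' : p < 364 := hp
  exact chkFix_spec chkR15_0 p (by omega) (by omega)

theorem hfixw_15 (p : ℕ) : wapp px (base.getD 15 []) p = R15 p := by
  show wapp px [1, 2, 1, 2, 1, 2] p = _
  simp only [wapp_cons, wapp_nil, px_c0, px_c1, px_c2, px_c3, px_c4, px_c5, px_c6, px_c7]
  rfl

theorem hfixk_16 : ∀ p < N, R16 p = p := by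
  intro p hp
  have hp' : p < 364 := hp
  exact chkFix_spec chkR16_0 p (by omega) (by omega)

theorem hfixw_16 (p : ℕ) : wapp px (base.getD 16 []) p = R16 p := by
  show wapp px [1, 3, 1, 3] p = _
  simp only [wapp_cons, wapp_nil, px_c0, px_c1, px_c2, px_c3, px_c4, px_c5, px_c6, px_c7]
  rfl

theorem hfixk_17 : ∀ p < N, R17 p = p := by
  intro p hp
  have hp' : p < 364 := hp
  exact chkFix_spec chkR17_0 p (by omega) (by omega)

theorem hfixw_17 (p : ℕ) : wapp px (base.getD 17 []) p = R17 p := by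
  show wapp px [1, 4, 1, 4] p = _
  simp only [wapp_cons, wapp_nil, px_c0, px_c1, px_c2, px_c3, px_c4, px_c5, px_c6, px_c7]
  rfl

theorem hfixk_18 : ∀ p < N, R18 p = p := by
  intro p hp
  have hp' : p < 364 := hp
  exact chkFix_spec chkR18_0 p (by omega) (by omega)

theorem hfixw_18 (p : ℕ) : wapp px (base.getD 18 []) p = R18 p := by
  show wapp px [1, 5, 1, 5] p = _
  simp only [wapp_cons, wapp_nil, px_c0, px_c1, px_c2, px_c3, px_c4, px_c5, px_c6, px_c7]
  rfl

theorem hfixk_19 : ∀ p < N, R19 p = p := by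
  intro p hp
  have hp' : p < 364 := hp
  exact chkFix_spec chkR19_0 p (by omega) (by omega)

theorem hfixw_19 (p : ℕ) : wapp px (base.getD 19 []) p = R19 p := by
  show wapp px [1, 6, 1, 6] p = _
  simp only [wapp_cons, wapp_nil, px_c0, px_c1, px_c2, px_c3, px_c4, px_c5, px_c6, px_c7]
  rfl

theorem hfixk_20 : ∀ p < N, R20 p = p := by
  intro p hp
  have hp' : p < 364 := hp
  exact chkFix_spec chkR20_0 p (by omega) (by omega)

theorem hfixw_20 (p : ℕ) : wapp px (base.getD 20 []) p = R20 p := by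
  show wapp px [1, 7, 1, 7] p = _
  simp only [wapp_cons, wapp_nil, px_c0, px_c1, px_c2, px_c3, px_c4, px_c5, px_c6, px_c7]
  rfl

theorem hfixk_21 : ∀ p < N, R21 p = p := by
  intro p hp
  have hp' : p < 364 := hp
  exact chkFix_spec chkR21_0 p (by omega) (by omega)

theorem hfixw_21 (p : ℕ) : wapp px (base.getD 21 []) p = R21 p := by
  show wapp px [2, 3, 2, 3, 2, 3] p = _
  simp only [wapp_cons, wapp_nil, px_c0, px_c1, px_c2, px_c3, px_c4, px_c5, px_c6, px_c7]
  rfl

theorem hfixk_22 : ∀ p < N, R22 p = p := by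
  intro p hp
  have hp' : p < 364 := hp
  exact chkFix_spec chkR22_0 p (by omega) (by omega)

theorem hfixw_22 (p : ℕ) : wapp px (base.getD 22 []) p = R22 p := by
  show wapp px [2, 4, 2, 4] p = _
  simp only [wapp_cons, wapp_nil, px_c0, px_c1, px_c2, px_c3, px_c4, px_c5, px_c6, px_c7]
  rfl

theorem hfixk_23 : ∀ p < N, R23 p = p := by
  intro p hp
  have hp' : p < 364 := hp
  exact chkFix_spec chkR23_0 p (by omega) (by omega)

theorem hfixw_23 (p : ℕ) : wapp px (base.getD 23 []) p = R23 p := by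
  show wapp px [2, 5, 2, 5] p = _
  simp only [wapp_cons, wapp_nil, px_c0, px_c1, px_c2, px_c3, px_c4, px_c5, px_c6, px_c7]
  rfl

theorem hfixk_24 : ∀ p < N, R24 p = p := by
  intro p hp
  have hp' : p < 364 := hp
  exact chkFix_spec chkR24_0 p (by omega) (by omega)

theorem hfixw_24 (p : ℕ) : wapp px (base.getD 24 []) p = R24 p := by
  show wapp px [2, 6, 2, 6, 2, 6] p = _
  simp only [wapp_cons, wapp_nil, px_c0, px_c1, px_c2, px_c3, px_c4, px_c5, px_c6, px_c7]
  rfl

theorem hfixk_25 : ∀ p < N, R25 p = p := by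
  intro p hp
  have hp' : p < 364 := hp
  exact chkFix_spec chkR25_0 p (by omega) (by omega)

theorem hfixw_25 (p : ℕ) : wapp px (base.getD 25 []) p = R25 p := by
  show wapp px [2, 7, 2, 7] p = _
  simp only [wapp_cons, wapp_nil, px_c0, px_c1, px_c2, px_c3, px_c4, px_c5, px_c6, px_c7]
  rfl

theorem hfixk_26 : ∀ p < N, R26 p = p := by
  intro p hp
  have hp' : p < 364 := hp
  exact chkFix_spec chkR26_0 p (by omega) (by omega)

theorem hfixw_26 (p : ℕ) : wapp px (base.getD 26 []) p = R26 p := by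
  show wapp px [3, 4, 3, 4, 3, 4] p = _
  simp only [wapp_cons, wapp_nil, px_c0, px_c1, px_c2, px_c3, px_c4, px_c5, px_c6, px_c7]
  rfl

theorem hfixk_27 : ∀ p < N, R27 p = p := by
  intro p hp
  have hp' : p < 364 := hp
  exact chkFix_spec chkR27_0 p (by omega) (by omega)

theorem hfixw_27 (p : ℕ) : wapp px (base.getD 27 []) p = R27 p := by
  show wapp px [3, 5, 3, 5] p = _
  simp only [wapp_cons, wapp_nil, px_c0, px_c1, px_c2, px_c3, px_c4, px_c5, px_c6, px_c7]
  rfl

theorem hfixk_28 : ∀ p < N, R28 p = p := by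
  intro p hp
  have hp' : p < 364 := hp
  exact chkFix_spec chkR28_0 p (by omega) (by omega)

theorem hfixw_28 (p : ℕ) : wapp px (base.getD 28 []) p = R28 p := by
  show wapp px [3, 6, 3, 6] p = _
  simp only [wapp_cons, wapp_nil, px_c0, px_c1, px_c2, px_c3, px_c4, px_c5, px_c6, px_c7]
  rfl

theorem hfixk_29 : ∀ p < N, R29 p = p := by
  intro p hp
  have hp' : p < 364 := hp
  exact chkFix_spec chkR29_0 p (by omega) (by omega)

theorem hfixw_29 (p : ℕ) : wapp px (base.getD 29 []) p = R29 p := by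
  show wapp px [3, 7, 3, 7] p = _
  simp only [wapp_cons, wapp_nil, px_c0, px_c1, px_c2, px_c3, px_c4, px_c5, px_c6, px_c7]
  rfl

theorem hfixk_30 : ∀ p < N, R30 p = p := by
  intro p hp
  have hp' : p < 364 := hp
  exact chkFix_spec chkR30_0 p (by omega) (by omega)

theorem hfixw_30 (p : ℕ) : wapp px (base.getD 30 []) p = R30 p := by
  show wapp px [4, 5, 4, 5, 4, 5] p = _
  simp only [wapp_cons, wapp_nil, px_c0, px_c1, px_c2, px_c3, px_c4, px_c5, px_c6, px_c7]
  rfl

theorem hfixk_31 : ∀ p < N, R31 p = p := by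
  intro p hp
  have hp' : p < 364 := hp
  exact chkFix_spec chkR31_0 p (by omega) (by omega)

theorem hfixw_31 (p : ℕ) : wapp px (base.getD 31 []) p = R31 p := by
  show wapp px [4, 6, 4, 6] p = _
  simp only [wapp_cons, wapp_nil, px_c0, px_c1, px_c2, px_c3, px_c4, px_c5, px_c6, px_c7]
  rfl

theorem hfixk_32 : ∀ p < N, R32 p = p := by
  intro p hp
  have hp' : p < 364 := hp
  exact chkFix_spec chkR32_0 p (by omega) (by omega)

theorem hfixw_32 (p : ℕ) : wapp px (base.getD 32 []) p = R32 p := by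
  show wapp px [4, 7, 4, 7] p = _
  simp only [wapp_cons, wapp_nil, px_c0, px_c1, px_c2, px_c3, px_c4, px_c5, px_c6, px_c7]
  rfl

theorem hfixk_33 : ∀ p < N, R33 p = p := by
  intro p hp
  have hp' : p < 364 := hp
  exact chkFix_spec chkR33_0 p (by omega) (by omega)

theorem hfixw_33 (p : ℕ) : wapp px (base.getD 33 []) p = R33 p := by
  show wapp px [5, 6, 5, 6] p = _
  simp only [wapp_cons, wapp_nil, px_c0, px_c1, px_c2, px_c3, px_c4, px_c5, px_c6, px_c7]
  rfl

theorem hfixk_34 : ∀ p < N, R34 p = p := by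
  intro p hp
  have hp' : p < 364 := hp
  exact chkFix_spec chkR34_0 p (by omega) (by omega)

theorem hfixw_34 (p : ℕ) : wapp px (base.getD 34 []) p = R34 p := by
  show wapp px [5, 7, 5, 7] p = _
  simp only [wapp_cons, wapp_nil, px_c0, px_c1, px_c2, px_c3, px_c4, px_c5, px_c6, px_c7]
  rfl

theorem hfixk_35 : ∀ p < N, R35 p = p := by
  intro p hp
  have hp' : p < 364 := hp
  exact chkFix_spec chkR35_0 p (by omega) (by omega)

theorem hfixw_35 (p : ℕ) : wapp px (base.getD 35 []) p = R35 p := by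
  show wapp px [6, 7, 6, 7, 6, 7] p = _
  simp only [wapp_cons, wapp_nil, px_c0, px_c1, px_c2, px_c3, px_c4, px_c5, px_c6, px_c7]
  rfl

theorem hfixk_36 : ∀ p < N, R36 p = p := by
  intro p hp
  have hp' : p < 364 := hp
  exact chkFix_spec chkR36_0 p (by omega) (by omega)

theorem hQU_36 : ∀ p < N, Q36 p = U36 p := by
  intro p hp
  have hp' : p < 364 := hp
  exact chkEqF_spec chkQ36_0 p (by omega) (by omega)

theorem hUw_36 (p : ℕ) : wapp px [2, 1, 0, 2, 3, 4, 2, 6, 7] p = U36 p := by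
  simp only [wapp_cons, wapp_nil, px_c0, px_c1, px_c2, px_c3, px_c4, px_c5, px_c6, px_c7]
  rfl

theorem hfixw_36 (p : ℕ) (hp : p < N) : wapp px (base.getD 36 []) p = R36 p := by
  have e : base.getD 36 [] = (List.replicate 10 [2, 1, 0, 2, 3, 4, 2, 6, 7]).flatten := by decide +kernel
  rw [e, wapp_pow hP (by decide) (fun q hq => (hQU_36 q hq).trans (hUw_36 q).symm) 10 p hp]
  unfold R36
  simp only [Function.iterate_succ_apply, Function.iterate_zero_apply]

theorem hfixk_37 : ∀ p < N, R37 p = p := by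
  intro p hp
  have hp' : p < 364 := hp
  exact chkFix_spec chkR37_0 p (by omega) (by omega)

theorem hQU_37 : ∀ p < N, Q37 p = U37 p := by
  intro p hp
  have hp' : p < 364 := hp
  exact chkEqF_spec chkQ37_0 p (by omega) (by omega)

theorem hUw_37 (p : ℕ) : wapp px [0, 1, 2, 3, 4, 5, 6] p = U37 p := by
  simp only [wapp_cons, wapp_nil, px_c0, px_c1, px_c2, px_c3, px_c4, px_c5, px_c6, px_c7]
  rfl

theorem hfixw_37 (p : ℕ) (hp : p < N) : wapp px (base.getD 37 []) p = R37 p := by
  have e : base.getD 37 [] = (List.replicate 9 [0, 1, 2, 3, 4, 5, 6]).flatten := by decide +kernel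
  rw [e, wapp_pow hP (by decide) (fun q hq => (hQU_37 q hq).trans (hUw_37 q).symm) 9 p hp]
  unfold R37
  simp only [Function.iterate_succ_apply, Function.iterate_zero_apply]

theorem hfix_k : ∀ k < 38, ∀ p < N, wapp px (base.getD k []) p = p := by
  intro k hk
  interval_cases k
  · intro p hp
    rw [hfixw_0]
    exact hfixk_0 p hp
  · intro p hp
    rw [hfixw_1]
    exact hfixk_1 p hp
  · intro p hp
    rw [hfixw_2]
    exact hfixk_2 p hp
  · intro p hp
    rw [hfixw_3]
    exact hfixk_3 p hp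
  · intro p hp
    rw [hfixw_4]
    exact hfixk_4 p hp
  · intro p hp
    rw [hfixw_5]
    exact hfixk_5 p hp
  · intro p hp
    rw [hfixw_6]
    exact hfixk_6 p hp
  · intro p hp
    rw [hfixw_7]
    exact hfixk_7 p hp
  · intro p hp
    rw [hfixw_8]
    exact hfixk_8 p hp
  · intro p hp
    rw [hfixw_9]
    exact hfixk_9 p hp
  · intro p hp
    rw [hfixw_10]
    exact hfixk_10 p hp
  · intro p hp
    rw [hfixw_11]
    exact hfixk_11 p hp
  · intro p hp
    rw [hfixw_12]
    exact hfixk_12 p hp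
  · intro p hp
    rw [hfixw_13]
    exact hfixk_13 p hp
  · intro p hp
    rw [hfixw_14]
    exact hfixk_14 p hp
  · intro p hp
    rw [hfixw_15]
    exact hfixk_15 p hp
  · intro p hp
    rw [hfixw_16]
    exact hfixk_16 p hp
  · intro p hp
    rw [hfixw_17]
    exact hfixk_17 p hp
  · intro p hp
    rw [hfixw_18]
    exact hfixk_18 p hp
  · intro p hp
    rw [hfixw_19]
    exact hfixk_19 p hp
  · intro p hp
    rw [hfixw_20]
    exact hfixk_20 p hp
  · intro p hp
    rw [hfixw_21]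
    exact hfixk_21 p hp
  · intro p hp
    rw [hfixw_22]
    exact hfixk_22 p hp
  · intro p hp
    rw [hfixw_23]
    exact hfixk_23 p hp
  · intro p hp
    rw [hfixw_24]
    exact hfixk_24 p hp
  · intro p hp
    rw [hfixw_25]
    exact hfixk_25 p hp
  · intro p hp
    rw [hfixw_26]
    exact hfixk_26 p hp
  · intro p hp
    rw [hfixw_27]
    exact hfixk_27 p hp
  · intro p hp
    rw [hfixw_28]
    exact hfixk_28 p hp
  · intro p hp
    rw [hfixw_29]
    exact hfixk_29 p hp
  · intro p hp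
    rw [hfixw_30]
    exact hfixk_30 p hp
  · intro p hp
    rw [hfixw_31]
    exact hfixk_31 p hp
  · intro p hp
    rw [hfixw_32]
    exact hfixk_32 p hp
  · intro p hp
    rw [hfixw_33]
    exact hfixk_33 p hp
  · intro p hp
    rw [hfixw_34]
    exact hfixk_34 p hp
  · intro p hp
    rw [hfixw_35]
    exact hfixk_35 p hp
  · intro p hp
    rw [hfixw_36 p hp]
    exact hfixk_36 p hp
  · intro p hp
    rw [hfixw_37 p hp]
    exact hfixk_37 p hp


theorem hfix : ∀ b ∈ base, ∀ p < N, wapp px b p = p := by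
  intro b hb
  obtain ⟨k, hk, rfl⟩ := List.mem_iff_getElem.mp hb
  have hk' : k < 38 := hk
  have := hfix_k k hk'
  rw [List.getD_eq_getElem _ _ hk] at this
  exact this

theorem htree : ∀ p, 0 < p → p < N → ∃ c < 8, ∃ q < p, px c q = p := chkTree_spec chkT

theorem hsubP : ∀ s ∈ S, ∃ w, (∀ c ∈ w, c < 8) ∧ s = wordElt gc w ∧ wapp px w 0 = 0 := by
  intro s hs
  obtain ⟨w, hw, rfl⟩ := hsw s hs
  refine ⟨w, (hsw' w hw).1, rfl, ?_⟩
  simp only [subw, List.mem_cons, List.mem_nil_iff, or_false] at hw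
  rcases hw with rfl | rfl | rfl | rfl | rfl | rfl | rfl
  · exact Nat.eq_of_beq_eq_true chkH0
  · exact Nat.eq_of_beq_eq_true chkH1
  · exact Nat.eq_of_beq_eq_true chkH2
  · exact Nat.eq_of_beq_eq_true chkH3
  · exact Nat.eq_of_beq_eq_true chkH4
  · exact Nat.eq_of_beq_eq_true chkH5
  · exact Nat.eq_of_beq_eq_true chkH6

theorem hlab : ∀ w ∈ subw, ∀ p < N, lab (wapp px w p) = lab p := by
  intro w hw
  simp only [subw, List.mem_cons, List.mem_nil_iff, or_false] at hw
  rcases hw with rfl | rfl | rfl | rfl | rfl | rfl | rfl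
  · exact chkLab_spec chkLab0
  · exact chkLab_spec chkLab1
  · exact chkLab_spec chkLab2
  · exact chkLab_spec chkLab3
  · exact chkLab_spec chkLab4
  · exact chkLab_spec chkLab5
  · exact chkLab_spec chkLab6

theorem hsel_mem : ∀ k p, ∃ w ∈ subw, hsel k p = wapp px w p := by
  intro k p
  match k with
  | 0 => exact ⟨_, List.getElem_mem (l := subw) (n := 0) (by decide), rfl⟩
  | 1 => exact ⟨_, List.getElem_mem (l := subw) (n := 1) (by decide), rfl⟩
  | 2 => exact ⟨_, List.getElem_mem (l := subw) (n := 2) (by decide), rfl⟩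
  | 3 => exact ⟨_, List.getElem_mem (l := subw) (n := 3) (by decide), rfl⟩
  | 4 => exact ⟨_, List.getElem_mem (l := subw) (n := 4) (by decide), rfl⟩
  | 5 => exact ⟨_, List.getElem_mem (l := subw) (n := 5) (by decide), rfl⟩
  | (k + 6) => exact ⟨_, List.getElem_mem (l := subw) (n := 6) (by decide), rfl⟩

theorem isRoot_cases {p : ℕ} (h : isRoot p = true) : p = 0 ∨ p = 1 ∨ p = 100 := by
  unfold isRoot at h
  rw [brec_beq] at h
  by_cases h0 : p = 0
  · exact Or.inl h0
  · rw [if_neg h0] at h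
    rw [brec_beq] at h
    by_cases h1 : p = 1
    · exact Or.inr (Or.inl h1)
    · rw [if_neg h1] at h
      rw [brec_beq] at h
      by_cases h2 : p = 100
      · exact Or.inr (Or.inr (h2))
      · rw [if_neg h2] at h
        exact absurd h (by simp)

theorem lab_r0 : lab 0 = 0 := by decide +kernel
theorem lab_r1 : lab 1 = 1 := by decide +kernel
theorem lab_r2 : lab 100 = 2 := by decide +kernel

theorem htreeH (p0 : ℕ) (hp0 : p0 = 0 ∨ p0 = 1 ∨ p0 = 100) :
    ∀ p < N, lab p = lab p0 → p ≠ p0 → ∃ w ∈ subw, rnk (wapp px w p) < rnk p := by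
  intro p hp hl hne
  rcases chkRank_spec chkRk p hp with h | h
  · exfalso
    have := isRoot_cases h
    rcases this with rfl | rfl | rfl <;> rcases hp0 with rfl | rfl | rfl <;>
      simp only [lab_r0, lab_r1, lab_r2] at hl <;> first | exact hne rfl | omega
  · obtain ⟨w, hw, e⟩ := hsel_mem (Nat.land (Nat.shiftRight (HR p) 4) 15) p
    refine ⟨w, hw, ?_⟩
    rw [← e]
    exact h

theorem orbits_thm : (subH Rels S).index = 364 ∧ ∃ q1 q2 : G ⧸ subH Rels S, (MulAction.orbit (subH Rels S) q1).ncard = 120 ∧ (MulAction.orbit (subH Rels S) q2).ncard = 243 := by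
  obtain ⟨φ, hw, hfixH, htrans⟩ := perm_rep (rels := Rels) (S := S) hP hC (rel_cover hP hfix) hsubP htree
  obtain ⟨hidx, F, hF⟩ := index_eq hP.Npos hfixH htrans idx_le.1 idx_le.2
  refine ⟨hidx, F.symm ⟨100, by decide⟩, F.symm ⟨1, by decide⟩, ?_, ?_⟩
  · have h1 := orbit_spec hF hw subw hsw hsw' lab rnk 100 (by decide) hlab (htreeH 100 (by simp))
    have h2 := orbit_ncard lab 100 (by decide) h1
    rw [lab_r2, ← cntLab_eq] at h2
    exact h2.trans chkCnt2
  · have h1 := orbit_spec hF hw subw hsw hsw' lab rnk 1 (by decide) hlab (htreeH 1 (by simp))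
    have h2 := orbit_ncard lab 1 (by decide) h1
    rw [lab_r1, ← cntLab_eq] at h2
    exact h2.trans chkCnt1

end helpers

end Cfsg.Agent.Lib.Helper6.O73Idx
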