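import Cfsg.Agent.Lib.Helper1.MatCode3
import Cfsg.Agent.Lib.Helper6.WP10
import Cfsg.Agent.Lib.Helper6.Simp7
import Cfsg.Agent.Lib.Helper6.Spor.O73Simple
import Cfsg.Agent.S0292
import Cfsg.Prelude.Def_Classical

set_option autoImplicit false
set_option maxRecDepth 100000

namespace Cfsg.Agent.Lib.Helper6.O73Mat

open Matrix Cfsg.Agent.Lib.Helper1.MatCode
open Cfsg.Agent.Lib.Helper6.TC Cfsg.Agent.Lib.Helper6.Simp

/-! # The presented group `O73` is isomorphic to the orthogonal group `PΩ(7, 3)` -/

/-- the index type of the matrices -/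
abbrev I7 : Type := Unit ⊕ (Fin 3 ⊕ Fin 3)

/-- the quadratic form -/
abbrev Q : (I7 → ZMod 3) → ZMod 3 := Cfsg.quadFormOdd 3 (ZMod 3)

/-- the numbering of the coordinates -/
def e7 : I7 ≃ Fin 7 := (Equiv.sumCongr finOneEquiv.symm finSumFinEquiv).trans finSumFinEquiv

/-- the matrices, renumbered -/
def ren : Matrix I7 I7 (ZMod 3) ≃+* Matrix (Fin 7) (Fin 7) (ZMod 3) :=
  (Matrix.reindexRingEquiv (ZMod 3) e7)

/-- the code of the identity -/
def c1 : ℕ := 1552518092300708935148979488462502555261448457734318806357693209631751244011283522646056911356325244493385211710467269360504281643289121631706751492258654289023305257803255618840597233219186495885247194578646068107521576667956903937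

theorem hmu : ∀ a b, Canon 7 3 b → dec 7 3 (mulN 7 3 a b) = dec 7 3 a * dec 7 3 b :=
  fun a b hb => dec_mulN 7 3 (by norm_num) (by decide) (by decide) a b hb

theorem hc1 : Canon 7 3 c1 := canon_of_canonB 7 3 (by decide +kernel)

theorem hone : dec 7 3 c1 = 1 := by decide +kernel

/-- the codes of the matrices of the columns -/
def codes : List ℕ := [1552565471392892229299426987016344256165547563823586599889838027064144084616691356234129383547016135217629538418720331295238858486804376340728521313433221177907393604692779743825200238309696998292712818235611090231038607920409346048, 3105083563693601164616730824328394763649582816576949717497217225000277000329599017035582688114772105856352125697658416672345298888966248348310643354353839758714363155599552938865123781387952755230793680257770103197043805837976403968, 1552518093023667539882809371675667409569439862945270220842162956199197151306319675776410740494013273618513018106117613118215252135176916261506494785313054743551264915820391085449821718226108303932957581881993946203384374131475611648, 3105036184601417870297958976925005110522896915468637612715386419263560074119123790397883855103718227661345189218441612114110310132939806144923996827442583516667750733940472881447453704250535007108374229164433862825318992979534413824,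 47379453657080865099338124136566225595173720280486256574795361390724819764352499617058301390956223998676143785340452902861421453122677136143294092657617620371220883647765080375763650996253802675677442082507033076255770542080002, 47379815130867579751177733622498027787540229253786973576718520866171970189162785850466289342818111388115753478017358596304393796985503965565958382387029904118965057967085208127340861246420670866819959668075622190985372114092034, 1552565471754366016014078826606234654725110560584768499001233391805530604636628702675429129332502715639752777051119860721870589799585083106277359278654610735299152281846520133072122724175801364755767347348898420614257948135411154944, 3105083564055074951331382663918285162209145882955450611087909745409406504773162932579756979629518032959096226114330665926308981674114354504226661314940832909455039629343297353061032323771966831293343802377765429972228694493399875584]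

theorem hcan : ∀ c ∈ codes, Canon 7 3 c := canon_of_all 7 3 (by decide +kernel)

theorem hsq : ∀ c ∈ codes, mulN 7 3 c c = c1 := by
  decide +kernel

/-- the matrix of a code -/
def mat (c : ℕ) : Matrix I7 I7 (ZMod 3) := ren.symm (dec 7 3 c)

theorem ren_mat (c : ℕ) : ren (mat c) = dec 7 3 c := ren.apply_symm_apply _

theorem mat_sq {c : ℕ} (hc : c ∈ codes) : mat c * mat c = 1 := by
  apply ren.injective
  rw [map_mul, ren_mat, ← hmu c c (hcan c hc), hsq c hc, hone, map_one]

/-- the symmetric matrix of the quadratic form -/
def S : Matrix I7 I7 (ZMod 3) := fun i j =>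
  match i, j with
  | .inl _, .inl _ => 1
  | .inr (.inl a), .inr (.inr b) => if a = b then 2 else 0
  | .inr (.inr a), .inr (.inl b) => if a = b then 2 else 0
  | _, _ => 0

theorem Q_eq (u : I7 → ZMod 3) : Q u = u ⬝ᵥ (S *ᵥ u) := by
  have h4 : (4 : ZMod 3) = 1 := by decide
  simp only [Q, Cfsg.quadFormOdd, dotProduct, Matrix.mulVec, Fintype.sum_sum_type, Fin.sum_univ_three,
    Finset.univ_unique, Finset.sum_singleton, S]
  simp
  linear_combination (u (Sum.inr (Sum.inl 0)) * u (Sum.inr (Sum.inr 0)) +
    u (Sum.inr (Sum.inl 1)) * u (Sum.inr (Sum.inr 1)) +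
    u (Sum.inr (Sum.inl 2)) * u (Sum.inr (Sum.inr 2))) * (-h4)

theorem dot_mulVec (M : Matrix I7 I7 (ZMod 3)) (u w : I7 → ZMod 3) :
    (M *ᵥ u) ⬝ᵥ w = u ⬝ᵥ (Mᵀ *ᵥ w) := by
  rw [dotProduct_comm, Matrix.dotProduct_mulVec, ← Matrix.mulVec_transpose, dotProduct_comm]

/-- a matrix preserving the symmetric matrix preserves the quadratic form -/
theorem Q_mulVec {M : Matrix I7 I7 (ZMod 3)} (h : Mᵀ * S * M = S) (u : I7 → ZMod 3) :
    Q (M *ᵥ u) = Q u := by
  rw [Q_eq, Q_eq, dot_mulVec, Matrix.mulVec_mulVec, Matrix.mulVec_mulVec, h]

theorem hiso : ∀ c ∈ codes, (mat c)ᵀ * S * mat c = S := by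
  decide +kernel

/-- the invertible matrix of a code of the list -/
def gl (c : ℕ) (hc : c ∈ codes) : GL I7 (ZMod 3) := ⟨mat c, mat c, mat_sq hc, mat_sq hc⟩

theorem gl_mem (c : ℕ) (hc : c ∈ codes) : gl c hc ∈ Cfsg.isometryGroup (ZMod 3) Q := by
  intro u _
  exact Q_mulVec (hiso c hc) u

/-- the isometry of a column -/
def iso (i : ℕ) : Cfsg.isometryGroup (ZMod 3) Q :=
  if h : i < codes.length then ⟨gl codes[i] (List.getElem_mem h), gl_mem _ _⟩ else 1

/-- the matrix of an isometry, renumbered -/
def isoCoe : Cfsg.isometryGroup (ZMod 3) Q →* Matrix (Fin 7) (Fin 7) (ZMod 3) :=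
  ((ren : Matrix I7 I7 (ZMod 3) →+* Matrix (Fin 7) (Fin 7) (ZMod 3)) : Matrix I7 I7 (ZMod 3) →* _).comp
    ((Units.coeHom _).comp (Subgroup.subtype _))

theorem isoCoe_injective : Function.Injective isoCoe := by
  intro A B h
  apply Subtype.ext
  apply Units.ext
  exact ren.injective h

theorem isoCoe_iso (i : ℕ) (h : i < codes.length) : isoCoe (iso i) = dec 7 3 codes[i] := by
  unfold iso
  rw [dif_pos h]
  exact ren_mat _

/-- the isometries of the columns -/
def IG : List (Cfsg.isometryGroup (ZMod 3) Q) := [iso 0, iso 1, iso 2, iso 3, iso 4, iso 5, iso 6, iso 7]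

theorem hIG : ∀ i, ∀ (h : i < IG.length) (h' : i < codes.length), isoCoe IG[i] = dec 7 3 codes[i] := by
  intro i h h'
  have hn : i < 8 := h
  interval_cases i
  · exact isoCoe_iso 0 h'
  · exact isoCoe_iso 1 h'
  · exact isoCoe_iso 2 h'
  · exact isoCoe_iso 3 h'
  · exact isoCoe_iso 4 h'
  · exact isoCoe_iso 5 h'
  · exact isoCoe_iso 6 h'
  · exact isoCoe_iso 7 h'

theorem hchk : ∀ b ∈ TCP.O73.base, evalW (mulN 7 3) codes c1 b = c1 := by
  decide +kernel

theorem word_one (b : List ℕ) (hb : b ∈ TCP.O73.base) : wordProd IG b = 1 := by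
  have h1 : isoCoe (wordProd IG b) = dec 7 3 (evalW (mulN 7 3) codes c1 b) :=
    dec_evalW (dec 7 3) (mulN 7 3) (Canon 7 3) hmu isoCoe hone hc1 IG codes rfl hIG hcan b
  rw [hchk b hb, hone] at h1
  apply isoCoe_injective
  rw [h1, map_one]

/-- the images of the columns -/
def fcol (i : ℕ) : Cfsg.isometryGroup (ZMod 3) Q := IG.getD i 1

theorem hrel : ∀ b ∈ TCP.O73.base, (b.map fcol).prod = 1 := fun b hb => word_one b hb

/-- the homomorphism from the presented group to the isometry group -/
noncomputable def beta0 : TCP.O73.G →* Cfsg.isometryGroup (ZMod 3) Q := wgHom fcol TCP.O73.hbl hrel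

theorem beta0_of (i : Fin 8) :
    beta0 (PresentedGroup.mk (wrels 8 TCP.O73.base) (FreeGroup.of i)) = fcol i.val :=
  wgHom_of fcol TCP.O73.hbl hrel i

theorem hnc : mulN 7 3 (codes.getD 0 c1) (codes.getD 1 c1) ≠ mulN 7 3 (codes.getD 1 c1) (codes.getD 0 c1) := by
  decide +kernel

theorem hneB : neB 7 3 (mulN 7 3 (codes.getD 0 c1) (codes.getD 1 c1))
    (mulN 7 3 (codes.getD 1 c1) (codes.getD 0 c1)) = true := by
  decide +kernel

/-- the images of the first two columns do not commute -/
theorem not_comm : fcol 0 * fcol 1 ≠ fcol 1 * fcol 0 := by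
  intro h
  have h2 := congrArg isoCoe h
  rw [map_mul, map_mul] at h2
  have e0 : isoCoe (fcol 0) = dec 7 3 (codes.getD 0 c1) := isoCoe_iso 0 (by decide)
  have e1 : isoCoe (fcol 1) = dec 7 3 (codes.getD 1 c1) := isoCoe_iso 1 (by decide)
  rw [e0, e1, ← hmu _ _ (hcan _ (by decide)), ← hmu _ _ (hcan _ (by decide))] at h2
  exact dec_ne_of_neB 7 3 hneB h2

/-- the presented group is perfect -/
theorem commutator_eq_top : commutator TCP.O73.G = ⊤ := by
  have hs : IsSimpleGroup TCP.O73.G := O73Simple.simple.1
  rcases hs.eq_bot_or_eq_top_of_normal (commutator TCP.O73.G) inferInstance with h | h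
  · exfalso
    apply not_comm
    have hc : ∀ a b : TCP.O73.G, a * b = b * a := by
      intro a b
      have h1 : a * b * a⁻¹ * b⁻¹ ∈ commutator TCP.O73.G := Subgroup.commutator_mem_commutator
        (Subgroup.mem_top a) (Subgroup.mem_top b)
      rw [h, Subgroup.mem_bot] at h1
      calc a * b = (a * b * a⁻¹ * b⁻¹) * (b * a) := by group
        _ = b * a := by rw [h1, one_mul]
    have := congrArg beta0 (hc (PresentedGroup.mk (wrels 8 TCP.O73.base) (FreeGroup.of ⟨0, by decide⟩))
      (PresentedGroup.mk (wrels 8 TCP.O73.base) (FreeGroup.of ⟨1, by decide⟩)))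
    rw [map_mul, map_mul, beta0_of, beta0_of] at this
    exact this
  · exact h

theorem beta0_mem (x : TCP.O73.G) : beta0 x ∈ commutator (Cfsg.isometryGroup (ZMod 3) Q) := by
  have hx : x ∈ commutator TCP.O73.G := by rw [commutator_eq_top]; exact Subgroup.mem_top x
  have h := Subgroup.mem_map_of_mem beta0 hx
  rw [commutator_def, Subgroup.map_commutator] at h
  exact Subgroup.commutator_mono le_top le_top h

/-- the homomorphism to the commutator subgroup -/
noncomputable def beta1 : TCP.O73.G →* Cfsg.Omega (ZMod 3) Q :=
  beta0.codRestrict (commutator (Cfsg.isometryGroup (ZMod 3) Q)) beta0_mem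

/-- the homomorphism to the simple orthogonal group -/
noncomputable def beta : TCP.O73.G →* Cfsg.POmega (ZMod 3) Q :=
  (QuotientGroup.mk' (Subgroup.center (Cfsg.Omega (ZMod 3) Q))).comp beta1

theorem card_POmega : Nat.card (Cfsg.POmega (ZMod 3) Q) = 4585351680 := by
  have h := Cfsg.Agent.S0292.result (F := ZMod 3) (q := 3) (by simp) (by decide) 3 (le_refl 3)
  have e : 3 ^ 3 ^ 2 * ∏ i ∈ Finset.range 3, (3 ^ (2 * (i + 1)) - 1) = 2 * 4585351680 := by
    simp [Finset.prod_range_succ]
  rw [e] at h
  exact Nat.eq_of_mul_eq_mul_left (by norm_num) h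

theorem beta_bijective : Function.Bijective beta := by
  have hinj : Function.Injective beta := by
    refine injective_of_simple beta O73Simple.simple.1
      (x := PresentedGroup.mk (wrels 8 TCP.O73.base) (FreeGroup.of ⟨0, by decide⟩)) ?_
    intro h
    have h1 : beta1 (PresentedGroup.mk (wrels 8 TCP.O73.base) (FreeGroup.of ⟨0, by decide⟩)) ∈
        Subgroup.center (Cfsg.Omega (ZMod 3) Q) := by
      rw [← QuotientGroup.eq_one_iff]
      exact h
    rw [Subgroup.mem_center_iff] at h1
    have h2 := h1 (beta1 (PresentedGroup.mk (wrels 8 TCP.O73.base) (FreeGroup.of ⟨1, by decide⟩)))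
    have h3 := congrArg Subtype.val h2
    apply not_comm
    have e0 := beta0_of ⟨0, by decide⟩
    have e1 := beta0_of ⟨1, by decide⟩
    rw [← e0, ← e1]
    exact h3.symm
  have hfin : Finite TCP.O73.G :=
    Nat.finite_of_card_ne_zero (by rw [O73Simple.simple.2]; norm_num)
  have hfin2 : Finite (Cfsg.POmega (ZMod 3) Q) :=
    Nat.finite_of_card_ne_zero (by rw [card_POmega]; norm_num)
  rw [Nat.bijective_iff_injective_and_card]
  exact ⟨hinj, by rw [O73Simple.simple.2, card_POmega]⟩

/-- the presented group is the orthogonal group -/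
noncomputable def isoP : TCP.O73.G ≃* Cfsg.POmega (ZMod 3) Q := MulEquiv.ofBijective beta beta_bijective

end Cfsg.Agent.Lib.Helper6.O73Mat
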