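import Cfsg.Agent.Lib.Helper6.Spor.Fi22Ord
import Cfsg.Agent.Lib.Helper6.Spor.O73Mat
import Cfsg.Agent.Lib.Helper6.WP10

set_option autoImplicit false
set_option maxRecDepth 100000

namespace Cfsg.Agent.Lib.Helper6.Fi22O73

open Cfsg.Spor Cfsg.Agent.Lib.Helper6.TC Cfsg.Agent.Lib.Helper6.TCD Cfsg.Agent.Lib.Helper6.Simp
open Cfsg.Agent.Lib.Helper6.TCP.Fi22

/-! # The subgroup of the presented group Fi22 generated by `b, …, i` is the orthogonal group
`PΩ(7, 3)` -/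

/-- the words of the columns -/
def cw (i : ℕ) : List ℕ := [i + 1]

theorem flatMap_cw (b : List ℕ) : b.flatMap cw = b.map (· + 1) := by
  induction b with
  | nil => rfl
  | cons c b ih =>
    rw [List.flatMap_cons, ih]
    rfl

theorem hmem : ∀ b ∈ TCP.O73.base, b.map (· + 1) ∈ TCP.Fi22.base := by
  decide +kernel

theorem hrel : ∀ b ∈ TCP.O73.base,
    PresentedGroup.mk Rels (wordElt gc (b.flatMap cw)) = 1 := by
  intro b hb
  rw [flatMap_cw]
  exact TCP.Fi22.hbase _ (hmem b hb)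

/-- the homomorphism from the presented group `O73` to the presented group Fi22 -/
noncomputable def psi : TCP.O73.G →* Fi22 := wpHomW cw TCP.O73.hbl hrel

theorem psi_of (i : Fin 8) : psi (PresentedGroup.of i) =
    PresentedGroup.mk Rels (wordElt gc [i.val + 1]) := wpHomW_of cw _ _ i

theorem hmove : wapp Fi22a.px [1] 0 ≠ 0 ∨ wapp Fi22a.px [1] 1 ≠ 1 ∨ wapp Fi22a.px [1] 2 ≠ 2 ∨
    wapp Fi22a.px [1] 3 ≠ 3 ∨ wapp Fi22a.px [1] 4 ≠ 4 ∨ wapp Fi22a.px [1] 5 ≠ 5 := by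
  decide +kernel

theorem psi_injective : Function.Injective psi := by
  refine injective_of_simple _ O73Simple.simple.1
    (x := PresentedGroup.mk (wrels 8 TCP.O73.base) (FreeGroup.of ⟨0, by decide⟩)) ?_
  have h0 : psi (PresentedGroup.mk (wrels 8 TCP.O73.base) (FreeGroup.of ⟨0, by decide⟩)) =
      PresentedGroup.mk Rels (wordElt gc [1]) := psi_of ⟨0, by decide⟩
  rw [h0]
  obtain ⟨φ, hw, _, _, _, _⟩ := Fi22Ord.rep
  intro h
  have key : ∀ q : Fin 3510, wapp Fi22a.px [1] q.val = q.val := by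
    intro q
    have h1 := hw [1] (by decide) q
    rw [h, map_one, inv_one] at h1
    exact h1.symm
  rcases hmove with h | h | h | h | h | h
  · exact h (key ⟨0, by decide⟩)
  · exact h (key ⟨1, by decide⟩)
  · exact h (key ⟨2, by decide⟩)
  · exact h (key ⟨3, by decide⟩)
  · exact h (key ⟨4, by decide⟩)
  · exact h (key ⟨5, by decide⟩)

theorem psi_range : psi.range = subH Rels Cfsg.Agent.S1685.S := by
  rw [MonoidHom.range_eq_map, ← PresentedGroup.closure_range_of, MonoidHom.map_closure]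
  show _ = (Subgroup.closure Cfsg.Agent.S1685.S).map (PresentedGroup.mk Rels)
  rw [MonoidHom.map_closure]
  congr 1
  ext x
  constructor
  · rintro ⟨_, ⟨i, rfl⟩, rfl⟩
    have h : psi (PresentedGroup.of i) = PresentedGroup.mk Rels (wordElt gc [i.val + 1]) := psi_of i
    rw [h]
    refine ⟨wordElt gc [i.val + 1], (Cfsg.Agent.S1685.hsw' [i.val + 1] ?_).2, rfl⟩
    have hi := i.isLt
    simp only [Cfsg.Agent.S1685.subw, List.mem_cons, List.mem_nil_iff, or_false, List.cons.injEq,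
      and_true]
    omega
  · rintro ⟨s, hs, rfl⟩
    obtain ⟨w, hw, rfl⟩ := Cfsg.Agent.S1685.hsw s hs
    simp only [Cfsg.Agent.S1685.subw, List.mem_cons, List.mem_nil_iff, or_false] at hw
    rcases hw with rfl | rfl | rfl | rfl | rfl | rfl | rfl | rfl
    · exact ⟨PresentedGroup.of ⟨0, by decide⟩, ⟨⟨0, by decide⟩, rfl⟩, psi_of ⟨0, by decide⟩⟩
    · exact ⟨PresentedGroup.of ⟨1, by decide⟩, ⟨⟨1, by decide⟩, rfl⟩, psi_of ⟨1, by decide⟩⟩
    · exact ⟨PresentedGroup.of ⟨2, by decide⟩, ⟨⟨2, by decide⟩, rfl⟩, psi_of ⟨2, by decide⟩⟩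
    · exact ⟨PresentedGroup.of ⟨3, by decide⟩, ⟨⟨3, by decide⟩, rfl⟩, psi_of ⟨3, by decide⟩⟩
    · exact ⟨PresentedGroup.of ⟨4, by decide⟩, ⟨⟨4, by decide⟩, rfl⟩, psi_of ⟨4, by decide⟩⟩
    · exact ⟨PresentedGroup.of ⟨5, by decide⟩, ⟨⟨5, by decide⟩, rfl⟩, psi_of ⟨5, by decide⟩⟩
    · exact ⟨PresentedGroup.of ⟨6, by decide⟩, ⟨⟨6, by decide⟩, rfl⟩, psi_of ⟨6, by decide⟩⟩
    · exact ⟨PresentedGroup.of ⟨7, by decide⟩, ⟨⟨7, by decide⟩, rfl⟩, psi_of ⟨7, by decide⟩⟩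

/-- the subgroup is the orthogonal group -/
theorem iso : Nonempty (subH Rels Cfsg.Agent.S1685.S ≃*
    Cfsg.POmega (ZMod 3) (Cfsg.quadFormOdd 3 (ZMod 3))) :=
  ⟨((MulEquiv.subgroupCongr psi_range).symm.trans
    (MonoidHom.ofInjective psi_injective).symm).trans O73Mat.isoP⟩

end Cfsg.Agent.Lib.Helper6.Fi22O73
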