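import Cfsg.Agent.Lib.Helper6.Spor.HeOrd2
import Cfsg.Agent.Lib.Helper6.Spor.S44Mat
import Cfsg.Agent.Lib.Helper6.Simp7
import Cfsg.Agent.Lib.Helper6.WP10

set_option autoImplicit false
set_option maxRecDepth 100000

namespace Cfsg.Agent.Lib.Helper6.HeS44

open Cfsg.Spor Cfsg.Agent.Lib.Helper6.TC Cfsg.Agent.Lib.Helper6.TCD Cfsg.Agent.Lib.Helper6.Simp

/-! # The symplectic group Sp(4, 4) inside the Held group, with index 2 in the subgroup `H` -/

/-- the word of the column 0 -/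
def w0 : List ℕ := [0]

/-- the word of the column 1 -/
def w1 : List ℕ := [2]

/-- the word of the column 2 -/
def w2 : List ℕ := [3]

/-- the word of the column 3 -/
def w3 : List ℕ := [4]

/-- the word of the column 4 -/
def w4 : List ℕ := [5]

/-- the word of the column 5 -/
def w5 : List ℕ := [1, 2, 3, 6, 3, 2, 1]

/-- the word of the column 6 -/
def w6 : List ℕ := [1, 2, 3, 6, 3, 2, 1, 3, 2, 1, 2, 3, 6, 3, 2, 1, 3, 2, 4, 1, 2, 3, 6, 3, 2, 1, 3, 1, 2, 3, 6, 3, 2, 1]

/-- the word of the column 7 -/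
def w7 : List ℕ := [1, 2, 3, 6, 3, 2, 1, 3, 1, 2, 3, 6, 3, 2, 1, 4, 2, 3, 1, 2, 3, 6, 3, 2, 1, 2, 3, 1, 2, 3, 6, 3, 2, 1]

/-- the words of the columns -/
def cw (i : ℕ) : List ℕ := [w0, w1, w2, w3, w4, w5, w6, w7].getD i []

theorem hcl : ∀ b ∈ TCP.S44.base, ∀ c ∈ b.flatMap cw, c < 7 := by
  decide +kernel

theorem hchk : ∀ b ∈ TCP.S44.base, wappS Hea.px (b.flatMap cw) 34 = 34 ∧
    wappS Hea.px (b.flatMap cw) 15 = 15 ∧ wappS Hea.px (b.flatMap cw) 1 = 1 ∧
    wappS Hea.px (b.flatMap cw) 0 = 0 := by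
  decide +kernel

theorem hmove : wapp Hea.px w0 18 ≠ 18 := by
  decide +kernel

theorem hrel : ∀ b ∈ TCP.S44.base,
    PresentedGroup.mk TCP.He.Rels (wordElt TCP.He.gc (b.flatMap cw)) = 1 := by
  intro b hb
  obtain ⟨h1, h2, h3, h4⟩ := hchk b hb
  exact HeOrd.base_trivial _ (hcl b hb) h1 h2 h3 h4

/-- the homomorphism from the presented group `S44` to the presented group He -/
noncomputable def psi : TCP.S44.G →* He := wpHomW cw TCP.S44.hbl hrel

theorem psi_injective : Function.Injective psi := by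
  refine injective_of_simple _ S44Simple.simple.1
    (x := PresentedGroup.mk (wrels 8 TCP.S44.base) (FreeGroup.of ⟨0, by decide⟩)) ?_
  unfold psi
  rw [wpHomW_of]
  exact HeOrd.ne_one_of_move w0 (by decide) (by decide) hmove

theorem hcw : ∀ i < 8, (∀ c ∈ cw i, c < 7) ∧ wapp Hea.px (cw i) 0 = 0 := by
  decide +kernel

/-- the image lies in the subgroup `H` -/
theorem psi_range_le : psi.range ≤ subH TCP.He.Rels Cfsg.Agent.S1683.S := by
  rw [MonoidHom.range_eq_map, ← PresentedGroup.closure_range_of, MonoidHom.map_closure,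
    Subgroup.closure_le]
  rintro _ ⟨_, ⟨i, rfl⟩, rfl⟩
  have : psi (PresentedGroup.of i) =
      PresentedGroup.mk TCP.He.Rels (wordElt TCP.He.gc (cw i.val)) := wpHomW_of cw _ _ i
  rw [this]
  obtain ⟨h1, h2⟩ := hcw i.val i.isLt
  exact HeOrd.mem_subH_of_fix0 _ h1 h2

/-- the subgroup of index 2 of `H`, isomorphic to the symplectic group -/
theorem exists_N : ∃ N : Subgroup (subH TCP.He.Rels Cfsg.Agent.S1683.S), N.Normal ∧ N.index = 2 ∧
    Nonempty (N ≃* S44Mat.Sp44) := by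
  let N : Subgroup (subH TCP.He.Rels Cfsg.Agent.S1683.S) :=
    psi.range.subgroupOf (subH TCP.He.Rels Cfsg.Agent.S1683.S)
  have e1 : N ≃* psi.range := Subgroup.subgroupOfEquivOfLe psi_range_le
  have e2 : TCP.S44.G ≃* psi.range := MonoidHom.ofInjective psi_injective
  have e : N ≃* S44Mat.Sp44 := e1.trans (e2.symm.trans S44Mat.iso)
  have hcN : Nat.card N = 979200 := by
    rw [Nat.card_congr e.toEquiv, S44Mat.card_Sp44]
  have hcH : Nat.card (subH TCP.He.Rels Cfsg.Agent.S1683.S) = 1958400 := by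
    have hcard : Nat.card He = 4030387200 := by
      obtain ⟨_, _, _, _, hcard, _⟩ := HeOrd.rep
      exact hcard
    have h1 := Subgroup.card_mul_index (subH TCP.He.Rels Cfsg.Agent.S1683.S)
    have h2 : (subH TCP.He.Rels Cfsg.Agent.S1683.S).index = 2058 := Cfsg.Agent.S1683.result.1
    rw [h2, hcard] at h1
    exact Nat.eq_of_mul_eq_mul_right (by norm_num : 0 < 2058) (h1.trans (by norm_num))
  have hidx : N.index = 2 := by
    have h1 := Subgroup.card_mul_index N
    rw [hcN, hcH] at h1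
    exact Nat.eq_of_mul_eq_mul_left (by norm_num : 0 < 979200) (h1.trans (by norm_num))
  exact ⟨N, Subgroup.normal_of_index_eq_two hidx, hidx, ⟨e⟩⟩

end Cfsg.Agent.Lib.Helper6.HeS44
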