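import Cfsg.Agent.Lib.Helper6.Spor.L37UB
import Cfsg.Agent.Lib.Helper6.Spor.L37Idx
import Cfsg.Agent.Lib.Helper6.TCD.L37aL.LB

set_option autoImplicit false
set_option maxRecDepth 100000

namespace Cfsg.Agent.Lib.Helper6.L37Ord

open Cfsg.Agent.Lib.Helper6.TC Cfsg.Agent.Lib.Helper6.TCD
open Cfsg.Agent.Lib.Helper6.TCP.L37

/-! # The order of the presented group `L37`, and its faithful action on 57 points -/

theorem rep : ∃ φ : G →* Equiv.Perm (Fin 57),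
    (∀ w, (∀ c ∈ w, c < 5) → ∀ p : Fin 57,
      ((φ (PresentedGroup.mk Rels (wordElt gc w)))⁻¹ p).val = wapp L37a.px w p.val) ∧
    (∃ F : (G ⧸ subH Rels L37Idx.S) ≃ Fin 57, ∀ g q, F (g • q) = φ g (F q)) ∧
    (∀ p : Fin 57, ∃ g, φ g ⟨0, by decide⟩ = p) ∧
    Function.Injective φ ∧ Nat.card G = 1876896 ∧ Finite G := by
  obtain ⟨φ, hw, hfixH, htrans⟩ := perm_rep (rels := Rels) (S := L37Idx.S)
    L37Idx.hP hC (rel_cover L37Idx.hP L37Idx.hfix) L37Idx.hsubP L37Idx.htree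
  obtain ⟨_, F, hF⟩ := index_eq L37Idx.hP.Npos hfixH htrans L37Idx.idx_le.1 L37Idx.idx_le.2
  have hfin : Finite G := L37UB.card_le.1
  have hlb := L37aL.chain_lb (φ := φ) hw
  obtain ⟨hinj, hcard⟩ := faithful_of_card hlb L37UB.card_le.2 (by norm_num)
  exact ⟨φ, hw, ⟨F, hF⟩, htrans, hinj, hcard, hfin⟩

end Cfsg.Agent.Lib.Helper6.L37Ord
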