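import Cfsg.Agent.Lib.Helper6.Spor.SuzOrd
import Cfsg.Agent.Lib.Helper6.Spor.G24Mat
import Cfsg.Agent.Lib.Helper6.WP10

set_option autoImplicit false
set_option maxRecDepth 100000

namespace Cfsg.Agent.Lib.Helper6.SuzG24

open Cfsg.Spor Cfsg.Agent.Lib.Helper6.TC Cfsg.Agent.Lib.Helper6.TCD Cfsg.Agent.Lib.Helper6.Simp
open Cfsg.Agent.Lib.Helper6.TCP.Suz Cfsg.Agent.Lib.Helper1.Hexa

/-! # The subgroup of the presented group Suz generated by its first six generators is the
Chevalley group of type `G₂` over the field with four elements -/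

/-- the words of the columns -/
def cw (i : ℕ) : List ℕ := [i]

theorem flatMap_cw (b : List ℕ) : b.flatMap cw = b := by
  induction b with
  | nil => rfl
  | cons c b ih =>
    rw [List.flatMap_cons, ih]
    rfl

theorem hmem : ∀ b ∈ TCP.G24.base, b ∈ TCP.Suz.base := by
  decide +kernel

theorem hrel : ∀ b ∈ TCP.G24.base,
    PresentedGroup.mk Rels (wordElt gc (b.flatMap cw)) = 1 := by
  intro b hb
  rw [flatMap_cw]
  exact TCP.Suz.hbase b (hmem b hb)

/-- the homomorphism from the presented group `G24` to the presented group Suz -/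
noncomputable def psi : TCP.G24.G →* Suz := wpHomW cw TCP.G24.hbl hrel

theorem psi_of (i : Fin 6) : psi (PresentedGroup.of i) =
    PresentedGroup.mk Rels (wordElt gc [i.val]) := wpHomW_of cw _ _ i

theorem hmove : wapp Suza.px [0] 2 ≠ 2 := by
  decide +kernel

theorem psi_injective : Function.Injective psi := by
  refine injective_of_simple _ G24Simple.simple.1
    (x := PresentedGroup.mk (wrels 6 TCP.G24.base) (FreeGroup.of ⟨0, by decide⟩)) ?_
  have h0 : psi (PresentedGroup.mk (wrels 6 TCP.G24.base) (FreeGroup.of ⟨0, by decide⟩)) =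
      PresentedGroup.mk Rels (wordElt gc [0]) := psi_of ⟨0, by decide⟩
  rw [h0]
  obtain ⟨φ, hw, _, _, _, _⟩ := SuzOrd.suz_rep
  intro h
  have h1 := hw [0] (by decide) ⟨2, by decide⟩
  rw [h, map_one, inv_one] at h1
  exact hmove h1.symm

theorem psi_range : psi.range = subH Rels Cfsg.Agent.S1680.S := by
  rw [MonoidHom.range_eq_map, ← PresentedGroup.closure_range_of, MonoidHom.map_closure]
  show _ = (Subgroup.closure Cfsg.Agent.S1680.S).map (PresentedGroup.mk Rels)
  rw [MonoidHom.map_closure]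
  congr 1
  ext x
  constructor
  · rintro ⟨_, ⟨i, rfl⟩, rfl⟩
    have h : psi (PresentedGroup.of i) = PresentedGroup.mk Rels (wordElt gc [i.val]) := psi_of i
    rw [h]
    refine ⟨wordElt gc [i.val], (Cfsg.Agent.S1680.hsw' [i.val] ?_).2, rfl⟩
    have hi := i.isLt
    simp only [Cfsg.Agent.S1680.subw, List.mem_cons, List.mem_nil_iff, or_false, List.cons.injEq,
      and_true]
    omega
  · rintro ⟨s, hs, rfl⟩
    obtain ⟨w, hw, rfl⟩ := Cfsg.Agent.S1680.hsw s hs
    simp only [Cfsg.Agent.S1680.subw, List.mem_cons, List.mem_nil_iff, or_false] at hw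
    rcases hw with rfl | rfl | rfl | rfl | rfl | rfl
    · exact ⟨PresentedGroup.of ⟨0, by decide⟩, ⟨⟨0, by decide⟩, rfl⟩, psi_of ⟨0, by decide⟩⟩
    · exact ⟨PresentedGroup.of ⟨1, by decide⟩, ⟨⟨1, by decide⟩, rfl⟩, psi_of ⟨1, by decide⟩⟩
    · exact ⟨PresentedGroup.of ⟨2, by decide⟩, ⟨⟨2, by decide⟩, rfl⟩, psi_of ⟨2, by decide⟩⟩
    · exact ⟨PresentedGroup.of ⟨3, by decide⟩, ⟨⟨3, by decide⟩, rfl⟩, psi_of ⟨3, by decide⟩⟩
    · exact ⟨PresentedGroup.of ⟨4, by decide⟩, ⟨⟨4, by decide⟩, rfl⟩, psi_of ⟨4, by decide⟩⟩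
    · exact ⟨PresentedGroup.of ⟨5, by decide⟩, ⟨⟨5, by decide⟩, rfl⟩, psi_of ⟨5, by decide⟩⟩

/-- the subgroup is the Chevalley group -/
theorem iso : Nonempty (subH Rels Cfsg.Agent.S1680.S ≃* Cfsg.Lie.chevG2.group F4) :=
  ⟨((MulEquiv.subgroupCongr psi_range).symm.trans
    (MonoidHom.ofInjective psi_injective).symm).trans G24Mat.iso⟩

end Cfsg.Agent.Lib.Helper6.SuzG24
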