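import Mathlib
import Cfsg.Agent.Lib.Helper6.TCP.Fi223
import Cfsg.Agent.Lib.Helper6.TC11
import Cfsg.Agent.Lib.Helper6.TCD.Fi223a.All

set_option autoImplicit false

namespace Cfsg.Agent.Lib.Helper6.Fi223Rep
open Cfsg.Agent.Lib.Helper6.TC Cfsg.Agent.Lib.Helper6.TCP.Fi223 Cfsg.Agent.Lib.Helper6.TCD.Fi223a

/-! # The relators of the central extension hold on a set of 185328 points -/

set_option maxRecDepth 100000
set_option linter.unusedSimpArgs false

theorem hP : PHyp px N 11 Cfsg.Agent.Lib.Helper6.TCP.Fi223.INV where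
  Npos := by decide
  hinv1 := hinv1
  hinvinv := hinvinv
  hlt := by
    intro c hc p hp
    interval_cases c
    · exact (chkCol_spec chkP0 p hp).1
    · exact (chkCol_spec chkP1 p hp).1
    · exact (chkCol_spec chkP2 p hp).1
    · exact (chkCol_spec chkP3 p hp).1
    · exact (chkCol_spec chkP4 p hp).1
    · exact (chkCol_spec chkP5 p hp).1
    · exact (chkCol_spec chkP6 p hp).1
    · exact (chkCol_spec chkP7 p hp).1
    · exact (chkCol_spec chkP8 p hp).1
    · exact (chkCol_spec chkP9 p hp).1
    · exact (chkCol_spec chkP10 p hp).1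
  hpx := by
    intro c hc p hp
    interval_cases c
    · exact (chkCol_spec chkP0 p hp).2
    · exact (chkCol_spec chkP1 p hp).2
    · exact (chkCol_spec chkP2 p hp).2
    · exact (chkCol_spec chkP3 p hp).2
    · exact (chkCol_spec chkP4 p hp).2
    · exact (chkCol_spec chkP5 p hp).2
    · exact (chkCol_spec chkP6 p hp).2
    · exact (chkCol_spec chkP7 p hp).2
    · exact (chkCol_spec chkP8 p hp).2
    · exact (chkCol_spec chkP9 p hp).2
    · exact (chkCol_spec chkP10 p hp).2

theorem px_c0 (p : ℕ) : px 0 p = P0 p := rfl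
theorem px_c1 (p : ℕ) : px 1 p = P1 p := rfl
theorem px_c2 (p : ℕ) : px 2 p = P2 p := rfl
theorem px_c3 (p : ℕ) : px 3 p = P3 p := rfl
theorem px_c4 (p : ℕ) : px 4 p = P4 p := rfl
theorem px_c5 (p : ℕ) : px 5 p = P5 p := rfl
theorem px_c6 (p : ℕ) : px 6 p = P6 p := rfl
theorem px_c7 (p : ℕ) : px 7 p = P7 p := rfl
theorem px_c8 (p : ℕ) : px 8 p = P8 p := rfl
theorem px_c9 (p : ℕ) : px 9 p = P9 p := rfl
theorem px_c10 (p : ℕ) : px 10 p = P10 p := rfl

theorem hfixk_0 : ∀ p < N, P0 (P0 p) = p := fun p hp => (chkCol_spec chkP0 p hp).2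

theorem hfixw_0 (p : ℕ) : wapp px (base.getD 0 []) p = P0 (P0 p) := by
  show wapp px [0, 0] p = _
  simp only [wapp_cons, wapp_nil, px_c0, px_c1, px_c2, px_c3, px_c4, px_c5, px_c6, px_c7, px_c8, px_c9, px_c10]

theorem hfixk_1 : ∀ p < N, P1 (P1 p) = p := fun p hp => (chkCol_spec chkP1 p hp).2

theorem hfixw_1 (p : ℕ) : wapp px (base.getD 1 []) p = P1 (P1 p) := by
  show wapp px [1, 1] p = _
  simp only [wapp_cons, wapp_nil, px_c0, px_c1, px_c2, px_c3, px_c4, px_c5, px_c6, px_c7, px_c8, px_c9, px_c10]

theorem hfixk_2 : ∀ p < N, P2 (P2 p) = p := fun p hp => (chkCol_spec chkP2 p hp).2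

theorem hfixw_2 (p : ℕ) : wapp px (base.getD 2 []) p = P2 (P2 p) := by
  show wapp px [2, 2] p = _
  simp only [wapp_cons, wapp_nil, px_c0, px_c1, px_c2, px_c3, px_c4, px_c5, px_c6, px_c7, px_c8, px_c9, px_c10]

theorem hfixk_3 : ∀ p < N, P3 (P3 p) = p := fun p hp => (chkCol_spec chkP3 p hp).2

theorem hfixw_3 (p : ℕ) : wapp px (base.getD 3 []) p = P3 (P3 p) := by
  show wapp px [3, 3] p = _
  simp only [wapp_cons, wapp_nil, px_c0, px_c1, px_c2, px_c3, px_c4, px_c5, px_c6, px_c7, px_c8, px_c9, px_c10]

theorem hfixk_4 : ∀ p < N, P4 (P4 p) = p := fun p hp => (chkCol_spec chkP4 p hp).2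

theorem hfixw_4 (p : ℕ) : wapp px (base.getD 4 []) p = P4 (P4 p) := by
  show wapp px [4, 4] p = _
  simp only [wapp_cons, wapp_nil, px_c0, px_c1, px_c2, px_c3, px_c4, px_c5, px_c6, px_c7, px_c8, px_c9, px_c10]

theorem hfixk_5 : ∀ p < N, P5 (P5 p) = p := fun p hp => (chkCol_spec chkP5 p hp).2

theorem hfixw_5 (p : ℕ) : wapp px (base.getD 5 []) p = P5 (P5 p) := by
  show wapp px [5, 5] p = _
  simp only [wapp_cons, wapp_nil, px_c0, px_c1, px_c2, px_c3, px_c4, px_c5, px_c6, px_c7, px_c8, px_c9, px_c10]

theorem hfixk_6 : ∀ p < N, P6 (P6 p) = p := fun p hp => (chkCol_spec chkP6 p hp).2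

theorem hfixw_6 (p : ℕ) : wapp px (base.getD 6 []) p = P6 (P6 p) := by
  show wapp px [6, 6] p = _
  simp only [wapp_cons, wapp_nil, px_c0, px_c1, px_c2, px_c3, px_c4, px_c5, px_c6, px_c7, px_c8, px_c9, px_c10]

theorem hfixk_7 : ∀ p < N, P7 (P7 p) = p := fun p hp => (chkCol_spec chkP7 p hp).2

theorem hfixw_7 (p : ℕ) : wapp px (base.getD 7 []) p = P7 (P7 p) := by
  show wapp px [7, 7] p = _
  simp only [wapp_cons, wapp_nil, px_c0, px_c1, px_c2, px_c3, px_c4, px_c5, px_c6, px_c7, px_c8, px_c9, px_c10]

theorem hfixk_8 : ∀ p < N, P8 (P8 p) = p := fun p hp => (chkCol_spec chkP8 p hp).2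

theorem hfixw_8 (p : ℕ) : wapp px (base.getD 8 []) p = P8 (P8 p) := by
  show wapp px [8, 8] p = _
  simp only [wapp_cons, wapp_nil, px_c0, px_c1, px_c2, px_c3, px_c4, px_c5, px_c6, px_c7, px_c8, px_c9, px_c10]

theorem hfixk_9 : ∀ p < N, P10 (P9 p) = p := fun p hp => (chkCol_spec chkP9 p hp).2

theorem hfixw_9 (p : ℕ) : wapp px (base.getD 9 []) p = P10 (P9 p) := by
  show wapp px [9, 10] p = _
  simp only [wapp_cons, wapp_nil, px_c0, px_c1, px_c2, px_c3, px_c4, px_c5, px_c6, px_c7, px_c8, px_c9, px_c10]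

theorem hfixk_10 : ∀ p < N, R10 p = p := by
  intro p hp
  have hp' : p < 185328 := hp
  by_cases g0 : p < 83333
  · exact chkFix_spec chkR10_0 p (by omega) (by omega)
  by_cases g1 : p < 166666
  · exact chkFix_spec chkR10_1 p (by omega) (by omega)
  exact chkFix_spec chkR10_2 p (by omega) (by omega)

theorem hfixw_10 (p : ℕ) : wapp px (base.getD 10 []) p = R10 p := by
  show wapp px [9, 9, 9] p = _
  simp only [wapp_cons, wapp_nil, px_c0, px_c1, px_c2, px_c3, px_c4, px_c5, px_c6, px_c7, px_c8, px_c9, px_c10]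
  rfl

theorem hfixk_11 : ∀ p < N, R11 p = p := by
  intro p hp
  have hp' : p < 185328 := hp
  by_cases g0 : p < 48503
  · exact chkFix_spec chkR11_0 p (by omega) (by omega)
  by_cases g1 : p < 111003
  · exact chkFix_spec chkR11_1 p (by omega) (by omega)
  by_cases g2 : p < 173503
  · exact chkFix_spec chkR11_2 p (by omega) (by omega)
  exact chkFix_spec chkR11_3 p (by omega) (by omega)

theorem hfixw_11 (p : ℕ) : wapp px (base.getD 11 []) p = R11 p := by
  show wapp px [0, 9, 0, 10] p = _
  simp only [wapp_cons, wapp_nil, px_c0, px_c1, px_c2, px_c3, px_c4, px_c5, px_c6, px_c7, px_c8, px_c9, px_c10]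
  rfl

theorem hfixk_12 : ∀ p < N, R12 p = p := by
  intro p hp
  have hp' : p < 185328 := hp
  by_cases g0 : p < 50675
  · exact chkFix_spec chkR12_0 p (by omega) (by omega)
  by_cases g1 : p < 113175
  · exact chkFix_spec chkR12_1 p (by omega) (by omega)
  by_cases g2 : p < 175675
  · exact chkFix_spec chkR12_2 p (by omega) (by omega)
  exact chkFix_spec chkR12_3 p (by omega) (by omega)

theorem hfixw_12 (p : ℕ) : wapp px (base.getD 12 []) p = R12 p := by
  show wapp px [1, 9, 1, 10] p = _
  simp only [wapp_cons, wapp_nil, px_c0, px_c1, px_c2, px_c3, px_c4, px_c5, px_c6, px_c7, px_c8, px_c9, px_c10]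
  rfl

theorem hfixk_13 : ∀ p < N, R13 p = p := by
  intro p hp
  have hp' : p < 185328 := hp
  by_cases g0 : p < 52847
  · exact chkFix_spec chkR13_0 p (by omega) (by omega)
  by_cases g1 : p < 115347
  · exact chkFix_spec chkR13_1 p (by omega) (by omega)
  by_cases g2 : p < 177847
  · exact chkFix_spec chkR13_2 p (by omega) (by omega)
  exact chkFix_spec chkR13_3 p (by omega) (by omega)

theorem hfixw_13 (p : ℕ) : wapp px (base.getD 13 []) p = R13 p := by
  show wapp px [2, 9, 2, 10] p = _
  simp only [wapp_cons, wapp_nil, px_c0, px_c1, px_c2, px_c3, px_c4, px_c5, px_c6, px_c7, px_c8, px_c9, px_c10]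
  rfl

theorem hfixk_14 : ∀ p < N, R14 p = p := by
  intro p hp
  have hp' : p < 185328 := hp
  by_cases g0 : p < 55019
  · exact chkFix_spec chkR14_0 p (by omega) (by omega)
  by_cases g1 : p < 117519
  · exact chkFix_spec chkR14_1 p (by omega) (by omega)
  by_cases g2 : p < 180019
  · exact chkFix_spec chkR14_2 p (by omega) (by omega)
  exact chkFix_spec chkR14_3 p (by omega) (by omega)

theorem hfixw_14 (p : ℕ) : wapp px (base.getD 14 []) p = R14 p := by
  show wapp px [3, 9, 3, 10] p = _
  simp only [wapp_cons, wapp_nil, px_c0, px_c1, px_c2, px_c3, px_c4, px_c5, px_c6, px_c7, px_c8, px_c9, px_c10]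
  rfl

theorem hfixk_15 : ∀ p < N, R15 p = p := by
  intro p hp
  have hp' : p < 185328 := hp
  by_cases g0 : p < 57191
  · exact chkFix_spec chkR15_0 p (by omega) (by omega)
  by_cases g1 : p < 119691
  · exact chkFix_spec chkR15_1 p (by omega) (by omega)
  by_cases g2 : p < 182191
  · exact chkFix_spec chkR15_2 p (by omega) (by omega)
  exact chkFix_spec chkR15_3 p (by omega) (by omega)

theorem hfixw_15 (p : ℕ) : wapp px (base.getD 15 []) p = R15 p := by
  show wapp px [4, 9, 4, 10] p = _
  simp only [wapp_cons, wapp_nil, px_c0, px_c1, px_c2, px_c3, px_c4, px_c5, px_c6, px_c7, px_c8, px_c9, px_c10]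
  rfl

theorem hfixk_16 : ∀ p < N, R16 p = p := by
  intro p hp
  have hp' : p < 185328 := hp
  by_cases g0 : p < 59363
  · exact chkFix_spec chkR16_0 p (by omega) (by omega)
  by_cases g1 : p < 121863
  · exact chkFix_spec chkR16_1 p (by omega) (by omega)
  by_cases g2 : p < 184363
  · exact chkFix_spec chkR16_2 p (by omega) (by omega)
  exact chkFix_spec chkR16_3 p (by omega) (by omega)

theorem hfixw_16 (p : ℕ) : wapp px (base.getD 16 []) p = R16 p := by
  show wapp px [5, 9, 5, 10] p = _
  simp only [wapp_cons, wapp_nil, px_c0, px_c1, px_c2, px_c3, px_c4, px_c5, px_c6, px_c7, px_c8, px_c9, px_c10]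
  rfl

theorem hfixk_17 : ∀ p < N, R17 p = p := by
  intro p hp
  have hp' : p < 185328 := hp
  by_cases g0 : p < 61535
  · exact chkFix_spec chkR17_0 p (by omega) (by omega)
  by_cases g1 : p < 124035
  · exact chkFix_spec chkR17_1 p (by omega) (by omega)
  exact chkFix_spec chkR17_2 p (by omega) (by omega)

theorem hfixw_17 (p : ℕ) : wapp px (base.getD 17 []) p = R17 p := by
  show wapp px [6, 9, 6, 10] p = _
  simp only [wapp_cons, wapp_nil, px_c0, px_c1, px_c2, px_c3, px_c4, px_c5, px_c6, px_c7, px_c8, px_c9, px_c10]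
  rfl

theorem hfixk_18 : ∀ p < N, R18 p = p := by
  intro p hp
  have hp' : p < 185328 := hp
  by_cases g0 : p < 1207
  · exact chkFix_spec chkR18_0 p (by omega) (by omega)
  by_cases g1 : p < 63707
  · exact chkFix_spec chkR18_1 p (by omega) (by omega)
  by_cases g2 : p < 126207
  · exact chkFix_spec chkR18_2 p (by omega) (by omega)
  exact chkFix_spec chkR18_3 p (by omega) (by omega)

theorem hfixw_18 (p : ℕ) : wapp px (base.getD 18 []) p = R18 p := by
  show wapp px [7, 9, 7, 10] p = _
  simp only [wapp_cons, wapp_nil, px_c0, px_c1, px_c2, px_c3, px_c4, px_c5, px_c6, px_c7, px_c8, px_c9, px_c10]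
  rfl

theorem hfixk_19 : ∀ p < N, R19 p = p := by
  intro p hp
  have hp' : p < 185328 := hp
  by_cases g0 : p < 3379
  · exact chkFix_spec chkR19_0 p (by omega) (by omega)
  by_cases g1 : p < 65879
  · exact chkFix_spec chkR19_1 p (by omega) (by omega)
  by_cases g2 : p < 128379
  · exact chkFix_spec chkR19_2 p (by omega) (by omega)
  exact chkFix_spec chkR19_3 p (by omega) (by omega)

theorem hfixw_19 (p : ℕ) : wapp px (base.getD 19 []) p = R19 p := by
  show wapp px [8, 9, 8, 10] p = _
  simp only [wapp_cons, wapp_nil, px_c0, px_c1, px_c2, px_c3, px_c4, px_c5, px_c6, px_c7, px_c8, px_c9, px_c10]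
  rfl

theorem hfixk_20 : ∀ p < N, R20 p = p := by
  intro p hp
  have hp' : p < 185328 := hp
  by_cases g0 : p < 3700
  · exact chkFix_spec chkR20_0 p (by omega) (by omega)
  by_cases g1 : p < 45366
  · exact chkFix_spec chkR20_1 p (by omega) (by omega)
  by_cases g2 : p < 87032
  · exact chkFix_spec chkR20_2 p (by omega) (by omega)
  by_cases g3 : p < 128698
  · exact chkFix_spec chkR20_3 p (by omega) (by omega)
  by_cases g4 : p < 170364
  · exact chkFix_spec chkR20_4 p (by omega) (by omega)
  exact chkFix_spec chkR20_5 p (by omega) (by omega)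

theorem hfixw_20 (p : ℕ) : wapp px (base.getD 20 []) p = R20 p := by
  show wapp px [0, 1, 0, 1, 0, 1] p = _
  simp only [wapp_cons, wapp_nil, px_c0, px_c1, px_c2, px_c3, px_c4, px_c5, px_c6, px_c7, px_c8, px_c9, px_c10]
  rfl

theorem hfixk_21 : ∀ p < N, R21 p = p := by
  intro p hp
  have hp' : p < 185328 := hp
  by_cases g0 : p < 40054
  · exact chkFix_spec chkR21_0 p (by omega) (by omega)
  by_cases g1 : p < 102554
  · exact chkFix_spec chkR21_1 p (by omega) (by omega)
  by_cases g2 : p < 165054
  · exact chkFix_spec chkR21_2 p (by omega) (by omega)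
  exact chkFix_spec chkR21_3 p (by omega) (by omega)

theorem hfixw_21 (p : ℕ) : wapp px (base.getD 21 []) p = R21 p := by
  show wapp px [0, 2, 0, 2] p = _
  simp only [wapp_cons, wapp_nil, px_c0, px_c1, px_c2, px_c3, px_c4, px_c5, px_c6, px_c7, px_c8, px_c9, px_c10]
  rfl

theorem hfixk_22 : ∀ p < N, R22 p = p := by
  intro p hp
  have hp' : p < 185328 := hp
  by_cases g0 : p < 42226
  · exact chkFix_spec chkR22_0 p (by omega) (by omega)
  by_cases g1 : p < 104726
  · exact chkFix_spec chkR22_1 p (by omega) (by omega)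
  by_cases g2 : p < 167226
  · exact chkFix_spec chkR22_2 p (by omega) (by omega)
  exact chkFix_spec chkR22_3 p (by omega) (by omega)

theorem hfixw_22 (p : ℕ) : wapp px (base.getD 22 []) p = R22 p := by
  show wapp px [0, 3, 0, 3] p = _
  simp only [wapp_cons, wapp_nil, px_c0, px_c1, px_c2, px_c3, px_c4, px_c5, px_c6, px_c7, px_c8, px_c9, px_c10]
  rfl

theorem hfixk_23 : ∀ p < N, R23 p = p := by
  intro p hp
  have hp' : p < 185328 := hp
  by_cases g0 : p < 44398
  · exact chkFix_spec chkR23_0 p (by omega) (by omega)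
  by_cases g1 : p < 106898
  · exact chkFix_spec chkR23_1 p (by omega) (by omega)
  by_cases g2 : p < 169398
  · exact chkFix_spec chkR23_2 p (by omega) (by omega)
  exact chkFix_spec chkR23_3 p (by omega) (by omega)

theorem hfixw_23 (p : ℕ) : wapp px (base.getD 23 []) p = R23 p := by
  show wapp px [0, 4, 0, 4] p = _
  simp only [wapp_cons, wapp_nil, px_c0, px_c1, px_c2, px_c3, px_c4, px_c5, px_c6, px_c7, px_c8, px_c9, px_c10]
  rfl

theorem hfixk_24 : ∀ p < N, R24 p = p := by
  intro p hp
  have hp' : p < 185328 := hp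
  by_cases g0 : p < 46570
  · exact chkFix_spec chkR24_0 p (by omega) (by omega)
  by_cases g1 : p < 109070
  · exact chkFix_spec chkR24_1 p (by omega) (by omega)
  by_cases g2 : p < 171570
  · exact chkFix_spec chkR24_2 p (by omega) (by omega)
  exact chkFix_spec chkR24_3 p (by omega) (by omega)

theorem hfixw_24 (p : ℕ) : wapp px (base.getD 24 []) p = R24 p := by
  show wapp px [0, 5, 0, 5] p = _
  simp only [wapp_cons, wapp_nil, px_c0, px_c1, px_c2, px_c3, px_c4, px_c5, px_c6, px_c7, px_c8, px_c9, px_c10]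
  rfl

theorem hfixk_25 : ∀ p < N, R25 p = p := by
  intro p hp
  have hp' : p < 185328 := hp
  by_cases g0 : p < 48742
  · exact chkFix_spec chkR25_0 p (by omega) (by omega)
  by_cases g1 : p < 111242
  · exact chkFix_spec chkR25_1 p (by omega) (by omega)
  by_cases g2 : p < 173742
  · exact chkFix_spec chkR25_2 p (by omega) (by omega)
  exact chkFix_spec chkR25_3 p (by omega) (by omega)

theorem hfixw_25 (p : ℕ) : wapp px (base.getD 25 []) p = R25 p := by
  show wapp px [0, 6, 0, 6] p = _
  simp only [wapp_cons, wapp_nil, px_c0, px_c1, px_c2, px_c3, px_c4, px_c5, px_c6, px_c7, px_c8, px_c9, px_c10]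
  rfl

theorem hfixk_26 : ∀ p < N, R26 p = p := by
  intro p hp
  have hp' : p < 185328 := hp
  by_cases g0 : p < 50914
  · exact chkFix_spec chkR26_0 p (by omega) (by omega)
  by_cases g1 : p < 113414
  · exact chkFix_spec chkR26_1 p (by omega) (by omega)
  by_cases g2 : p < 175914
  · exact chkFix_spec chkR26_2 p (by omega) (by omega)
  exact chkFix_spec chkR26_3 p (by omega) (by omega)

theorem hfixw_26 (p : ℕ) : wapp px (base.getD 26 []) p = R26 p := by
  show wapp px [0, 7, 0, 7] p = _
  simp only [wapp_cons, wapp_nil, px_c0, px_c1, px_c2, px_c3, px_c4, px_c5, px_c6, px_c7, px_c8, px_c9, px_c10]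
  rfl

theorem hfixk_27 : ∀ p < N, R27 p = p := by
  intro p hp
  have hp' : p < 185328 := hp
  by_cases g0 : p < 53086
  · exact chkFix_spec chkR27_0 p (by omega) (by omega)
  by_cases g1 : p < 115586
  · exact chkFix_spec chkR27_1 p (by omega) (by omega)
  by_cases g2 : p < 178086
  · exact chkFix_spec chkR27_2 p (by omega) (by omega)
  exact chkFix_spec chkR27_3 p (by omega) (by omega)

theorem hfixw_27 (p : ℕ) : wapp px (base.getD 27 []) p = R27 p := by
  show wapp px [0, 8, 0, 8] p = _
  simp only [wapp_cons, wapp_nil, px_c0, px_c1, px_c2, px_c3, px_c4, px_c5, px_c6, px_c7, px_c8, px_c9, px_c10]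
  rfl

theorem hfixk_28 : ∀ p < N, R28 p = p := by
  intro p hp
  have hp' : p < 185328 := hp
  by_cases g0 : p < 36838
  · exact chkFix_spec chkR28_0 p (by omega) (by omega)
  by_cases g1 : p < 78504
  · exact chkFix_spec chkR28_1 p (by omega) (by omega)
  by_cases g2 : p < 120170
  · exact chkFix_spec chkR28_2 p (by omega) (by omega)
  by_cases g3 : p < 161836
  · exact chkFix_spec chkR28_3 p (by omega) (by omega)
  exact chkFix_spec chkR28_4 p (by omega) (by omega)

theorem hfixw_28 (p : ℕ) : wapp px (base.getD 28 []) p = R28 p := by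
  show wapp px [1, 2, 1, 2, 1, 2] p = _
  simp only [wapp_cons, wapp_nil, px_c0, px_c1, px_c2, px_c3, px_c4, px_c5, px_c6, px_c7, px_c8, px_c9, px_c10]
  rfl

theorem hfixk_29 : ∀ p < N, R29 p = p := by
  intro p hp
  have hp' : p < 185328 := hp
  by_cases g0 : p < 27262
  · exact chkFix_spec chkR29_0 p (by omega) (by omega)
  by_cases g1 : p < 89762
  · exact chkFix_spec chkR29_1 p (by omega) (by omega)
  by_cases g2 : p < 152262
  · exact chkFix_spec chkR29_2 p (by omega) (by omega)
  exact chkFix_spec chkR29_3 p (by omega) (by omega)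

theorem hfixw_29 (p : ℕ) : wapp px (base.getD 29 []) p = R29 p := by
  show wapp px [1, 3, 1, 3] p = _
  simp only [wapp_cons, wapp_nil, px_c0, px_c1, px_c2, px_c3, px_c4, px_c5, px_c6, px_c7, px_c8, px_c9, px_c10]
  rfl

theorem hfixk_30 : ∀ p < N, R30 p = p := by
  intro p hp
  have hp' : p < 185328 := hp
  by_cases g0 : p < 29434
  · exact chkFix_spec chkR30_0 p (by omega) (by omega)
  by_cases g1 : p < 91934
  · exact chkFix_spec chkR30_1 p (by omega) (by omega)
  by_cases g2 : p < 154434
  · exact chkFix_spec chkR30_2 p (by omega) (by omega)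
  exact chkFix_spec chkR30_3 p (by omega) (by omega)

theorem hfixw_30 (p : ℕ) : wapp px (base.getD 30 []) p = R30 p := by
  show wapp px [1, 4, 1, 4] p = _
  simp only [wapp_cons, wapp_nil, px_c0, px_c1, px_c2, px_c3, px_c4, px_c5, px_c6, px_c7, px_c8, px_c9, px_c10]
  rfl

theorem hfixk_31 : ∀ p < N, R31 p = p := by
  intro p hp
  have hp' : p < 185328 := hp
  by_cases g0 : p < 31606
  · exact chkFix_spec chkR31_0 p (by omega) (by omega)
  by_cases g1 : p < 94106
  · exact chkFix_spec chkR31_1 p (by omega) (by omega)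
  by_cases g2 : p < 156606
  · exact chkFix_spec chkR31_2 p (by omega) (by omega)
  exact chkFix_spec chkR31_3 p (by omega) (by omega)

theorem hfixw_31 (p : ℕ) : wapp px (base.getD 31 []) p = R31 p := by
  show wapp px [1, 5, 1, 5] p = _
  simp only [wapp_cons, wapp_nil, px_c0, px_c1, px_c2, px_c3, px_c4, px_c5, px_c6, px_c7, px_c8, px_c9, px_c10]
  rfl

theorem hfixk_32 : ∀ p < N, R32 p = p := by
  intro p hp
  have hp' : p < 185328 := hp
  by_cases g0 : p < 33778
  · exact chkFix_spec chkR32_0 p (by omega) (by omega)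
  by_cases g1 : p < 96278
  · exact chkFix_spec chkR32_1 p (by omega) (by omega)
  by_cases g2 : p < 158778
  · exact chkFix_spec chkR32_2 p (by omega) (by omega)
  exact chkFix_spec chkR32_3 p (by omega) (by omega)

theorem hfixw_32 (p : ℕ) : wapp px (base.getD 32 []) p = R32 p := by
  show wapp px [1, 6, 1, 6] p = _
  simp only [wapp_cons, wapp_nil, px_c0, px_c1, px_c2, px_c3, px_c4, px_c5, px_c6, px_c7, px_c8, px_c9, px_c10]
  rfl

theorem hfixk_33 : ∀ p < N, R33 p = p := by
  intro p hp
  have hp' : p < 185328 := hp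
  by_cases g0 : p < 35950
  · exact chkFix_spec chkR33_0 p (by omega) (by omega)
  by_cases g1 : p < 98450
  · exact chkFix_spec chkR33_1 p (by omega) (by omega)
  by_cases g2 : p < 160950
  · exact chkFix_spec chkR33_2 p (by omega) (by omega)
  exact chkFix_spec chkR33_3 p (by omega) (by omega)

theorem hfixw_33 (p : ℕ) : wapp px (base.getD 33 []) p = R33 p := by
  show wapp px [1, 7, 1, 7] p = _
  simp only [wapp_cons, wapp_nil, px_c0, px_c1, px_c2, px_c3, px_c4, px_c5, px_c6, px_c7, px_c8, px_c9, px_c10]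
  rfl

theorem hfixk_34 : ∀ p < N, R34 p = p := by
  intro p hp
  have hp' : p < 185328 := hp
  by_cases g0 : p < 38122
  · exact chkFix_spec chkR34_0 p (by omega) (by omega)
  by_cases g1 : p < 100622
  · exact chkFix_spec chkR34_1 p (by omega) (by omega)
  by_cases g2 : p < 163122
  · exact chkFix_spec chkR34_2 p (by omega) (by omega)
  exact chkFix_spec chkR34_3 p (by omega) (by omega)

theorem hfixw_34 (p : ℕ) : wapp px (base.getD 34 []) p = R34 p := by
  show wapp px [1, 8, 1, 8] p = _
  simp only [wapp_cons, wapp_nil, px_c0, px_c1, px_c2, px_c3, px_c4, px_c5, px_c6, px_c7, px_c8, px_c9, px_c10]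
  rfl

theorem hfixk_35 : ∀ p < N, R35 p = p := by
  intro p hp
  have hp' : p < 185328 := hp
  by_cases g0 : p < 26862
  · exact chkFix_spec chkR35_0 p (by omega) (by omega)
  by_cases g1 : p < 68528
  · exact chkFix_spec chkR35_1 p (by omega) (by omega)
  by_cases g2 : p < 110194
  · exact chkFix_spec chkR35_2 p (by omega) (by omega)
  by_cases g3 : p < 151860
  · exact chkFix_spec chkR35_3 p (by omega) (by omega)
  exact chkFix_spec chkR35_4 p (by omega) (by omega)

theorem hfixw_35 (p : ℕ) : wapp px (base.getD 35 []) p = R35 p := by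
  show wapp px [2, 3, 2, 3, 2, 3] p = _
  simp only [wapp_cons, wapp_nil, px_c0, px_c1, px_c2, px_c3, px_c4, px_c5, px_c6, px_c7, px_c8, px_c9, px_c10]
  rfl

theorem hfixk_36 : ∀ p < N, R36 p = p := by
  intro p hp
  have hp' : p < 185328 := hp
  by_cases g0 : p < 12298
  · exact chkFix_spec chkR36_0 p (by omega) (by omega)
  by_cases g1 : p < 74798
  · exact chkFix_spec chkR36_1 p (by omega) (by omega)
  by_cases g2 : p < 137298
  · exact chkFix_spec chkR36_2 p (by omega) (by omega)
  exact chkFix_spec chkR36_3 p (by omega) (by omega)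

theorem hfixw_36 (p : ℕ) : wapp px (base.getD 36 []) p = R36 p := by
  show wapp px [2, 4, 2, 4] p = _
  simp only [wapp_cons, wapp_nil, px_c0, px_c1, px_c2, px_c3, px_c4, px_c5, px_c6, px_c7, px_c8, px_c9, px_c10]
  rfl

theorem hfixk_37 : ∀ p < N, R37 p = p := by
  intro p hp
  have hp' : p < 185328 := hp
  by_cases g0 : p < 14470
  · exact chkFix_spec chkR37_0 p (by omega) (by omega)
  by_cases g1 : p < 76970
  · exact chkFix_spec chkR37_1 p (by omega) (by omega)
  by_cases g2 : p < 139470
  · exact chkFix_spec chkR37_2 p (by omega) (by omega)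
  exact chkFix_spec chkR37_3 p (by omega) (by omega)

theorem hfixw_37 (p : ℕ) : wapp px (base.getD 37 []) p = R37 p := by
  show wapp px [2, 5, 2, 5] p = _
  simp only [wapp_cons, wapp_nil, px_c0, px_c1, px_c2, px_c3, px_c4, px_c5, px_c6, px_c7, px_c8, px_c9, px_c10]
  rfl

theorem hfixk_38 : ∀ p < N, R38 p = p := by
  intro p hp
  have hp' : p < 185328 := hp
  by_cases g0 : p < 16642
  · exact chkFix_spec chkR38_0 p (by omega) (by omega)
  by_cases g1 : p < 79142
  · exact chkFix_spec chkR38_1 p (by omega) (by omega)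
  by_cases g2 : p < 141642
  · exact chkFix_spec chkR38_2 p (by omega) (by omega)
  exact chkFix_spec chkR38_3 p (by omega) (by omega)

theorem hfixw_38 (p : ℕ) : wapp px (base.getD 38 []) p = R38 p := by
  show wapp px [2, 6, 2, 6] p = _
  simp only [wapp_cons, wapp_nil, px_c0, px_c1, px_c2, px_c3, px_c4, px_c5, px_c6, px_c7, px_c8, px_c9, px_c10]
  rfl

theorem hfixk_39 : ∀ p < N, R39 p = p := by
  intro p hp
  have hp' : p < 185328 := hp
  by_cases g0 : p < 18814
  · exact chkFix_spec chkR39_0 p (by omega) (by omega)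
  by_cases g1 : p < 81314
  · exact chkFix_spec chkR39_1 p (by omega) (by omega)
  by_cases g2 : p < 143814
  · exact chkFix_spec chkR39_2 p (by omega) (by omega)
  exact chkFix_spec chkR39_3 p (by omega) (by omega)

theorem hfixw_39 (p : ℕ) : wapp px (base.getD 39 []) p = R39 p := by
  show wapp px [2, 7, 2, 7] p = _
  simp only [wapp_cons, wapp_nil, px_c0, px_c1, px_c2, px_c3, px_c4, px_c5, px_c6, px_c7, px_c8, px_c9, px_c10]
  rfl

theorem hfixk_40 : ∀ p < N, R40 p = p := by
  intro p hp
  have hp' : p < 185328 := hp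
  by_cases g0 : p < 20986
  · exact chkFix_spec chkR40_0 p (by omega) (by omega)
  by_cases g1 : p < 83486
  · exact chkFix_spec chkR40_1 p (by omega) (by omega)
  by_cases g2 : p < 145986
  · exact chkFix_spec chkR40_2 p (by omega) (by omega)
  exact chkFix_spec chkR40_3 p (by omega) (by omega)

theorem hfixw_40 (p : ℕ) : wapp px (base.getD 40 []) p = R40 p := by
  show wapp px [2, 8, 2, 8] p = _
  simp only [wapp_cons, wapp_nil, px_c0, px_c1, px_c2, px_c3, px_c4, px_c5, px_c6, px_c7, px_c8, px_c9, px_c10]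
  rfl

theorem hfixk_41 : ∀ p < N, R41 p = p := by
  intro p hp
  have hp' : p < 185328 := hp
  by_cases g0 : p < 15438
  · exact chkFix_spec chkR41_0 p (by omega) (by omega)
  by_cases g1 : p < 57104
  · exact chkFix_spec chkR41_1 p (by omega) (by omega)
  by_cases g2 : p < 98770
  · exact chkFix_spec chkR41_2 p (by omega) (by omega)
  by_cases g3 : p < 140436
  · exact chkFix_spec chkR41_3 p (by omega) (by omega)
  by_cases g4 : p < 182102
  · exact chkFix_spec chkR41_4 p (by omega) (by omega)
  exact chkFix_spec chkR41_5 p (by omega) (by omega)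

theorem hfixw_41 (p : ℕ) : wapp px (base.getD 41 []) p = R41 p := by
  show wapp px [3, 4, 3, 4, 3, 4] p = _
  simp only [wapp_cons, wapp_nil, px_c0, px_c1, px_c2, px_c3, px_c4, px_c5, px_c6, px_c7, px_c8, px_c9, px_c10]
  rfl

theorem hfixk_42 : ∀ p < N, R42 p = p := by
  intro p hp
  have hp' : p < 185328 := hp
  by_cases g0 : p < 57661
  · exact chkFix_spec chkR42_0 p (by omega) (by omega)
  by_cases g1 : p < 120161
  · exact chkFix_spec chkR42_1 p (by omega) (by omega)
  by_cases g2 : p < 182661
  · exact chkFix_spec chkR42_2 p (by omega) (by omega)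
  exact chkFix_spec chkR42_3 p (by omega) (by omega)

theorem hfixw_42 (p : ℕ) : wapp px (base.getD 42 []) p = R42 p := by
  show wapp px [3, 5, 3, 5] p = _
  simp only [wapp_cons, wapp_nil, px_c0, px_c1, px_c2, px_c3, px_c4, px_c5, px_c6, px_c7, px_c8, px_c9, px_c10]
  rfl

theorem hfixk_43 : ∀ p < N, R43 p = p := by
  intro p hp
  have hp' : p < 185328 := hp
  by_cases g0 : p < 59833
  · exact chkFix_spec chkR43_0 p (by omega) (by omega)
  by_cases g1 : p < 122333
  · exact chkFix_spec chkR43_1 p (by omega) (by omega)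
  by_cases g2 : p < 184833
  · exact chkFix_spec chkR43_2 p (by omega) (by omega)
  exact chkFix_spec chkR43_3 p (by omega) (by omega)

theorem hfixw_43 (p : ℕ) : wapp px (base.getD 43 []) p = R43 p := by
  show wapp px [3, 6, 3, 6] p = _
  simp only [wapp_cons, wapp_nil, px_c0, px_c1, px_c2, px_c3, px_c4, px_c5, px_c6, px_c7, px_c8, px_c9, px_c10]
  rfl

theorem hfixk_44 : ∀ p < N, R44 p = p := by
  intro p hp
  have hp' : p < 185328 := hp
  by_cases g0 : p < 41336
  · exact chkFix_spec chkR44_0 p (by omega) (by omega)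
  by_cases g1 : p < 83002
  · exact chkFix_spec chkR44_1 p (by omega) (by omega)
  by_cases g2 : p < 124668
  · exact chkFix_spec chkR44_2 p (by omega) (by omega)
  by_cases g3 : p < 166334
  · exact chkFix_spec chkR44_3 p (by omega) (by omega)
  exact chkFix_spec chkR44_4 p (by omega) (by omega)

theorem hfixw_44 (p : ℕ) : wapp px (base.getD 44 []) p = R44 p := by
  show wapp px [3, 7, 3, 7, 3, 7] p = _
  simp only [wapp_cons, wapp_nil, px_c0, px_c1, px_c2, px_c3, px_c4, px_c5, px_c6, px_c7, px_c8, px_c9, px_c10]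
  rfl

theorem hfixk_45 : ∀ p < N, R45 p = p := by
  intro p hp
  have hp' : p < 185328 := hp
  by_cases g0 : p < 34009
  · exact chkFix_spec chkR45_0 p (by omega) (by omega)
  by_cases g1 : p < 96509
  · exact chkFix_spec chkR45_1 p (by omega) (by omega)
  by_cases g2 : p < 159009
  · exact chkFix_spec chkR45_2 p (by omega) (by omega)
  exact chkFix_spec chkR45_3 p (by omega) (by omega)

theorem hfixw_45 (p : ℕ) : wapp px (base.getD 45 []) p = R45 p := by
  show wapp px [3, 8, 3, 8] p = _
  simp only [wapp_cons, wapp_nil, px_c0, px_c1, px_c2, px_c3, px_c4, px_c5, px_c6, px_c7, px_c8, px_c9, px_c10]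
  rfl

theorem hfixk_46 : ∀ p < N, R46 p = p := by
  intro p hp
  have hp' : p < 185328 := hp
  by_cases g0 : p < 24120
  · exact chkFix_spec chkR46_0 p (by omega) (by omega)
  by_cases g1 : p < 65786
  · exact chkFix_spec chkR46_1 p (by omega) (by omega)
  by_cases g2 : p < 107452
  · exact chkFix_spec chkR46_2 p (by omega) (by omega)
  by_cases g3 : p < 149118
  · exact chkFix_spec chkR46_3 p (by omega) (by omega)
  exact chkFix_spec chkR46_4 p (by omega) (by omega)

theorem hfixw_46 (p : ℕ) : wapp px (base.getD 46 []) p = R46 p := by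
  show wapp px [4, 5, 4, 5, 4, 5] p = _
  simp only [wapp_cons, wapp_nil, px_c0, px_c1, px_c2, px_c3, px_c4, px_c5, px_c6, px_c7, px_c8, px_c9, px_c10]
  rfl

theorem hfixk_47 : ∀ p < N, R47 p = p := by
  intro p hp
  have hp' : p < 185328 := hp
  by_cases g0 : p < 8185
  · exact chkFix_spec chkR47_0 p (by omega) (by omega)
  by_cases g1 : p < 70685
  · exact chkFix_spec chkR47_1 p (by omega) (by omega)
  by_cases g2 : p < 133185
  · exact chkFix_spec chkR47_2 p (by omega) (by omega)
  exact chkFix_spec chkR47_3 p (by omega) (by omega)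

theorem hfixw_47 (p : ℕ) : wapp px (base.getD 47 []) p = R47 p := by
  show wapp px [4, 6, 4, 6] p = _
  simp only [wapp_cons, wapp_nil, px_c0, px_c1, px_c2, px_c3, px_c4, px_c5, px_c6, px_c7, px_c8, px_c9, px_c10]
  rfl

theorem hfixk_48 : ∀ p < N, R48 p = p := by
  intro p hp
  have hp' : p < 185328 := hp
  by_cases g0 : p < 10357
  · exact chkFix_spec chkR48_0 p (by omega) (by omega)
  by_cases g1 : p < 72857
  · exact chkFix_spec chkR48_1 p (by omega) (by omega)
  by_cases g2 : p < 135357
  · exact chkFix_spec chkR48_2 p (by omega) (by omega)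
  exact chkFix_spec chkR48_3 p (by omega) (by omega)

theorem hfixw_48 (p : ℕ) : wapp px (base.getD 48 []) p = R48 p := by
  show wapp px [4, 7, 4, 7] p = _
  simp only [wapp_cons, wapp_nil, px_c0, px_c1, px_c2, px_c3, px_c4, px_c5, px_c6, px_c7, px_c8, px_c9, px_c10]
  rfl

theorem hfixk_49 : ∀ p < N, R49 p = p := by
  intro p hp
  have hp' : p < 185328 := hp
  by_cases g0 : p < 12529
  · exact chkFix_spec chkR49_0 p (by omega) (by omega)
  by_cases g1 : p < 75029
  · exact chkFix_spec chkR49_1 p (by omega) (by omega)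
  by_cases g2 : p < 137529
  · exact chkFix_spec chkR49_2 p (by omega) (by omega)
  exact chkFix_spec chkR49_3 p (by omega) (by omega)

theorem hfixw_49 (p : ℕ) : wapp px (base.getD 49 []) p = R49 p := by
  show wapp px [4, 8, 4, 8] p = _
  simp only [wapp_cons, wapp_nil, px_c0, px_c1, px_c2, px_c3, px_c4, px_c5, px_c6, px_c7, px_c8, px_c9, px_c10]
  rfl

theorem hfixk_50 : ∀ p < N, R50 p = p := by
  intro p hp
  have hp' : p < 185328 := hp
  by_cases g0 : p < 9800
  · exact chkFix_spec chkR50_0 p (by omega) (by omega)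
  by_cases g1 : p < 51466
  · exact chkFix_spec chkR50_1 p (by omega) (by omega)
  by_cases g2 : p < 93132
  · exact chkFix_spec chkR50_2 p (by omega) (by omega)
  by_cases g3 : p < 134798
  · exact chkFix_spec chkR50_3 p (by omega) (by omega)
  by_cases g4 : p < 176464
  · exact chkFix_spec chkR50_4 p (by omega) (by omega)
  exact chkFix_spec chkR50_5 p (by omega) (by omega)

theorem hfixw_50 (p : ℕ) : wapp px (base.getD 50 []) p = R50 p := by
  show wapp px [5, 6, 5, 6, 5, 6] p = _
  simp only [wapp_cons, wapp_nil, px_c0, px_c1, px_c2, px_c3, px_c4, px_c5, px_c6, px_c7, px_c8, px_c9, px_c10]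
  rfl

theorem hfixk_51 : ∀ p < N, R51 p = p := by
  intro p hp
  have hp' : p < 185328 := hp
  by_cases g0 : p < 49204
  · exact chkFix_spec chkR51_0 p (by omega) (by omega)
  by_cases g1 : p < 111704
  · exact chkFix_spec chkR51_1 p (by omega) (by omega)
  by_cases g2 : p < 174204
  · exact chkFix_spec chkR51_2 p (by omega) (by omega)
  exact chkFix_spec chkR51_3 p (by omega) (by omega)

theorem hfixw_51 (p : ℕ) : wapp px (base.getD 51 []) p = R51 p := by
  show wapp px [5, 7, 5, 7] p = _
  simp only [wapp_cons, wapp_nil, px_c0, px_c1, px_c2, px_c3, px_c4, px_c5, px_c6, px_c7, px_c8, px_c9, px_c10]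
  rfl

theorem hfixk_52 : ∀ p < N, R52 p = p := by
  intro p hp
  have hp' : p < 185328 := hp
  by_cases g0 : p < 51376
  · exact chkFix_spec chkR52_0 p (by omega) (by omega)
  by_cases g1 : p < 113876
  · exact chkFix_spec chkR52_1 p (by omega) (by omega)
  by_cases g2 : p < 176376
  · exact chkFix_spec chkR52_2 p (by omega) (by omega)
  exact chkFix_spec chkR52_3 p (by omega) (by omega)

theorem hfixw_52 (p : ℕ) : wapp px (base.getD 52 []) p = R52 p := by
  show wapp px [5, 8, 5, 8] p = _
  simp only [wapp_cons, wapp_nil, px_c0, px_c1, px_c2, px_c3, px_c4, px_c5, px_c6, px_c7, px_c8, px_c9, px_c10]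
  rfl

theorem hfixk_53 : ∀ p < N, R53 p = p := by
  intro p hp
  have hp' : p < 185328 := hp
  by_cases g0 : p < 53548
  · exact chkFix_spec chkR53_0 p (by omega) (by omega)
  by_cases g1 : p < 116048
  · exact chkFix_spec chkR53_1 p (by omega) (by omega)
  by_cases g2 : p < 178548
  · exact chkFix_spec chkR53_2 p (by omega) (by omega)
  exact chkFix_spec chkR53_3 p (by omega) (by omega)

theorem hfixw_53 (p : ℕ) : wapp px (base.getD 53 []) p = R53 p := by
  show wapp px [6, 7, 6, 7] p = _
  simp only [wapp_cons, wapp_nil, px_c0, px_c1, px_c2, px_c3, px_c4, px_c5, px_c6, px_c7, px_c8, px_c9, px_c10]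
  rfl

theorem hfixk_54 : ∀ p < N, R54 p = p := by
  intro p hp
  have hp' : p < 185328 := hp
  by_cases g0 : p < 55720
  · exact chkFix_spec chkR54_0 p (by omega) (by omega)
  by_cases g1 : p < 118220
  · exact chkFix_spec chkR54_1 p (by omega) (by omega)
  by_cases g2 : p < 180720
  · exact chkFix_spec chkR54_2 p (by omega) (by omega)
  exact chkFix_spec chkR54_3 p (by omega) (by omega)

theorem hfixw_54 (p : ℕ) : wapp px (base.getD 54 []) p = R54 p := by
  show wapp px [6, 8, 6, 8] p = _
  simp only [wapp_cons, wapp_nil, px_c0, px_c1, px_c2, px_c3, px_c4, px_c5, px_c6, px_c7, px_c8, px_c9, px_c10]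
  rfl

theorem hfixk_55 : ∀ p < N, R55 p = p := by
  intro p hp
  have hp' : p < 185328 := hp
  by_cases g0 : p < 38594
  · exact chkFix_spec chkR55_0 p (by omega) (by omega)
  by_cases g1 : p < 80260
  · exact chkFix_spec chkR55_1 p (by omega) (by omega)
  by_cases g2 : p < 121926
  · exact chkFix_spec chkR55_2 p (by omega) (by omega)
  by_cases g3 : p < 163592
  · exact chkFix_spec chkR55_3 p (by omega) (by omega)
  exact chkFix_spec chkR55_4 p (by omega) (by omega)

theorem hfixw_55 (p : ℕ) : wapp px (base.getD 55 []) p = R55 p := by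
  show wapp px [7, 8, 7, 8, 7, 8] p = _
  simp only [wapp_cons, wapp_nil, px_c0, px_c1, px_c2, px_c3, px_c4, px_c5, px_c6, px_c7, px_c8, px_c9, px_c10]
  rfl

theorem hfixk_56 : ∀ p < N, R56 p = p := by
  intro p hp
  have hp' : p < 185328 := hp
  by_cases g0 : p < 1314
  · exact chkFix_spec chkR56_0 p (by omega) (by omega)
  by_cases g1 : p < 4061
  · exact chkFix_spec chkR56_1 p (by omega) (by omega)
  by_cases g2 : p < 6808
  · exact chkFix_spec chkR56_2 p (by omega) (by omega)
  by_cases g3 : p < 9555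
  · exact chkFix_spec chkR56_3 p (by omega) (by omega)
  by_cases g4 : p < 12302
  · exact chkFix_spec chkR56_4 p (by omega) (by omega)
  by_cases g5 : p < 15049
  · exact chkFix_spec chkR56_5 p (by omega) (by omega)
  by_cases g6 : p < 17796
  · exact chkFix_spec chkR56_6 p (by omega) (by omega)
  by_cases g7 : p < 20543
  · exact chkFix_spec chkR56_7 p (by omega) (by omega)
  by_cases g8 : p < 23290
  · exact chkFix_spec chkR56_8 p (by omega) (by omega)
  by_cases g9 : p < 26037
  · exact chkFix_spec chkR56_9 p (by omega) (by omega)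
  by_cases g10 : p < 28784
  · exact chkFix_spec chkR56_10 p (by omega) (by omega)
  by_cases g11 : p < 31531
  · exact chkFix_spec chkR56_11 p (by omega) (by omega)
  by_cases g12 : p < 34278
  · exact chkFix_spec chkR56_12 p (by omega) (by omega)
  by_cases g13 : p < 37025
  · exact chkFix_spec chkR56_13 p (by omega) (by omega)
  by_cases g14 : p < 39772
  · exact chkFix_spec chkR56_14 p (by omega) (by omega)
  by_cases g15 : p < 42519
  · exact chkFix_spec chkR56_15 p (by omega) (by omega)
  by_cases g16 : p < 45266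
  · exact chkFix_spec chkR56_16 p (by omega) (by omega)
  by_cases g17 : p < 48013
  · exact chkFix_spec chkR56_17 p (by omega) (by omega)
  by_cases g18 : p < 50760
  · exact chkFix_spec chkR56_18 p (by omega) (by omega)
  by_cases g19 : p < 53507
  · exact chkFix_spec chkR56_19 p (by omega) (by omega)
  by_cases g20 : p < 56254
  · exact chkFix_spec chkR56_20 p (by omega) (by omega)
  by_cases g21 : p < 59001
  · exact chkFix_spec chkR56_21 p (by omega) (by omega)
  by_cases g22 : p < 61748
  · exact chkFix_spec chkR56_22 p (by omega) (by omega)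
  by_cases g23 : p < 64495
  · exact chkFix_spec chkR56_23 p (by omega) (by omega)
  by_cases g24 : p < 67242
  · exact chkFix_spec chkR56_24 p (by omega) (by omega)
  by_cases g25 : p < 69989
  · exact chkFix_spec chkR56_25 p (by omega) (by omega)
  by_cases g26 : p < 72736
  · exact chkFix_spec chkR56_26 p (by omega) (by omega)
  by_cases g27 : p < 75483
  · exact chkFix_spec chkR56_27 p (by omega) (by omega)
  by_cases g28 : p < 78230
  · exact chkFix_spec chkR56_28 p (by omega) (by omega)
  by_cases g29 : p < 80977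
  · exact chkFix_spec chkR56_29 p (by omega) (by omega)
  by_cases g30 : p < 83724
  · exact chkFix_spec chkR56_30 p (by omega) (by omega)
  by_cases g31 : p < 86471
  · exact chkFix_spec chkR56_31 p (by omega) (by omega)
  by_cases g32 : p < 89218
  · exact chkFix_spec chkR56_32 p (by omega) (by omega)
  by_cases g33 : p < 91965
  · exact chkFix_spec chkR56_33 p (by omega) (by omega)
  by_cases g34 : p < 94712
  · exact chkFix_spec chkR56_34 p (by omega) (by omega)
  by_cases g35 : p < 97459
  · exact chkFix_spec chkR56_35 p (by omega) (by omega)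
  by_cases g36 : p < 100206
  · exact chkFix_spec chkR56_36 p (by omega) (by omega)
  by_cases g37 : p < 102953
  · exact chkFix_spec chkR56_37 p (by omega) (by omega)
  by_cases g38 : p < 105700
  · exact chkFix_spec chkR56_38 p (by omega) (by omega)
  by_cases g39 : p < 108447
  · exact chkFix_spec chkR56_39 p (by omega) (by omega)
  by_cases g40 : p < 111194
  · exact chkFix_spec chkR56_40 p (by omega) (by omega)
  by_cases g41 : p < 113941
  · exact chkFix_spec chkR56_41 p (by omega) (by omega)
  by_cases g42 : p < 116688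
  · exact chkFix_spec chkR56_42 p (by omega) (by omega)
  by_cases g43 : p < 119435
  · exact chkFix_spec chkR56_43 p (by omega) (by omega)
  by_cases g44 : p < 122182
  · exact chkFix_spec chkR56_44 p (by omega) (by omega)
  by_cases g45 : p < 124929
  · exact chkFix_spec chkR56_45 p (by omega) (by omega)
  by_cases g46 : p < 127676
  · exact chkFix_spec chkR56_46 p (by omega) (by omega)
  by_cases g47 : p < 130423
  · exact chkFix_spec chkR56_47 p (by omega) (by omega)
  by_cases g48 : p < 133170
  · exact chkFix_spec chkR56_48 p (by omega) (by omega)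
  by_cases g49 : p < 135917
  · exact chkFix_spec chkR56_49 p (by omega) (by omega)
  by_cases g50 : p < 138664
  · exact chkFix_spec chkR56_50 p (by omega) (by omega)
  by_cases g51 : p < 141411
  · exact chkFix_spec chkR56_51 p (by omega) (by omega)
  by_cases g52 : p < 144158
  · exact chkFix_spec chkR56_52 p (by omega) (by omega)
  by_cases g53 : p < 146905
  · exact chkFix_spec chkR56_53 p (by omega) (by omega)
  by_cases g54 : p < 149652
  · exact chkFix_spec chkR56_54 p (by omega) (by omega)
  by_cases g55 : p < 152399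
  · exact chkFix_spec chkR56_55 p (by omega) (by omega)
  by_cases g56 : p < 155146
  · exact chkFix_spec chkR56_56 p (by omega) (by omega)
  by_cases g57 : p < 157893
  · exact chkFix_spec chkR56_57 p (by omega) (by omega)
  by_cases g58 : p < 160640
  · exact chkFix_spec chkR56_58 p (by omega) (by omega)
  by_cases g59 : p < 163387
  · exact chkFix_spec chkR56_59 p (by omega) (by omega)
  by_cases g60 : p < 166134
  · exact chkFix_spec chkR56_60 p (by omega) (by omega)
  by_cases g61 : p < 168881
  · exact chkFix_spec chkR56_61 p (by omega) (by omega)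
  by_cases g62 : p < 171628
  · exact chkFix_spec chkR56_62 p (by omega) (by omega)
  by_cases g63 : p < 174375
  · exact chkFix_spec chkR56_63 p (by omega) (by omega)
  by_cases g64 : p < 177122
  · exact chkFix_spec chkR56_64 p (by omega) (by omega)
  by_cases g65 : p < 179869
  · exact chkFix_spec chkR56_65 p (by omega) (by omega)
  by_cases g66 : p < 182616
  · exact chkFix_spec chkR56_66 p (by omega) (by omega)
  exact chkFix_spec chkR56_67 p (by omega) (by omega)

theorem hfixw_56 (p : ℕ) : wapp px (base.getD 56 []) p = R56 p := by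
  show wapp px [3, 2, 1, 3, 4, 5, 3, 7, 8, 3, 2, 1, 3, 4, 5, 3, 7, 8, 3, 2, 1, 3, 4, 5, 3, 7, 8, 3, 2, 1, 3, 4, 5, 3, 7, 8, 3, 2, 1, 3, 4, 5, 3, 7, 8, 3, 2, 1, 3, 4, 5, 3, 7, 8, 3, 2, 1, 3, 4, 5, 3, 7, 8, 3, 2, 1, 3, 4, 5, 3, 7, 8, 3, 2, 1, 3, 4, 5, 3, 7, 8, 3, 2, 1, 3, 4, 5, 3, 7, 8, 10] p = _
  simp only [wapp_cons, wapp_nil, px_c0, px_c1, px_c2, px_c3, px_c4, px_c5, px_c6, px_c7, px_c8, px_c9, px_c10]
  rfl

theorem hfixk_57 : ∀ p < N, R57 p = p := by
  intro p hp
  have hp' : p < 185328 := hp
  by_cases g0 : p < 3968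
  · exact chkFix_spec chkR57_0 p (by omega) (by omega)
  by_cases g1 : p < 7936
  · exact chkFix_spec chkR57_1 p (by omega) (by omega)
  by_cases g2 : p < 11904
  · exact chkFix_spec chkR57_2 p (by omega) (by omega)
  by_cases g3 : p < 15872
  · exact chkFix_spec chkR57_3 p (by omega) (by omega)
  by_cases g4 : p < 19840
  · exact chkFix_spec chkR57_4 p (by omega) (by omega)
  by_cases g5 : p < 23808
  · exact chkFix_spec chkR57_5 p (by omega) (by omega)
  by_cases g6 : p < 27776
  · exact chkFix_spec chkR57_6 p (by omega) (by omega)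
  by_cases g7 : p < 31744
  · exact chkFix_spec chkR57_7 p (by omega) (by omega)
  by_cases g8 : p < 35712
  · exact chkFix_spec chkR57_8 p (by omega) (by omega)
  by_cases g9 : p < 39680
  · exact chkFix_spec chkR57_9 p (by omega) (by omega)
  by_cases g10 : p < 43648
  · exact chkFix_spec chkR57_10 p (by omega) (by omega)
  by_cases g11 : p < 47616
  · exact chkFix_spec chkR57_11 p (by omega) (by omega)
  by_cases g12 : p < 51584
  · exact chkFix_spec chkR57_12 p (by omega) (by omega)
  by_cases g13 : p < 55552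
  · exact chkFix_spec chkR57_13 p (by omega) (by omega)
  by_cases g14 : p < 59520
  · exact chkFix_spec chkR57_14 p (by omega) (by omega)
  by_cases g15 : p < 63488
  · exact chkFix_spec chkR57_15 p (by omega) (by omega)
  by_cases g16 : p < 67456
  · exact chkFix_spec chkR57_16 p (by omega) (by omega)
  by_cases g17 : p < 71424
  · exact chkFix_spec chkR57_17 p (by omega) (by omega)
  by_cases g18 : p < 75392
  · exact chkFix_spec chkR57_18 p (by omega) (by omega)
  by_cases g19 : p < 79360
  · exact chkFix_spec chkR57_19 p (by omega) (by omega)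
  by_cases g20 : p < 83328
  · exact chkFix_spec chkR57_20 p (by omega) (by omega)
  by_cases g21 : p < 87296
  · exact chkFix_spec chkR57_21 p (by omega) (by omega)
  by_cases g22 : p < 91264
  · exact chkFix_spec chkR57_22 p (by omega) (by omega)
  by_cases g23 : p < 95232
  · exact chkFix_spec chkR57_23 p (by omega) (by omega)
  by_cases g24 : p < 99200
  · exact chkFix_spec chkR57_24 p (by omega) (by omega)
  by_cases g25 : p < 103168
  · exact chkFix_spec chkR57_25 p (by omega) (by omega)
  by_cases g26 : p < 107136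
  · exact chkFix_spec chkR57_26 p (by omega) (by omega)
  by_cases g27 : p < 111104
  · exact chkFix_spec chkR57_27 p (by omega) (by omega)
  by_cases g28 : p < 115072
  · exact chkFix_spec chkR57_28 p (by omega) (by omega)
  by_cases g29 : p < 119040
  · exact chkFix_spec chkR57_29 p (by omega) (by omega)
  by_cases g30 : p < 123008
  · exact chkFix_spec chkR57_30 p (by omega) (by omega)
  by_cases g31 : p < 126976
  · exact chkFix_spec chkR57_31 p (by omega) (by omega)
  by_cases g32 : p < 130944
  · exact chkFix_spec chkR57_32 p (by omega) (by omega)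
  by_cases g33 : p < 134912
  · exact chkFix_spec chkR57_33 p (by omega) (by omega)
  by_cases g34 : p < 138880
  · exact chkFix_spec chkR57_34 p (by omega) (by omega)
  by_cases g35 : p < 142848
  · exact chkFix_spec chkR57_35 p (by omega) (by omega)
  by_cases g36 : p < 146816
  · exact chkFix_spec chkR57_36 p (by omega) (by omega)
  by_cases g37 : p < 150784
  · exact chkFix_spec chkR57_37 p (by omega) (by omega)
  by_cases g38 : p < 154752
  · exact chkFix_spec chkR57_38 p (by omega) (by omega)
  by_cases g39 : p < 158720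
  · exact chkFix_spec chkR57_39 p (by omega) (by omega)
  by_cases g40 : p < 162688
  · exact chkFix_spec chkR57_40 p (by omega) (by omega)
  by_cases g41 : p < 166656
  · exact chkFix_spec chkR57_41 p (by omega) (by omega)
  by_cases g42 : p < 170624
  · exact chkFix_spec chkR57_42 p (by omega) (by omega)
  by_cases g43 : p < 174592
  · exact chkFix_spec chkR57_43 p (by omega) (by omega)
  by_cases g44 : p < 178560
  · exact chkFix_spec chkR57_44 p (by omega) (by omega)
  by_cases g45 : p < 182528
  · exact chkFix_spec chkR57_45 p (by omega) (by omega)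
  exact chkFix_spec chkR57_46 p (by omega) (by omega)

theorem hfixw_57 (p : ℕ) : wapp px (base.getD 57 []) p = R57 p := by
  show wapp px [0, 1, 2, 3, 4, 5, 7, 0, 1, 2, 3, 4, 5, 7, 0, 1, 2, 3, 4, 5, 7, 0, 1, 2, 3, 4, 5, 7, 0, 1, 2, 3, 4, 5, 7, 0, 1, 2, 3, 4, 5, 7, 0, 1, 2, 3, 4, 5, 7, 0, 1, 2, 3, 4, 5, 7, 0, 1, 2, 3, 4, 5, 7] p = _
  simp only [wapp_cons, wapp_nil, px_c0, px_c1, px_c2, px_c3, px_c4, px_c5, px_c6, px_c7, px_c8, px_c9, px_c10]
  rfl

theorem hfixk_58 : ∀ p < N, R58 p = p := by
  intro p hp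
  have hp' : p < 185328 := hp
  by_cases g0 : p < 1168
  · exact chkFix_spec chkR58_0 p (by omega) (by omega)
  by_cases g1 : p < 5136
  · exact chkFix_spec chkR58_1 p (by omega) (by omega)
  by_cases g2 : p < 9104
  · exact chkFix_spec chkR58_2 p (by omega) (by omega)
  by_cases g3 : p < 13072
  · exact chkFix_spec chkR58_3 p (by omega) (by omega)
  by_cases g4 : p < 17040
  · exact chkFix_spec chkR58_4 p (by omega) (by omega)
  by_cases g5 : p < 21008
  · exact chkFix_spec chkR58_5 p (by omega) (by omega)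
  by_cases g6 : p < 24976
  · exact chkFix_spec chkR58_6 p (by omega) (by omega)
  by_cases g7 : p < 28944
  · exact chkFix_spec chkR58_7 p (by omega) (by omega)
  by_cases g8 : p < 32912
  · exact chkFix_spec chkR58_8 p (by omega) (by omega)
  by_cases g9 : p < 36880
  · exact chkFix_spec chkR58_9 p (by omega) (by omega)
  by_cases g10 : p < 40848
  · exact chkFix_spec chkR58_10 p (by omega) (by omega)
  by_cases g11 : p < 44816
  · exact chkFix_spec chkR58_11 p (by omega) (by omega)
  by_cases g12 : p < 48784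
  · exact chkFix_spec chkR58_12 p (by omega) (by omega)
  by_cases g13 : p < 52752
  · exact chkFix_spec chkR58_13 p (by omega) (by omega)
  by_cases g14 : p < 56720
  · exact chkFix_spec chkR58_14 p (by omega) (by omega)
  by_cases g15 : p < 60688
  · exact chkFix_spec chkR58_15 p (by omega) (by omega)
  by_cases g16 : p < 64656
  · exact chkFix_spec chkR58_16 p (by omega) (by omega)
  by_cases g17 : p < 68624
  · exact chkFix_spec chkR58_17 p (by omega) (by omega)
  by_cases g18 : p < 72592
  · exact chkFix_spec chkR58_18 p (by omega) (by omega)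
  by_cases g19 : p < 76560
  · exact chkFix_spec chkR58_19 p (by omega) (by omega)
  by_cases g20 : p < 80528
  · exact chkFix_spec chkR58_20 p (by omega) (by omega)
  by_cases g21 : p < 84496
  · exact chkFix_spec chkR58_21 p (by omega) (by omega)
  by_cases g22 : p < 88464
  · exact chkFix_spec chkR58_22 p (by omega) (by omega)
  by_cases g23 : p < 92432
  · exact chkFix_spec chkR58_23 p (by omega) (by omega)
  by_cases g24 : p < 96400
  · exact chkFix_spec chkR58_24 p (by omega) (by omega)
  by_cases g25 : p < 100368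
  · exact chkFix_spec chkR58_25 p (by omega) (by omega)
  by_cases g26 : p < 104336
  · exact chkFix_spec chkR58_26 p (by omega) (by omega)
  by_cases g27 : p < 108304
  · exact chkFix_spec chkR58_27 p (by omega) (by omega)
  by_cases g28 : p < 112272
  · exact chkFix_spec chkR58_28 p (by omega) (by omega)
  by_cases g29 : p < 116240
  · exact chkFix_spec chkR58_29 p (by omega) (by omega)
  by_cases g30 : p < 120208
  · exact chkFix_spec chkR58_30 p (by omega) (by omega)
  by_cases g31 : p < 124176
  · exact chkFix_spec chkR58_31 p (by omega) (by omega)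
  by_cases g32 : p < 128144
  · exact chkFix_spec chkR58_32 p (by omega) (by omega)
  by_cases g33 : p < 132112
  · exact chkFix_spec chkR58_33 p (by omega) (by omega)
  by_cases g34 : p < 136080
  · exact chkFix_spec chkR58_34 p (by omega) (by omega)
  by_cases g35 : p < 140048
  · exact chkFix_spec chkR58_35 p (by omega) (by omega)
  by_cases g36 : p < 144016
  · exact chkFix_spec chkR58_36 p (by omega) (by omega)
  by_cases g37 : p < 147984
  · exact chkFix_spec chkR58_37 p (by omega) (by omega)
  by_cases g38 : p < 151952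
  · exact chkFix_spec chkR58_38 p (by omega) (by omega)
  by_cases g39 : p < 155920
  · exact chkFix_spec chkR58_39 p (by omega) (by omega)
  by_cases g40 : p < 159888
  · exact chkFix_spec chkR58_40 p (by omega) (by omega)
  by_cases g41 : p < 163856
  · exact chkFix_spec chkR58_41 p (by omega) (by omega)
  by_cases g42 : p < 167824
  · exact chkFix_spec chkR58_42 p (by omega) (by omega)
  by_cases g43 : p < 171792
  · exact chkFix_spec chkR58_43 p (by omega) (by omega)
  by_cases g44 : p < 175760
  · exact chkFix_spec chkR58_44 p (by omega) (by omega)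
  by_cases g45 : p < 179728
  · exact chkFix_spec chkR58_45 p (by omega) (by omega)
  by_cases g46 : p < 183696
  · exact chkFix_spec chkR58_46 p (by omega) (by omega)
  exact chkFix_spec chkR58_47 p (by omega) (by omega)

theorem hfixw_58 (p : ℕ) : wapp px (base.getD 58 []) p = R58 p := by
  show wapp px [1, 2, 3, 4, 5, 6, 7, 1, 2, 3, 4, 5, 6, 7, 1, 2, 3, 4, 5, 6, 7, 1, 2, 3, 4, 5, 6, 7, 1, 2, 3, 4, 5, 6, 7, 1, 2, 3, 4, 5, 6, 7, 1, 2, 3, 4, 5, 6, 7, 1, 2, 3, 4, 5, 6, 7, 1, 2, 3, 4, 5, 6, 7] p = _
  simp only [wapp_cons, wapp_nil, px_c0, px_c1, px_c2, px_c3, px_c4, px_c5, px_c6, px_c7, px_c8, px_c9, px_c10]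
  rfl

theorem hfix_k : ∀ k < 59, ∀ p < N, wapp px (base.getD k []) p = p := by
  intro k hk
  interval_cases k
  · intro p hp
    rw [hfixw_0]
    exact hfixk_0 p hp
  · intro p hp
    rw [hfixw_1]
    exact hfixk_1 p hp
  · intro p hp
    rw [hfixw_2]
    exact hfixk_2 p hp
  · intro p hp
    rw [hfixw_3]
    exact hfixk_3 p hp
  · intro p hp
    rw [hfixw_4]
    exact hfixk_4 p hp
  · intro p hp
    rw [hfixw_5]
    exact hfixk_5 p hp
  · intro p hp
    rw [hfixw_6]
    exact hfixk_6 p hp
  · intro p hp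
    rw [hfixw_7]
    exact hfixk_7 p hp
  · intro p hp
    rw [hfixw_8]
    exact hfixk_8 p hp
  · intro p hp
    rw [hfixw_9]
    exact hfixk_9 p hp
  · intro p hp
    rw [hfixw_10]
    exact hfixk_10 p hp
  · intro p hp
    rw [hfixw_11]
    exact hfixk_11 p hp
  · intro p hp
    rw [hfixw_12]
    exact hfixk_12 p hp
  · intro p hp
    rw [hfixw_13]
    exact hfixk_13 p hp
  · intro p hp
    rw [hfixw_14]
    exact hfixk_14 p hp
  · intro p hp
    rw [hfixw_15]
    exact hfixk_15 p hp
  · intro p hp
    rw [hfixw_16]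
    exact hfixk_16 p hp
  · intro p hp
    rw [hfixw_17]
    exact hfixk_17 p hp
  · intro p hp
    rw [hfixw_18]
    exact hfixk_18 p hp
  · intro p hp
    rw [hfixw_19]
    exact hfixk_19 p hp
  · intro p hp
    rw [hfixw_20]
    exact hfixk_20 p hp
  · intro p hp
    rw [hfixw_21]
    exact hfixk_21 p hp
  · intro p hp
    rw [hfixw_22]
    exact hfixk_22 p hp
  · intro p hp
    rw [hfixw_23]
    exact hfixk_23 p hp
  · intro p hp
    rw [hfixw_24]
    exact hfixk_24 p hp
  · intro p hp
    rw [hfixw_25]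
    exact hfixk_25 p hp
  · intro p hp
    rw [hfixw_26]
    exact hfixk_26 p hp
  · intro p hp
    rw [hfixw_27]
    exact hfixk_27 p hp
  · intro p hp
    rw [hfixw_28]
    exact hfixk_28 p hp
  · intro p hp
    rw [hfixw_29]
    exact hfixk_29 p hp
  · intro p hp
    rw [hfixw_30]
    exact hfixk_30 p hp
  · intro p hp
    rw [hfixw_31]
    exact hfixk_31 p hp
  · intro p hp
    rw [hfixw_32]
    exact hfixk_32 p hp
  · intro p hp
    rw [hfixw_33]
    exact hfixk_33 p hp
  · intro p hp
    rw [hfixw_34]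
    exact hfixk_34 p hp
  · intro p hp
    rw [hfixw_35]
    exact hfixk_35 p hp
  · intro p hp
    rw [hfixw_36]
    exact hfixk_36 p hp
  · intro p hp
    rw [hfixw_37]
    exact hfixk_37 p hp
  · intro p hp
    rw [hfixw_38]
    exact hfixk_38 p hp
  · intro p hp
    rw [hfixw_39]
    exact hfixk_39 p hp
  · intro p hp
    rw [hfixw_40]
    exact hfixk_40 p hp
  · intro p hp
    rw [hfixw_41]
    exact hfixk_41 p hp
  · intro p hp
    rw [hfixw_42]
    exact hfixk_42 p hp
  · intro p hp
    rw [hfixw_43]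
    exact hfixk_43 p hp
  · intro p hp
    rw [hfixw_44]
    exact hfixk_44 p hp
  · intro p hp
    rw [hfixw_45]
    exact hfixk_45 p hp
  · intro p hp
    rw [hfixw_46]
    exact hfixk_46 p hp
  · intro p hp
    rw [hfixw_47]
    exact hfixk_47 p hp
  · intro p hp
    rw [hfixw_48]
    exact hfixk_48 p hp
  · intro p hp
    rw [hfixw_49]
    exact hfixk_49 p hp
  · intro p hp
    rw [hfixw_50]
    exact hfixk_50 p hp
  · intro p hp
    rw [hfixw_51]
    exact hfixk_51 p hp
  · intro p hp
    rw [hfixw_52]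
    exact hfixk_52 p hp
  · intro p hp
    rw [hfixw_53]
    exact hfixk_53 p hp
  · intro p hp
    rw [hfixw_54]
    exact hfixk_54 p hp
  · intro p hp
    rw [hfixw_55]
    exact hfixk_55 p hp
  · intro p hp
    rw [hfixw_56]
    exact hfixk_56 p hp
  · intro p hp
    rw [hfixw_57]
    exact hfixk_57 p hp
  · intro p hp
    rw [hfixw_58]
    exact hfixk_58 p hp

theorem hfix : ∀ b ∈ base, ∀ p < N, wapp px b p = p := by
  intro b hb
  obtain ⟨k, hk, rfl⟩ := List.mem_iff_getElem.mp hb
  have hk' : k < 59 := hk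
  have := hfix_k k hk'
  rw [List.getD_eq_getElem _ _ hk] at this
  exact this

end Cfsg.Agent.Lib.Helper6.Fi223Rep
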