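import Cfsg.Agent.Lib.Helper6.Spor.Fi22U62a

set_option autoImplicit false
set_option maxRecDepth 100000
set_option Elab.async false

namespace Cfsg.Agent.Lib.Helper6.Fi22U62

open Cfsg.Spor Cfsg.Agent.Lib.Helper6.TC Cfsg.Agent.Lib.Helper6.TCD Cfsg.Agent.Lib.Helper6.Simp
open Cfsg.Agent.Lib.Helper6.TCP.Fi22 Cfsg.Agent.Lib.Helper6.DC
open Cfsg.Agent.Lib.Helper1.Hexa

theorem cw_mem (i : ℕ) (hi : i < 8) : cw i ∈ Cfsg.Agent.S1687.subw := by
  interval_cases i <;> simp [cw, Cfsg.Agent.S1687.subw, tw]

theorem mk_mem_of_subw (w : List ℕ) (hw : w ∈ Cfsg.Agent.S1687.subw) :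
    PresentedGroup.mk Rels (wordElt gc w) ∈ H :=
  Subgroup.mem_map_of_mem _ (Subgroup.subset_closure (Cfsg.Agent.S1687.hsw' w hw).2)

theorem el_mem (i : ℕ) : el i ∈ H := by
  by_cases hi : i < 8
  · exact mk_mem_of_subw _ (cw_mem i hi)
  · have : cw i = [] := by
      unfold cw
      rw [List.getD_eq_default _ _ (by simp; omega)]
    unfold el
    rw [this, wordElt_nil, map_one]
    exact Subgroup.one_mem _

theorem za_mem : za ∈ H := mk_mem_of_subw [0] (by simp [Cfsg.Agent.S1687.subw])

theorem za_mul_self : za * za = 1 := by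
  have h := hbase [0, 0] (by decide +kernel)
  rw [show ([0, 0] : List ℕ) = [0] ++ [0] from rfl, wordElt_append, map_mul] at h
  exact h

theorem za_ne_one : za ≠ 1 := by
  intro h
  have h1 : PresentedGroup.mk Rels (wordElt gc [0]) = PresentedGroup.mk Rels (wordElt gc []) := by
    rw [wordElt_nil, map_one]
    exact h
  have h2 := wapp_eq_of_mk [0] [] (by decide) (by decide) h1
  rcases hmove0 with h3 | h3 | h3 | h3 | h3
  · exact h3 (h2 1 (by norm_num))
  · exact h3 (h2 2 (by norm_num))
  · exact h3 (h2 3 (by norm_num))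
  · exact h3 (h2 3509 (by norm_num))
  · exact h3 (h2 3000 (by norm_num))

/-- the subgroup centralises the involution -/
theorem H_le : H ≤ Subgroup.centralizer {za} := by
  show (Subgroup.closure Cfsg.Agent.S1687.S).map (PresentedGroup.mk Rels) ≤ _
  rw [MonoidHom.map_closure, Subgroup.closure_le]
  rintro _ ⟨s, hs, rfl⟩
  obtain ⟨w, hw, rfl⟩ := Cfsg.Agent.S1687.hsw s hs
  rw [SetLike.mem_coe, Subgroup.mem_centralizer_iff]
  intro h hh
  rw [Set.mem_singleton_iff] at hh
  subst hh
  have hl := (Cfsg.Agent.S1687.hsw' w hw).1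
  have h1 := mk_eq_of_wapp (w ++ [0]) (0 :: w)
    (by
      intro c hc
      rw [List.mem_append, List.mem_singleton] at hc
      rcases hc with hc | rfl
      · exact hl c hc
      · decide)
    (by
      intro c hc
      rw [List.mem_cons] at hc
      rcases hc with rfl | hc
      · decide
      · exact hl c hc)
    (hcommW w hw)
  rw [wordElt_append, map_mul, show (0 :: w : List ℕ) = [0] ++ w from rfl, wordElt_append,
    map_mul] at h1
  exact h1.symm

/-- the generators of the unitary group as elements of the subgroup -/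
noncomputable def s (i : ℕ) : H := ⟨el i, el_mem i⟩

/-- the central involution as an element of the subgroup -/
noncomputable def a' : H := ⟨za, za_mem⟩

theorem coe_prod_s (b : List ℕ) :
    ((b.map s).prod : H).val = PresentedGroup.mk Rels (wordElt gc (expand b)) := by
  rw [← prod_el]
  have e : ((b.map s).prod : H).val = H.subtype (b.map s).prod := rfl
  rw [e, map_list_prod, List.map_map]
  rfl

theorem prod_s_eq_one (b : List ℕ) (hb : b ∈ TCP.U62.base) (hb' : b ≠ rA) :
    (b.map s).prod = 1 := by
  apply Subtype.ext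
  rw [coe_prod_s]
  have h := mk_eq_of_wapp (expand b) [] (hlt b hb) (by simp)
    (fun p hp => by rw [hchk1 b hb hb' p hp]; rfl)
  rw [h, wordElt_nil, map_one]
  rfl

theorem prod_s_rA : (rA.map s).prod = a' := by
  apply Subtype.ext
  rw [coe_prod_s]
  exact mk_eq_of_wapp (expand rA) [0] hltA (by decide) hchkA

theorem a'_mul_self : a' * a' = 1 := Subtype.ext za_mul_self

theorem a'_ne_one : a' ≠ 1 := fun h => za_ne_one (congrArg Subtype.val h)

theorem a'_central : a' ∈ Subgroup.center H := by
  rw [Subgroup.mem_center_iff]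
  intro g
  apply Subtype.ext
  have h := Subgroup.mem_centralizer_iff.mp (H_le g.2) za (Set.mem_singleton _)
  exact h.symm

/-- the subgroup of order two -/
noncomputable abbrev N : Subgroup H := Subgroup.zpowers a'

instance : (N).Normal :=
  normal_of_le_center' (by rw [Subgroup.zpowers_le]; exact a'_central)

/-- the images of the generators in the quotient -/
noncomputable def fq (i : ℕ) : H ⧸ N := QuotientGroup.mk (s i)

theorem hrelq : ∀ b ∈ TCP.U62.base, (b.map fq).prod = 1 := by
  intro b hb
  have e : (b.map fq).prod = QuotientGroup.mk' N (b.map s).prod := by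
    rw [map_list_prod, List.map_map]
    rfl
  rw [e]
  by_cases hb' : b = rA
  · rw [hb', prod_s_rA, QuotientGroup.mk'_apply, QuotientGroup.eq_one_iff]
    exact Subgroup.mem_zpowers a'
  · rw [prod_s_eq_one b hb hb', map_one]

/-- the homomorphism from the presented unitary group to the quotient -/
noncomputable def gamma : TCP.U62.G →* H ⧸ N := wgHom fq TCP.U62.hbl hrelq

theorem gamma_of (i : Fin 8) :
    gamma (PresentedGroup.mk (wrels 8 TCP.U62.base) (FreeGroup.of i)) = fq i.val :=
  wgHom_of fq TCP.U62.hbl hrelq i

theorem gamma_ne : gamma (PresentedGroup.mk (wrels 8 TCP.U62.base) (FreeGroup.of ⟨0, by decide⟩)) ≠ 1 := by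
  rw [gamma_of]
  intro h
  have h1 : s 0 ∈ N := by
    rw [← QuotientGroup.eq_one_iff]
    exact h
  rcases mem_zpowers_of_sq a'_mul_self h1 with h2 | h2
  · have h3 : PresentedGroup.mk Rels (wordElt gc [2]) = PresentedGroup.mk Rels (wordElt gc []) := by
      rw [wordElt_nil, map_one]
      exact congrArg Subtype.val h2
    have h4 := wapp_eq_of_mk [2] [] (by decide) (by decide) h3
    rcases hmove2.1 with h5 | h5 | h5 | h5 | h5
    · exact h5 (h4 0 (by norm_num))
    · exact h5 (h4 1 (by norm_num))
    · exact h5 (h4 2 (by norm_num))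
    · exact h5 (h4 3 (by norm_num))
    · exact h5 (h4 3509 (by norm_num))
  · have h3 : PresentedGroup.mk Rels (wordElt gc [2]) = PresentedGroup.mk Rels (wordElt gc [0]) :=
      congrArg Subtype.val h2
    have h4 := wapp_eq_of_mk [2] [0] (by decide) (by decide) h3
    rcases hmove2.2 with h5 | h5 | h5 | h5 | h5
    · exact h5 (h4 0 (by norm_num))
    · exact h5 (h4 1 (by norm_num))
    · exact h5 (h4 2 (by norm_num))
    · exact h5 (h4 3 (by norm_num))
    · exact h5 (h4 3509 (by norm_num))

theorem card_H : Nat.card H = 18393661440 := by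
  have h1 := Subgroup.card_mul_index H
  have hidx : H.index = 3510 := Cfsg.Agent.S1687.result.1
  obtain ⟨_, _, _, _, hcard, _⟩ := Fi22Ord.rep
  rw [hidx, hcard] at h1
  have h2 : Nat.card H * 3510 = 18393661440 * 3510 := by rw [h1]
  exact Nat.eq_of_mul_eq_mul_right (by norm_num) h2

instance : Finite H := Nat.finite_of_card_ne_zero (by rw [card_H]; norm_num)

theorem card_N : Nat.card N = 2 := by
  rw [Nat.card_zpowers]
  exact orderOf_eq_prime (by rw [pow_two]; exact a'_mul_self) a'_ne_one

theorem card_Q : Nat.card (H ⧸ N) = 9196830720 := by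
  have h := Subgroup.card_eq_card_quotient_mul_card_subgroup N
  rw [card_H, card_N] at h
  omega

theorem gamma_bijective : Function.Bijective gamma := by
  have hinj : Function.Injective gamma :=
    injective_of_simple gamma U62Simple.simple.1 gamma_ne
  have hfin : Finite TCP.U62.G :=
    Nat.finite_of_card_ne_zero (by rw [U62Simple.simple.2]; norm_num)
  rw [Nat.bijective_iff_injective_and_card]
  exact ⟨hinj, by rw [U62Simple.simple.2, card_Q]⟩

theorem ne_rA_of_length {b : List ℕ} (h : b.length < 30) : b ≠ rA := by
  intro e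
  rw [e] at h
  revert h
  decide

/-- the images of two generators in a commutative quotient are equal if they are joined -/
theorem ab_eq {A : Type*} [CommGroup A] (π : H →* A) (i j : ℕ)
    (hi : [i, i] ∈ TCP.U62.base) (hj : [j, j] ∈ TCP.U62.base)
    (hij : [i, j, i, j, i, j] ∈ TCP.U62.base) : π (s i) = π (s j) := by
  have e1 := prod_s_eq_one [i, i] hi (ne_rA_of_length (by simp))
  have e2 := prod_s_eq_one [j, j] hj (ne_rA_of_length (by simp))
  have e3 := prod_s_eq_one [i, j, i, j, i, j] hij (ne_rA_of_length (by simp))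
  simp only [List.map_cons, List.map_nil, List.prod_cons, List.prod_nil, mul_one] at e1 e2 e3
  apply eq_of_braid
  · rw [← map_mul, e1, map_one]
  · rw [← map_mul, e2, map_one]
  · rw [← map_mul, ← map_pow, pow_succ, pow_two]
    have : s i * s j * (s i * s j) * (s i * s j) = s i * (s j * (s i * (s j * (s i * s j)))) := by
      group
    rw [this, e3, map_one]

/-- the central involution lies in the commutator subgroup -/
theorem a'_mem_commutator : a' ∈ commutator H := by
  rw [← Abelianization.ker_of, MonoidHom.mem_ker]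
  set π := (Abelianization.of : H →* Abelianization H) with hπ
  have h01 : π (s 0) = π (s 1) := ab_eq π 0 1 (by decide +kernel) (by decide +kernel) (by decide +kernel)
  have h12 : π (s 1) = π (s 2) := ab_eq π 1 2 (by decide +kernel) (by decide +kernel) (by decide +kernel)
  have h15 : π (s 1) = π (s 5) := ab_eq π 1 5 (by decide +kernel) (by decide +kernel) (by decide +kernel)
  have h56 : π (s 5) = π (s 6) := ab_eq π 5 6 (by decide +kernel) (by decide +kernel) (by decide +kernel)
  have h67 : π (s 6) = π (s 7) := ab_eq π 6 7 (by decide +kernel) (by decide +kernel) (by decide +kernel)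
  have hsq : π (s 0) * π (s 0) = 1 := by
    have e1 := prod_s_eq_one [0, 0] (by decide +kernel) (by decide)
    simp only [List.map_cons, List.map_nil, List.prod_cons, List.prod_nil, mul_one] at e1
    rw [← map_mul, e1, map_one]
  rw [← prod_s_rA, map_list_prod]
  simp only [rA, List.replicate, List.flatten_cons, List.flatten_nil, List.cons_append,
    List.nil_append, List.append_nil, List.map_cons, List.map_nil, List.prod_cons, List.prod_nil,
    mul_one]
  rw [← h67, ← h56, ← h15, ← h12, ← h01]
  have h6 : ∀ x : Abelianization H, x * x = 1 →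
      x * (x * (x * (x * (x * (x * (x * (x * (x * (x * (x * (x * (x * (x * (x * (x * (x * (x * (x *
        (x * (x * (x * (x * (x * (x * (x * (x * (x * (x * x)))))))))))))))))))))))))))) = 1 := by
    intro x hx
    simp only [hx, mul_one]
  exact h6 _ hsq

/-- the subgroup is a non-split double cover of the unitary group -/
theorem nonsplit : Cfsg.IsNonsplitDoubleCover H (Cfsg.PSU 6 F4 2) := by
  have hZU : Subgroup.center TCP.U62.G = ⊥ := by
    haveI : Finite TCP.U62.G :=
      Nat.finite_of_card_ne_zero (by rw [U62Simple.simple.2]; norm_num)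
    haveI := U62Simple.simple.1
    exact center_eq_bot_of_simple (by rw [U62Simple.simple.2]; norm_num)
  exact nonsplit_of_quotient a' a'_central a'_mul_self a'_ne_one N rfl gamma gamma_bijective hZU
    U62Mat.iso a'_mem_commutator

end Cfsg.Agent.Lib.Helper6.Fi22U62
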