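import Cfsg.Agent.Lib.Helper6.Spor.Fi22Ord
import Cfsg.Agent.Lib.Helper6.Spor.U62Mat
import Cfsg.Agent.Lib.Helper6.DC2

set_option autoImplicit false
set_option maxRecDepth 100000
set_option Elab.async false

namespace Cfsg.Agent.Lib.Helper6.Fi22U62

open Cfsg.Spor Cfsg.Agent.Lib.Helper6.TC Cfsg.Agent.Lib.Helper6.TCD Cfsg.Agent.Lib.Helper6.Simp
open Cfsg.Agent.Lib.Helper6.TCP.Fi22 Cfsg.Agent.Lib.Helper6.DC
open Cfsg.Agent.Lib.Helper1.Hexa

/-! # The subgroup of index 3510 of the presented Fischer group `Fi₂₂` is a non-split double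
cover of the unitary group `PSU(6, 2)` -/

/-- the subgroup -/
abbrev H : Subgroup Fi22 := subH Rels Cfsg.Agent.S1687.S

/-- two words with the same action on the 3510 points give the same element -/
theorem mk_eq_of_wapp (A B : List ℕ) (hA : ∀ c ∈ A, c < 9) (hB : ∀ c ∈ B, c < 9)
    (h : ∀ p < 3510, wapp Fi22a.px A p = wapp Fi22a.px B p) :
    PresentedGroup.mk Rels (wordElt gc A) = PresentedGroup.mk Rels (wordElt gc B) := by
  obtain ⟨φ, hw, _, hinj, _, _⟩ := Fi22Ord.rep
  apply hinj
  apply inv_injective
  ext p
  rw [hw A hA p, hw B hB p]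
  exact h p.val p.isLt

/-- two words giving the same element have the same action on the 3510 points -/
theorem wapp_eq_of_mk (A B : List ℕ) (hA : ∀ c ∈ A, c < 9) (hB : ∀ c ∈ B, c < 9)
    (h : PresentedGroup.mk Rels (wordElt gc A) = PresentedGroup.mk Rels (wordElt gc B))
    (p : ℕ) (hp : p < 3510) : wapp Fi22a.px A p = wapp Fi22a.px B p := by
  obtain ⟨φ, hw, _, _, _, _⟩ := Fi22Ord.rep
  have h1 := hw A hA ⟨p, hp⟩
  have h2 := hw B hB ⟨p, hp⟩
  rw [h] at h1
  exact h1.symm.trans h2

/-- the word of `(a b c d e h) ^ 5` -/
def tw : List ℕ := (List.replicate 5 Cfsg.Agent.S1687.v).flatten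

/-- the words of the generators `c, d, e, f, g, h, i, t` of the unitary group -/
def cw (i : ℕ) : List ℕ := [[2], [3], [4], [5], [6], [7], [8], tw].getD i []

/-- a word in the generators of the unitary group as a word in the generators of `Fi₂₂` -/
def expand (b : List ℕ) : List ℕ := (b.map cw).flatten

theorem expand_cons (c : ℕ) (b : List ℕ) : expand (c :: b) = cw c ++ expand b := by
  unfold expand
  rw [List.map_cons, List.flatten_cons]

/-- the generators of the unitary group in `Fi₂₂` -/
noncomputable def el (i : ℕ) : Fi22 := PresentedGroup.mk Rels (wordElt gc (cw i))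

/-- the central involution -/
noncomputable def za : Fi22 := PresentedGroup.mk Rels (wordElt gc [0])

theorem prod_el (b : List ℕ) :
    (b.map el).prod = PresentedGroup.mk Rels (wordElt gc (expand b)) := by
  induction b with
  | nil => simp [expand, wordElt_nil]
  | cons c b ih =>
    rw [List.map_cons, List.prod_cons, ih, expand_cons, wordElt_append, map_mul]
    rfl

theorem hlt : ∀ b ∈ TCP.U62.base, ∀ c ∈ expand b, c < 9 := by decide +kernel

/-- the relator of the unitary group whose value is the central involution -/
def rA : List ℕ := (List.replicate 5 [0, 1, 2, 5, 6, 7]).flatten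

theorem hrA : rA ∈ TCP.U62.base := by decide +kernel

theorem hltA : ∀ c ∈ expand rA, c < 9 := hlt rA hrA

/-- the check that a word fixes all the points -/
noncomputable def chkId (w : List ℕ) : Bool :=
  allB (fun p => Nat.beq (wapp Fi22a.px w p) p) 3510

theorem chkId_spec {w : List ℕ} (h : chkId w = true) : ∀ p < 3510, wapp Fi22a.px w p = p :=
  fun p hp => Nat.eq_of_beq_eq_true (allB_spec h p hp)

/-- the check that a word acts as the central involution -/
noncomputable def chkA (w : List ℕ) : Bool :=
  allB (fun p => Nat.beq (wapp Fi22a.px w p) (wapp Fi22a.px [0] p)) 3510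

theorem chkA_spec {w : List ℕ} (h : chkA w = true) :
    ∀ p < 3510, wapp Fi22a.px w p = wapp Fi22a.px [0] p :=
  fun p hp => Nat.eq_of_beq_eq_true (allB_spec h p hp)

/-- the check of the relator of a given index -/
noncomputable def chkRel (j : ℕ) : Bool :=
  chkId (expand (TCP.U62.base.getD j []))

theorem hk0 : chkRel 0 = true := by decide +kernel

theorem hk1 : chkRel 1 = true := by decide +kernel

theorem hk2 : chkRel 2 = true := by decide +kernel

theorem hk3 : chkRel 3 = true := by decide +kernel

theorem hk4 : chkRel 4 = true := by decide +kernel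

theorem hk5 : chkRel 5 = true := by decide +kernel

theorem hk6 : chkRel 6 = true := by decide +kernel

theorem hk7 : chkRel 7 = true := by decide +kernel

theorem hk8 : chkRel 8 = true := by decide +kernel

theorem hk9 : chkRel 9 = true := by decide +kernel

theorem hk10 : chkRel 10 = true := by decide +kernel

theorem hk11 : chkRel 11 = true := by decide +kernel

theorem hk12 : chkRel 12 = true := by decide +kernel

theorem hk13 : chkRel 13 = true := by decide +kernel

theorem hk14 : chkRel 14 = true := by decide +kernel

theorem hk15 : chkRel 15 = true := by decide +kernel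

theorem hk16 : chkRel 16 = true := by decide +kernel

theorem hk17 : chkRel 17 = true := by decide +kernel

theorem hk18 : chkRel 18 = true := by decide +kernel

theorem hk19 : chkRel 19 = true := by decide +kernel

theorem hk20 : chkRel 20 = true := by decide +kernel

theorem hk21 : chkRel 21 = true := by decide +kernel

theorem hk22 : chkRel 22 = true := by decide +kernel

theorem hk23 : chkRel 23 = true := by decide +kernel

theorem hk24 : chkRel 24 = true := by decide +kernel

theorem hk25 : chkRel 25 = true := by decide +kernel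

theorem hk26 : chkRel 26 = true := by decide +kernel

theorem hk27 : chkRel 27 = true := by decide +kernel

theorem hk28 : chkRel 28 = true := by decide +kernel

theorem hk29 : chkRel 29 = true := by decide +kernel

theorem hk30 : chkRel 30 = true := by decide +kernel

theorem hk31 : chkRel 31 = true := by decide +kernel

theorem hk32 : chkRel 32 = true := by decide +kernel

theorem hk33 : chkRel 33 = true := by decide +kernel

theorem hk34 : chkRel 34 = true := by decide +kernel

theorem hk35 : chkRel 35 = true := by decide +kernel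

theorem hk36 : chkRel 36 = true := by decide +kernel

theorem hk38 : chkRel 38 = true := by decide +kernel

theorem hk39 : chkRel 39 = true := by decide +kernel

theorem hk40 : chkRel 40 = true := by decide +kernel

theorem hk41 : chkRel 41 = true := by decide +kernel

theorem hk42 : chkRel 42 = true := by decide +kernel

theorem hk43 : chkRel 43 = true := by decide +kernel

theorem hk44 : chkRel 44 = true := by decide +kernel

theorem hk45 : chkRel 45 = true := by decide +kernel

theorem hk46 : chkRel 46 = true := by decide +kernel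

theorem hk47 : chkRel 47 = true := by decide +kernel

theorem hk48 : chkRel 48 = true := by decide +kernel

theorem hk49 : chkRel 49 = true := by decide +kernel

theorem hk50 : chkRel 50 = true := by decide +kernel

theorem hk51 : chkRel 51 = true := by decide +kernel

theorem hkA : chkA (expand rA) = true := by decide +kernel

theorem hrA37 : TCP.U62.base.getD 37 [] = rA := by decide +kernel

theorem hlen : TCP.U62.base.length = 52 := by decide +kernel

theorem hchk_idx : ∀ j < 52, j ≠ 37 → chkRel j = true := by
  intro j hj h37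
  interval_cases j
  · exact hk0
  · exact hk1
  · exact hk2
  · exact hk3
  · exact hk4
  · exact hk5
  · exact hk6
  · exact hk7
  · exact hk8
  · exact hk9
  · exact hk10
  · exact hk11
  · exact hk12
  · exact hk13
  · exact hk14
  · exact hk15
  · exact hk16
  · exact hk17
  · exact hk18
  · exact hk19
  · exact hk20
  · exact hk21
  · exact hk22
  · exact hk23
  · exact hk24
  · exact hk25
  · exact hk26
  · exact hk27
  · exact hk28
  · exact hk29
  · exact hk30
  · exact hk31
  · exact hk32
  · exact hk33
  · exact hk34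
  · exact hk35
  · exact hk36
  · exact absurd rfl h37
  · exact hk38
  · exact hk39
  · exact hk40
  · exact hk41
  · exact hk42
  · exact hk43
  · exact hk44
  · exact hk45
  · exact hk46
  · exact hk47
  · exact hk48
  · exact hk49
  · exact hk50
  · exact hk51

theorem hchk1 : ∀ b ∈ TCP.U62.base, b ≠ rA → ∀ p < 3510, wapp Fi22a.px (expand b) p = p := by
  intro b hb hne
  obtain ⟨j, hj, rfl⟩ := List.mem_iff_getElem.mp hb
  have hj' : j < 52 := by rw [← hlen]; exact hj
  have hg : TCP.U62.base.getD j [] = TCP.U62.base[j] := List.getD_eq_getElem _ _ hj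
  have h37 : j ≠ 37 := by
    intro h
    subst h
    apply hne
    exact hg.symm.trans hrA37
  have h := hchk_idx j hj' h37
  unfold chkRel at h
  rw [hg] at h
  exact chkId_spec h

theorem hchkA : ∀ p < 3510, wapp Fi22a.px (expand rA) p = wapp Fi22a.px [0] p := chkA_spec hkA

theorem hcommW : ∀ w ∈ Cfsg.Agent.S1687.subw, ∀ p < 3510,
    wapp Fi22a.px (w ++ [0]) p = wapp Fi22a.px (0 :: w) p := by
  decide +kernel

theorem hmove0 : wapp Fi22a.px [0] 1 ≠ 1 ∨ wapp Fi22a.px [0] 2 ≠ 2 ∨ wapp Fi22a.px [0] 3 ≠ 3 ∨
    wapp Fi22a.px [0] 3509 ≠ 3509 ∨ wapp Fi22a.px [0] 3000 ≠ 3000 := by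
  decide +kernel

theorem hmove2 : (wapp Fi22a.px [2] 0 ≠ 0 ∨ wapp Fi22a.px [2] 1 ≠ 1 ∨ wapp Fi22a.px [2] 2 ≠ 2 ∨
    wapp Fi22a.px [2] 3 ≠ 3 ∨ wapp Fi22a.px [2] 3509 ≠ 3509) ∧
    (wapp Fi22a.px [2] 0 ≠ wapp Fi22a.px [0] 0 ∨ wapp Fi22a.px [2] 1 ≠ wapp Fi22a.px [0] 1 ∨
     wapp Fi22a.px [2] 2 ≠ wapp Fi22a.px [0] 2 ∨ wapp Fi22a.px [2] 3 ≠ wapp Fi22a.px [0] 3 ∨
     wapp Fi22a.px [2] 3509 ≠ wapp Fi22a.px [0] 3509) := by
  decide +kernel

end Cfsg.Agent.Lib.Helper6.Fi22U62
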