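import Cfsg.Agent.S1689
import Cfsg.Agent.Lib.Helper6.WP3
import Cfsg.Agent.Lib.Helper6.TCP.Fi23
import Cfsg.Agent.Lib.Helper6.TCD.Fi23U1.Idx
import Cfsg.Agent.Lib.Helper6.TCD.Fi23U2.Idx
import Cfsg.Agent.Lib.Helper6.TCD.Fi23U3.Idx
import Cfsg.Agent.Lib.Helper6.TCD.Fi23U4.Idx
import Cfsg.Agent.Lib.Helper6.TCD.Fi23U5.Idx
import Cfsg.Agent.Lib.Helper6.TCD.Fi23U6.Idx

set_option autoImplicit false
set_option maxRecDepth 100000

namespace Cfsg.Agent.Lib.Helper6.Fi23UB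

open Cfsg.Spor Cfsg.Agent.Lib.Helper6.TC Cfsg.Agent.Lib.Helper6.TCD

/-! # The upper bound for the order of the presented group Fi23 -/

theorem u6 : Finite (WG 4 Fi23U6.base) ∧ Nat.card (WG 4 Fi23U6.base) ≤ 192 :=
  wp_bottom Fi23U6.idx

theorem u5 : Finite (WG 5 Fi23U5.base) ∧ Nat.card (WG 5 Fi23U5.base) ≤ 10 * (192) :=
  wp_step (k := 5) (k' := 4) (fun i => [0, 1, 2, 4].getD i 0) Fi23U5.idx (by decide) Fi23U6.hbl
    (by decide +kernel) u6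

theorem u4 : Finite (WG 6 Fi23U4.base) ∧ Nat.card (WG 6 Fi23U4.base) ≤ 27 * (10 * (192)) :=
  wp_step (k := 6) (k' := 5) (fun i => [1, 2, 3, 4, 5].getD i 0) Fi23U4.idx (by decide) Fi23U5.hbl
    (by decide +kernel) u5

theorem u3 : Finite (WG 7 Fi23U3.base) ∧ Nat.card (WG 7 Fi23U3.base) ≤ 243 * (27 * (10 * (192))) :=
  wp_step (k := 7) (k' := 6) (fun i => i) Fi23U3.idx (by decide) Fi23U4.hbl
    (by decide +kernel) u4

theorem u2 : Finite (WG 8 Fi23U2.base) ∧ Nat.card (WG 8 Fi23U2.base) ≤ 728 * (243 * (27 * (10 * (192)))) :=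
  wp_step (k := 8) (k' := 7) (fun i => [0, 1, 2, 3, 4, 6, 7].getD i 0) Fi23U2.idx (by decide) Fi23U3.hbl
    (by decide +kernel) u3

theorem u1 : Finite (WG 9 Fi23U1.base) ∧ Nat.card (WG 9 Fi23U1.base) ≤ 14080 * (728 * (243 * (27 * (10 * (192))))) :=
  wp_step (k := 9) (k' := 8) (fun i => [1, 2, 3, 4, 5, 6, 7, 8].getD i 0) Fi23U1.idx (by decide) Fi23U2.hbl
    (by decide +kernel) u2

/-- the set of the generators of the subgroup of index 31671 -/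
abbrev S : Set (FreeGroup Fi23.Gen) := {Fi23.a, Fi23.b, Fi23.c, Fi23.d, Fi23.e, Fi23.f, Fi23.g, Fi23.h, Fi23.i}

theorem hS : ∀ s ∈ S, ∃ i < 9, s = ceOf TCP.Fi23.gc ((fun i => [0, 1, 2, 3, 4, 5, 6, 8, 9].getD i 0) i) := by
  intro s hs
  simp only [S, Set.mem_insert_iff, Set.mem_singleton_iff] at hs
  rcases hs with rfl | rfl | rfl | rfl | rfl | rfl | rfl | rfl | rfl
  · exact ⟨0, by decide, rfl⟩
  · exact ⟨1, by decide, rfl⟩
  · exact ⟨2, by decide, rfl⟩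
  · exact ⟨3, by decide, rfl⟩
  · exact ⟨4, by decide, rfl⟩
  · exact ⟨5, by decide, rfl⟩
  · exact ⟨6, by decide, rfl⟩
  · exact ⟨7, by decide, rfl⟩
  · exact ⟨8, by decide, rfl⟩

theorem card_le : Finite Fi23 ∧ Nat.card Fi23 ≤ 4089470473293004800 := by
  have hidx : (subH TCP.Fi23.Rels S).index = 31671 := Cfsg.Agent.S1689.result.1
  have h := top_step (rels := TCP.Fi23.Rels) (gc := TCP.Fi23.gc) (S := S) (k' := 9)
    (base := TCP.Fi23.base) (base' := Fi23U1.base) (fun i => [0, 1, 2, 3, 4, 5, 6, 8, 9].getD i 0)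
    ⟨hidx.le, by rw [hidx]; decide⟩ TCP.Fi23.hbase hS Fi23U1.hbl (by decide +kernel) u1
  exact ⟨h.1, h.2.trans (by norm_num)⟩

end Cfsg.Agent.Lib.Helper6.Fi23UB
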