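import Cfsg.Agent.S1690
import Cfsg.Agent.Lib.Helper6.Simp1

set_option autoImplicit false

namespace Cfsg.Agent.Lib.Helper6.Fi24Orb

open Cfsg.Spor Cfsg.Agent.Lib.Helper6.TC Cfsg.Agent.Lib.Helper6.TCP.Fi24 Cfsg.Agent.Lib.Helper6.TCD.Fi24a
open Cfsg.Agent.S1690

/-! # The action of the presented group Fi24 on the 306936 cosets of the subgroup generated by
all the generators but `k`: the suborbits, the stabiliser -/

section helpers
set_option maxRecDepth 100000
set_option linter.unusedSimpArgs false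

theorem hlab : ∀ w ∈ subw, ∀ p < N, lab (wapp px w p) = lab p := by
  intro w hw
  simp only [subw, List.mem_cons, List.mem_nil_iff, or_false] at hw
  rcases hw with rfl | rfl | rfl | rfl | rfl | rfl | rfl | rfl | rfl | rfl | rfl
  · exact chkLab_spec chkLab0
  · exact chkLab_spec chkLab1
  · exact chkLab_spec chkLab2
  · exact chkLab_spec chkLab3
  · exact chkLab_spec chkLab4
  · exact chkLab_spec chkLab5
  · exact chkLab_spec chkLab6
  · exact chkLab_spec chkLab7
  · exact chkLab_spec chkLab8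
  · exact chkLab_spec chkLab9
  · exact chkLab_spec chkLab10

theorem hsel_mem : ∀ k p, ∃ w ∈ subw, hsel k p = wapp px w p := by
  intro k p
  match k with
  | 0 => exact ⟨_, List.getElem_mem (l := subw) (n := 0) (by decide), rfl⟩
  | 1 => exact ⟨_, List.getElem_mem (l := subw) (n := 1) (by decide), rfl⟩
  | 2 => exact ⟨_, List.getElem_mem (l := subw) (n := 2) (by decide), rfl⟩
  | 3 => exact ⟨_, List.getElem_mem (l := subw) (n := 3) (by decide), rfl⟩
  | 4 => exact ⟨_, List.getElem_mem (l := subw) (n := 4) (by decide), rfl⟩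
  | 5 => exact ⟨_, List.getElem_mem (l := subw) (n := 5) (by decide), rfl⟩
  | 6 => exact ⟨_, List.getElem_mem (l := subw) (n := 6) (by decide), rfl⟩
  | 7 => exact ⟨_, List.getElem_mem (l := subw) (n := 7) (by decide), rfl⟩
  | 8 => exact ⟨_, List.getElem_mem (l := subw) (n := 8) (by decide), rfl⟩
  | 9 => exact ⟨_, List.getElem_mem (l := subw) (n := 9) (by decide), rfl⟩
  | (k + 10) => exact ⟨_, List.getElem_mem (l := subw) (n := 10) (by decide), rfl⟩

theorem isRoot_cases {p : ℕ} (h : isRoot p = true) : p = 0 ∨ p = 1 ∨ p = 6 := by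
  unfold isRoot at h
  rw [brec_beq] at h
  by_cases h0 : p = 0
  · exact Or.inl h0
  · rw [if_neg h0] at h
    rw [brec_beq] at h
    by_cases h1 : p = 1
    · exact Or.inr (Or.inl h1)
    · rw [if_neg h1] at h
      rw [brec_beq] at h
      by_cases h2 : p = 6
      · exact Or.inr (Or.inr (h2))
      · rw [if_neg h2] at h
        exact absurd h (by simp)

theorem lab_r0 : lab 0 = 0 := by decide +kernel
theorem lab_r1 : lab 1 = 1 := by decide +kernel
theorem lab_r2 : lab 6 = 2 := by decide +kernel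

theorem htreeH (p0 : ℕ) (hp0 : p0 = 0 ∨ p0 = 1 ∨ p0 = 6) :
    ∀ p < N, lab p = lab p0 → p ≠ p0 → ∃ w ∈ subw, rnk (wapp px w p) < rnk p := by
  intro p hp hl hne
  rcases chkRank_spec chkRk p hp with h | h
  · exfalso
    have := isRoot_cases h
    rcases this with rfl | rfl | rfl <;> rcases hp0 with rfl | rfl | rfl <;>
      simp only [lab_r0, lab_r1, lab_r2] at hl <;> first | exact hne rfl | omega
  · obtain ⟨w, hw, e⟩ := hsel_mem (Nat.land (Nat.shiftRight (HR p) 4) 15) p
    refine ⟨w, hw, ?_⟩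
    rw [← e]
    exact h

end helpers

/-- the subgroup generated by all the generators but `k` -/
abbrev H0 : Subgroup Fi24 := subH Rels S

/-- the permutation representation on the cosets, with the suborbits -/
theorem rep : ∃ φ : Fi24 →* Equiv.Perm (Fin 306936),
    (∀ w, (∀ c ∈ w, c < 12) → ∀ p : Fin 306936,
      ((φ (PresentedGroup.mk Rels (wordElt gc w)))⁻¹ p).val = wapp px w p.val) ∧
    (∀ h ∈ H0, φ h ⟨0, by decide⟩ = ⟨0, by decide⟩) ∧
    (∀ p : Fin 306936, ∃ g, φ g ⟨0, by decide⟩ = p) ∧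
    H0.index = 306936 ∧
    ∃ q₁ q₂ : Fi24 ⧸ H0, (MulAction.orbit H0 q₁).ncard = 275264 ∧
      (MulAction.orbit H0 q₂).ncard = 31671 := by
  obtain ⟨φ, hw, hfixH, htrans⟩ := perm_rep (rels := Rels) (S := S) hP hC (rel_cover hP hfix) hsubP htree
  obtain ⟨hidx, F, hF⟩ := index_eq hP.Npos hfixH htrans idx_le.1 idx_le.2
  refine ⟨φ, hw, hfixH, htrans, hidx, F.symm ⟨1, by decide⟩, F.symm ⟨6, by decide⟩, ?_, ?_⟩
  · have h1 := orbit_spec hF hw subw hsw hsw' lab rnk 1 (by decide) hlab (htreeH 1 (by simp))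
    have h2 := orbit_ncard lab 1 (by decide) h1
    rw [lab_r1, ← cntLab_eq] at h2
    exact h2.trans chkCnt1
  · have h1 := orbit_spec hF hw subw hsw hsw' lab rnk 6 (by decide) hlab (htreeH 6 (by simp))
    have h2 := orbit_ncard lab 6 (by decide) h1
    rw [lab_r2, ← cntLab_eq] at h2
    exact h2.trans chkCnt2

/-- the subgroup is maximal -/
theorem hmax : ∀ M : Subgroup Fi24, H0 ≤ M → M = H0 ∨ M = ⊤ := by
  obtain ⟨φ, hw, hfixH, htrans, hidx, q₁, q₂, h1, h2⟩ := rep
  exact Cfsg.Agent.Lib.Helper6.Simp.coatom_of_rank3 _ hidx q₁ q₂ h1 h2 (by norm_num) (by norm_num)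
    (by norm_num) (by norm_num) (by norm_num) (by norm_num)

end Cfsg.Agent.Lib.Helper6.Fi24Orb
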