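import Cfsg.Agent.Lib.Helper6.Spor.Fi24Theta
import Cfsg.Agent.Lib.Helper6.Spor.Fi24Orb
import Cfsg.Agent.Lib.Helper6.IdxTwo
import Cfsg.Agent.Lib.Helper6.Rank3Reg
import Cfsg.Agent.S1697

set_option autoImplicit false

namespace Cfsg.Agent.Lib.Helper6.Fi24H0

open Cfsg.Spor Cfsg.Agent.Lib.Helper6.TC
open Cfsg.Agent.Lib.Helper6.TCP.Fi24 Cfsg.Agent.Lib.Helper6.TCD.Fi24a
open Cfsg.Agent.Lib.Helper6.Fi24Theta Cfsg.Agent.Lib.Helper6.Fi24Orb

/-! # The structure of the subgroup `⟨a, …, j, l⟩` of the presented group Fi24, and the order of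
Fi24 -/

section rep

theorem ne_of_wapp {w w' : List ℕ} (hw : ∀ c ∈ w, c < 12) (hw' : ∀ c ∈ w', c < 12) (q : ℕ)
    (hq : q < 306936) (h : wapp px w q ≠ wapp px w' q) :
    PresentedGroup.mk Rels (wordElt gc w) ≠ PresentedGroup.mk Rels (wordElt gc w') := by
  obtain ⟨φ, hφ, _⟩ := rep
  intro e
  apply h
  have h1 := hφ w hw ⟨q, hq⟩
  have h2 := hφ w' hw' ⟨q, hq⟩
  rw [e] at h1
  exact h1.symm.trans h2

theorem fix_of_mem {w : List ℕ} (hw : ∀ c ∈ w, c < 12)
    (h : PresentedGroup.mk Rels (wordElt gc w) ∈ Fi24Orb.H0) : wapp px w 0 = 0 := by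
  obtain ⟨φ, hφ, hfix, _⟩ := rep
  have h1 := hfix _ h
  have h2 := hφ w hw ⟨0, by decide⟩
  have h3 : (φ (PresentedGroup.mk Rels (wordElt gc w)))⁻¹ ⟨0, by decide⟩ = ⟨0, by decide⟩ := by
    rw [Equiv.Perm.inv_eq_iff_eq]
    exact h1.symm
  rw [h3] at h2
  exact h2.symm

theorem X_word (c : ℕ) : PresentedGroup.mk Rels (wordElt gc [c]) = X (gen c) := by
  rw [wordElt_cons, wordElt_nil, mul_one]
  rfl

end rep

section structure'

/-- the image of Fi23 -/
noncomputable abbrev S1 : Subgroup Fi24 := theta.range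

theorem X_mem_H0 (x : Fi24.Gen) (hx : FreeGroup.of x ∈ Cfsg.Agent.S1690.S) : X x ∈ Fi24Orb.H0 :=
  Subgroup.mem_map_of_mem _ (Subgroup.subset_closure hx)

theorem iota_mem (x : Fi23.Gen) : FreeGroup.of (iota x) ∈ Cfsg.Agent.S1690.S := by
  cases x <;> simp [Cfsg.Agent.S1690.S, iota, Fi24.a, Fi24.b, Fi24.c, Fi24.d, Fi24.e, Fi24.f, Fi24.g,
    Fi24.h, Fi24.i, Fi24.j, Fi24.l]

theorem l_mem : FreeGroup.of Fi24.Gen.l ∈ Cfsg.Agent.S1690.S := by
  simp [Cfsg.Agent.S1690.S, Fi24.l]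

theorem L_mem_H0 : L ∈ Fi24Orb.H0 := X_mem_H0 _ l_mem

theorem S1_le : S1 ≤ Fi24Orb.H0 := by
  rintro _ ⟨y, rfl⟩
  obtain ⟨w, rfl⟩ := PresentedGroup.mk_surjective _ y
  have h : (FreeGroup.lift f).range ≤ Fi24Orb.H0 := by
    apply FreeGroup.range_lift_le
    rintro _ ⟨x, rfl⟩
    exact Fi24Orb.H0.mul_mem (X_mem_H0 _ (iota_mem x)) L_mem_H0
  exact h ⟨w, rfl⟩

/-- every generator of the subgroup is `l` or `x` with `x l` an image -/
theorem gens_cases : ∀ s ∈ Cfsg.Agent.S1690.S,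
    PresentedGroup.mk Rels s = L ∨ ∃ x : Fi23.Gen, PresentedGroup.mk Rels s = X (iota x) := by
  intro s hs
  simp only [Cfsg.Agent.S1690.S, Set.mem_insert_iff, Set.mem_singleton_iff] at hs
  rcases hs with rfl | rfl | rfl | rfl | rfl | rfl | rfl | rfl | rfl | rfl | rfl
  · exact Or.inr ⟨.a, rfl⟩
  · exact Or.inr ⟨.b, rfl⟩
  · exact Or.inr ⟨.c, rfl⟩
  · exact Or.inr ⟨.d, rfl⟩
  · exact Or.inr ⟨.e, rfl⟩
  · exact Or.inr ⟨.f, rfl⟩
  · exact Or.inr ⟨.g, rfl⟩
  · exact Or.inr ⟨.h, rfl⟩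
  · exact Or.inr ⟨.i, rfl⟩
  · exact Or.inr ⟨.j, rfl⟩
  · exact Or.inl rfl

theorem H0_eq : Fi24Orb.H0 = Subgroup.closure ((PresentedGroup.mk Rels) '' Cfsg.Agent.S1690.S) :=
  MonoidHom.map_closure _ _

/-- `l` is central in the subgroup -/
theorem L_central : ∀ h ∈ Fi24Orb.H0, L * h = h * L := by
  intro h hh
  have hle : Fi24Orb.H0 ≤ Subgroup.centralizer ({L} : Set Fi24) := by
    rw [H0_eq, Subgroup.closure_le]
    rintro _ ⟨s, hs, rfl⟩
    rw [SetLike.mem_coe, Subgroup.mem_centralizer_iff]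
    intro z hz
    rw [Set.mem_singleton_iff] at hz
    rw [hz]
    rcases gens_cases s hs with e | ⟨x, e⟩
    · rw [e]
    · rw [e]; exact L_comm x
  have := hle hh
  rw [Subgroup.mem_centralizer_iff] at this
  exact this L rfl

theorem theta_mem (x : Fi23.Gen) : X (iota x) * L ∈ S1 := ⟨PresentedGroup.of x, theta_of x⟩

/-- every element of the subgroup is in the image of Fi23, up to `l` -/
theorem hdec : ∀ h ∈ Fi24Orb.H0, h ∈ S1 ∨ h * L ∈ S1 := by
  intro h hh
  have hc := L_central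
  rw [H0_eq] at hh
  induction hh using Subgroup.closure_induction with
  | mem y hy =>
    obtain ⟨s, hs, rfl⟩ := hy
    rcases gens_cases s hs with e | ⟨x, e⟩
    · right; rw [e, L_sq]; exact S1.one_mem
    · right; rw [e]; exact theta_mem x
  | one => exact Or.inl S1.one_mem
  | mul a b ha hb iha ihb =>
    have hbH : b ∈ Fi24Orb.H0 := by rw [H0_eq]; exact hb
    have hLb := hc b hbH
    rcases iha with h1 | h1 <;> rcases ihb with h2 | h2
    · exact Or.inl (S1.mul_mem h1 h2)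
    · right; rw [mul_assoc]; exact S1.mul_mem h1 h2
    · right
      have : a * b * L = (a * L) * b := by rw [mul_assoc, ← hLb, mul_assoc]
      rw [this]; exact S1.mul_mem h1 h2
    · left
      have : a * b = (a * L) * (b * L) := by
        rw [mul_assoc, ← mul_assoc L b L, hLb, mul_assoc b L L, L_sq, mul_one]
      rw [this]; exact S1.mul_mem h1 h2
  | inv a ha iha =>
    have haH : a ∈ Fi24Orb.H0 := by rw [H0_eq]; exact ha
    have hLa := hc a haH
    rcases iha with h1 | h1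
    · exact Or.inl (S1.inv_mem h1)
    · right
      have : a⁻¹ * L = (a * L)⁻¹ := by
        rw [mul_inv_rev, X_inv]
        have hcm : Commute L a := hLa
        exact hcm.inv_right.eq.symm
      rw [this]; exact S1.inv_mem h1

end structure'

section order
set_option maxRecDepth 100000

theorem hm_al : wapp px [2] 1 ≠ wapp px [0] 1 := by decide +kernel
theorem hm_ab : wapp px [2, 3] 1 ≠ wapp px [3, 2] 1 := by decide +kernel
theorem hm_l : wapp px [0] 1 ≠ wapp px [] 1 := by decide +kernel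
theorem hm_klk : wapp px [1, 0, 1] 0 ≠ 0 := by decide +kernel
theorem hm_kabk : wapp px [1, 2, 0, 3, 0, 1] 0 ≠ 0 := by decide +kernel

theorem L_ne_one : L ≠ 1 := by
  have h := ne_of_wapp (w := [0]) (w' := []) (by decide) (by decide) 1 (by decide) hm_l
  rw [X_word, wordElt_nil, map_one] at h
  exact h

theorem A_ne_L : X Fi24.Gen.a ≠ L := by
  have h := ne_of_wapp (w := [2]) (w' := [0]) (by decide) (by decide) 1 (by decide) hm_al
  rw [X_word, X_word] at h
  exact h

theorem AB_ne_BA : X Fi24.Gen.a * X Fi24.Gen.b ≠ X Fi24.Gen.b * X Fi24.Gen.a := by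
  have h := ne_of_wapp (w := [2, 3]) (w' := [3, 2]) (by decide) (by decide) 1 (by decide) hm_ab
  have e1 : ([2, 3] : List ℕ) = [2] ++ [3] := rfl
  have e2 : ([3, 2] : List ℕ) = [3] ++ [2] := rfl
  rw [e1, e2, wordElt_append, wordElt_append, map_mul, map_mul, X_word, X_word] at h
  exact h

instance : IsSimpleGroup Fi23 := Cfsg.Agent.S1697.result.1

theorem theta_injective : Function.Injective theta := by
  rw [← MonoidHom.ker_eq_bot_iff]
  rcases (Cfsg.Agent.S1697.result.1).eq_bot_or_eq_top_of_normal theta.ker inferInstance with h | h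
  · exact h
  · exfalso
    have h1 : (PresentedGroup.of Fi23.Gen.a : Fi23) ∈ theta.ker := by rw [h]; exact Subgroup.mem_top _
    rw [MonoidHom.mem_ker, theta_of] at h1
    apply A_ne_L
    have h2 := eq_inv_of_mul_eq_one_left h1
    rw [X_inv] at h2
    exact h2

instance S1_simple : IsSimpleGroup S1 :=
  (MonoidHom.ofInjective theta_injective).symm.isSimpleGroup

theorem card_S1 : Nat.card S1 = 4089470473293004800 := by
  rw [← Nat.card_congr (MonoidHom.ofInjective theta_injective).toEquiv]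
  exact Cfsg.Agent.S1697.result.2

theorem hnc : ∃ a ∈ S1, ∃ b ∈ S1, a * b ≠ b * a := by
  refine ⟨_, theta_mem .a, _, theta_mem .b, ?_⟩
  have e1 : X (iota .a) * L * (X (iota .b) * L) = X Fi24.Gen.a * X Fi24.Gen.b := by
    rw [mul_assoc, ← mul_assoc L, L_comm .b, mul_assoc, L_sq, mul_one]
    rfl
  have e2 : X (iota .b) * L * (X (iota .a) * L) = X Fi24.Gen.b * X Fi24.Gen.a := by
    rw [mul_assoc, ← mul_assoc L, L_comm .a, mul_assoc, L_sq, mul_one]
    rfl
  rw [e1, e2]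
  exact AB_ne_BA

theorem L_not_mem : L ∉ S1 := by
  intro hL
  have hc : (⟨L, hL⟩ : S1) ∈ Subgroup.center S1 := by
    rw [Subgroup.mem_center_iff]
    intro t
    apply Subtype.ext
    exact (L_central t (S1_le t.2)).symm
  rcases S1_simple.eq_bot_or_eq_top_of_normal (Subgroup.center S1) inferInstance with hz | hz
  · rw [hz, Subgroup.mem_bot] at hc
    exact L_ne_one (congrArg Subtype.val hc)
  · obtain ⟨a, ha, b, hb, hab⟩ := hnc
    apply hab
    have : (⟨a, ha⟩ : S1) ∈ Subgroup.center S1 := by rw [hz]; exact Subgroup.mem_top _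
    rw [Subgroup.mem_center_iff] at this
    exact (congrArg Subtype.val (this ⟨b, hb⟩)).symm

theorem index_S1 : (S1.subgroupOf Fi24Orb.H0).index = 2 := by
  rw [Subgroup.index_eq_two_iff]
  refine ⟨⟨L, L_mem_H0⟩, ?_⟩
  intro b
  rw [Subgroup.mem_subgroupOf, Subgroup.mem_subgroupOf]
  show Xor' ((b : Fi24) * L ∈ S1) ((b : Fi24) ∈ S1)
  rcases hdec b b.2 with h | h
  · right
    refine ⟨h, ?_⟩
    intro h2
    apply L_not_mem
    have := S1.mul_mem (S1.inv_mem h) h2
    rwa [inv_mul_cancel_left] at this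
  · left
    refine ⟨h, ?_⟩
    intro h2
    apply L_not_mem
    have := S1.mul_mem (S1.inv_mem h2) h
    rwa [inv_mul_cancel_left] at this

theorem finite_S1 : Finite S1 := by
  apply Nat.finite_of_card_ne_zero
  rw [card_S1]; norm_num

theorem card_H0 : Finite Fi24Orb.H0 ∧ Nat.card Fi24Orb.H0 = 2 * 4089470473293004800 := by
  haveI := finite_S1
  have e : Nat.card (S1.subgroupOf Fi24Orb.H0) = Nat.card S1 :=
    Nat.card_congr (Subgroup.subgroupOfEquivOfLe S1_le).toEquiv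
  haveI : Finite (S1.subgroupOf Fi24Orb.H0) := by
    apply Nat.finite_of_card_ne_zero
    rw [e, card_S1]; norm_num
  have hfin : Finite Fi24Orb.H0 := by
    have h := Cfsg.Agent.Lib.Helper6.TC.card_le_of_index (S1.subgroupOf Fi24Orb.H0) (N := 2)
      (m := 4089470473293004800) (by rw [index_S1]) (by rw [index_S1]; norm_num) inferInstance
      (by rw [e, card_S1])
    exact h.1
  refine ⟨hfin, ?_⟩
  rw [← Subgroup.card_mul_index (S1.subgroupOf Fi24Orb.H0), index_S1, e, card_S1]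

theorem card_Fi24 : Finite Fi24 ∧ Nat.card Fi24 = 2 * 1255205709190661721292800 := by
  obtain ⟨φ, hw, hfixH, htrans, hidx, _⟩ := rep
  obtain ⟨hf, hc⟩ := card_H0
  have h := Cfsg.Agent.Lib.Helper6.TC.card_le_of_index Fi24Orb.H0 (N := 306936)
      (m := 2 * 4089470473293004800) (by rw [hidx]) (by rw [hidx]; norm_num) hf (by rw [hc])
  refine ⟨h.1, ?_⟩
  rw [← Subgroup.card_mul_index Fi24Orb.H0, hidx, hc]

end order

end Cfsg.Agent.Lib.Helper6.Fi24H0
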