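import Cfsg.Agent.Lib.Helper6.Spor.Y422Spider
import Cfsg.Agent.Lib.Helper6.TCP.Fi24
import Cfsg.Agent.Lib.Helper6.WP10

set_option autoImplicit false

namespace Cfsg.Agent.Lib.Helper6.Fi24Spider

open Cfsg.Spor Cfsg.Agent.Lib.Helper6.TC
open Cfsg.Agent.Lib.Helper6.TCP.Fi24

/-! # The spider relation holds in the presented group Fi24 -/

section helpers
set_option maxRecDepth 100000

/-- the columns of `Y422` (`a, b, c, d, e, f, h, i, k`) as columns of `Fi24` -/
def cm (i : ℕ) : ℕ := [2, 3, 4, 5, 6, 7, 10, 11, 1].getD i 0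

/-- the images of the columns of `Y422` -/
noncomputable def fcol (i : ℕ) : Fi24 := PresentedGroup.mk Rels (ceOf gc (cm i))

theorem prod_map_fcol (w : List ℕ) :
    (w.map fcol).prod = PresentedGroup.mk Rels (wordElt gc (w.map cm)) := by
  induction w with
  | nil => simp [wordElt_nil]
  | cons c w ih =>
    rw [List.map_cons, List.prod_cons, ih, List.map_cons, wordElt_cons, map_mul]
    rfl

def f7 : List ℕ := [10, 7, 6, 5, 4, 3, 2]
def f7r : List ℕ := [2, 3, 4, 5, 6, 7, 10]
def F19 : List ℕ := (List.replicate 9 f7).flatten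
def F19r : List ℕ := (List.replicate 9 f7r).flatten

/-- the generator `l` -/
noncomputable abbrev L : Fi24 := PresentedGroup.mk Rels (wordElt gc [0])

theorem L_sq : L * L = 1 := by
  have h := hbase [0, 0] (by decide +kernel)
  have e : ([0, 0] : List ℕ) = [0] ++ [0] := rfl
  rw [e, wordElt_append, map_mul] at h
  exact h

theorem L_inv : L⁻¹ = L := (eq_inv_of_mul_eq_one_left L_sq).symm

theorem mk_F19 : PresentedGroup.mk Rels (wordElt gc F19) = L := by
  have h := hbase TCP.Fi24.w0 extra_mem.1
  have e : TCP.Fi24.w0 = [0] ++ F19 := by decide +kernel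
  rw [e, wordElt_append, map_mul] at h
  calc PresentedGroup.mk Rels (wordElt gc F19)
      = (L * L) * PresentedGroup.mk Rels (wordElt gc F19) := by rw [L_sq, one_mul]
    _ = L * (L * PresentedGroup.mk Rels (wordElt gc F19)) := mul_assoc _ _ _
    _ = L := by rw [h, mul_one]

theorem mk_F19r : PresentedGroup.mk Rels (wordElt gc F19r) = L := by
  have e : F19r = invw INV F19 := by decide +kernel
  rw [e, mk_wordElt_invw hinvG F19 (by decide +kernel), mk_F19, L_inv]

/-- the first special relator: `(abcdefh)^9` commutes with `i` -/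
def sp1 : List ℕ := (List.replicate 9 [0, 1, 2, 3, 4, 5, 6]).flatten ++ [7] ++
  (List.replicate 9 [6, 5, 4, 3, 2, 1, 0]).flatten ++ [7]

/-- the second special relator: `(k (abcdefh)^9)^3` -/
def sp2 : List ℕ := (List.replicate 3 ([8] ++ (List.replicate 9 [0, 1, 2, 3, 4, 5, 6]).flatten)).flatten

theorem hcase : ∀ b ∈ TCP.Y422.base, b.map cm ∈ base ∨ (b.map cm).rotate 1 ∈ base ∨
    b = sp1 ∨ b = sp2 := by
  decide +kernel

theorem sp1_map : sp1.map cm = F19r ++ [11] ++ F19 ++ [11] := by decide +kernel

theorem sp2_map : sp2.map cm = (List.replicate 3 ([1] ++ F19r)).flatten := by decide +kernel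

theorem mk_sp1 : PresentedGroup.mk Rels (wordElt gc (sp1.map cm)) = 1 := by
  rw [sp1_map, wordElt_append, wordElt_append, wordElt_append, map_mul, map_mul, map_mul, mk_F19r,
    mk_F19]
  have h := hbase [0, 11, 0, 11] (by decide +kernel)
  have e : ([0, 11, 0, 11] : List ℕ) = [0] ++ [11] ++ [0] ++ [11] := rfl
  rw [e, wordElt_append, wordElt_append, wordElt_append, map_mul, map_mul, map_mul] at h
  exact h

theorem mk_sp2 : PresentedGroup.mk Rels (wordElt gc (sp2.map cm)) = 1 := by
  rw [sp2_map, wordElt_flatten_replicate, map_pow, wordElt_append, map_mul, mk_F19r]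
  have h := mk_wordElt_rotate (rels := Rels) (gc := gc) [0, 1, 0, 1, 0, 1] 1
    (hbase [0, 1, 0, 1, 0, 1] (by decide +kernel))
  have e : ([0, 1, 0, 1, 0, 1] : List ℕ).rotate 1 = (List.replicate 3 ([1] ++ [0])).flatten := by
    decide
  rw [e, wordElt_flatten_replicate, map_pow, wordElt_append, map_mul] at h
  exact h

theorem hrel : ∀ b ∈ TCP.Y422.base, (b.map fcol).prod = 1 := by
  intro b hb
  rw [prod_map_fcol]
  rcases hcase b hb with h | h | h | h
  · exact hbase _ h
  · have h1 := mk_wordElt_rotate (rels := Rels) (gc := gc) _ ((b.map cm).length - 1) (hbase _ h)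
    rw [List.rotate_rotate] at h1
    by_cases hl : (b.map cm).length = 0
    · rw [List.length_eq_zero_iff] at hl
      rw [hl, wordElt_nil, map_one]
    · have : 1 + ((b.map cm).length - 1) = (b.map cm).length := by omega
      rw [this, List.rotate_length] at h1
      exact h1
  · rw [h]; exact mk_sp1
  · rw [h]; exact mk_sp2

/-- the homomorphism from the group `Y422` to the presented group Fi24 -/
noncomputable def eta : TCP.Y422.G →* Fi24 := wgHom fcol TCP.Y422.hbl hrel

theorem eta_wordElt (w : List ℕ) (hw : ∀ c ∈ w, c < 9) :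
    eta (PresentedGroup.mk (wrels 9 TCP.Y422.base) (wordElt (gcF 9) w)) = (w.map fcol).prod :=
  lift_wordElt_prod fcol w hw

end helpers

/-- the spider word of the presented group Fi24: `d c b d e f d h i` -/
def spider : List ℕ := [5, 4, 3, 5, 6, 7, 5, 10, 11]

/-- the spider relation in the presented group Fi24 -/
theorem spider_pow : (PresentedGroup.mk Rels (wordElt gc spider)) ^ 10 = 1 := by
  have h := congrArg eta Y422Spider.spider_pow
  rw [map_pow, map_one, eta_wordElt _ (by decide), prod_map_fcol] at h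
  exact h

end Cfsg.Agent.Lib.Helper6.Fi24Spider
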