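import Cfsg.Agent.Lib.Helper6.Spor.Fi24Spider
import Cfsg.Prelude.Def_Spor_Fi23

set_option autoImplicit false

namespace Cfsg.Agent.Lib.Helper6.Fi24Theta

open Cfsg.Spor Cfsg.Agent.Lib.Helper6.TC
open Cfsg.Agent.Lib.Helper6.TCP.Fi24

/-! # The homomorphism from the presented group Fi23 to the presented group Fi24 sending each
generator `x` to `x l` -/

/-- the generators of the presented group Fi24 -/
noncomputable def X (x : Fi24.Gen) : Fi24 := PresentedGroup.mk Rels (FreeGroup.of x)

/-- the generator `l` -/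
noncomputable abbrev L : Fi24 := X Fi24.Gen.l

theorem X_sq (x : Fi24.Gen) : X x * X x = 1 := gen_sq x

theorem X_inv (x : Fi24.Gen) : (X x)⁻¹ = X x := hxG x

theorem X_rel (x y : Fi24.Gen) : (X x * X y) ^ coxLabel Fi24.edges x y = 1 := by
  have := cox_rel x y
  rw [map_pow, map_mul] at this
  exact this

theorem X_comm (x y : Fi24.Gen) (h : coxLabel Fi24.edges x y = 2) : X x * X y = X y * X x := by
  have h1 := X_rel x y
  rw [h, pow_two] at h1
  have h2 := eq_inv_of_mul_eq_one_left h1
  rw [mul_inv_rev, X_inv, X_inv] at h2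
  exact h2

theorem L_sq : L * L = 1 := X_sq _

theorem L_sq_assoc (z : Fi24) : L * (L * z) = z := by rw [← mul_assoc, L_sq, one_mul]

/-- the generators of Fi23 among those of Fi24 -/
def iota : Fi23.Gen → Fi24.Gen
  | .a => .a | .b => .b | .c => .c | .d => .d | .e => .e | .f => .f | .g => .g | .j => .j
  | .h => .h | .i => .i

theorem label_eq (x y : Fi23.Gen) :
    coxLabel Fi23.edges x y = coxLabel Fi24.edges (iota x) (iota y) := by
  cases x <;> cases y <;> decide

theorem label_l (x : Fi23.Gen) : coxLabel Fi24.edges Fi24.Gen.l (iota x) = 2 := by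
  cases x <;> decide

theorem L_comm (x : Fi23.Gen) : L * X (iota x) = X (iota x) * L := X_comm _ _ (label_l x)

/-- the images of the generators -/
noncomputable def f (x : Fi23.Gen) : Fi24 := X (iota x) * L

noncomputable def psi1 : FreeGroup Fi23.Gen →* Fi24 := FreeGroup.lift (fun x => X (iota x))

noncomputable def psi2 : FreeGroup Fi23.Gen →* Fi24 := FreeGroup.lift (fun _ => L)

theorem psi1_of (x : Fi23.Gen) : psi1 (FreeGroup.of x) = X (iota x) := FreeGroup.lift_apply_of

theorem psi2_of (x : Fi23.Gen) : psi2 (FreeGroup.of x) = L := FreeGroup.lift_apply_of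

theorem psi1_comm (v : FreeGroup Fi23.Gen) : Commute L (psi1 v) := by
  have h : psi1.range ≤ Subgroup.centralizer ({L} : Set Fi24) := by
    apply FreeGroup.range_lift_le
    rintro _ ⟨x, rfl⟩
    rw [SetLike.mem_coe, Subgroup.mem_centralizer_iff]
    intro z hz
    rw [Set.mem_singleton_iff] at hz
    rw [hz]
    exact L_comm x
  have := h ⟨v, rfl⟩
  rw [Subgroup.mem_centralizer_iff] at this
  exact this L rfl

theorem psi2_mem (u : FreeGroup Fi23.Gen) : psi2 u ∈ Subgroup.zpowers L := by
  have h : psi2.range ≤ Subgroup.zpowers L := by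
    apply FreeGroup.range_lift_le
    rintro _ ⟨x, rfl⟩
    exact Subgroup.mem_zpowers L
  exact h ⟨u, rfl⟩

theorem comm12 (u v : FreeGroup Fi23.Gen) : psi2 u * psi1 v = psi1 v * psi2 u := by
  obtain ⟨n, hn⟩ := Subgroup.mem_zpowers_iff.mp (psi2_mem u)
  rw [← hn]
  exact ((psi1_comm v).zpow_left n).eq

theorem lift_f (w : FreeGroup Fi23.Gen) : FreeGroup.lift f w = psi1 w * psi2 w := by
  induction w using FreeGroup.induction_on with
  | C1 => simp
  | of x => rw [FreeGroup.lift_apply_of, psi1_of, psi2_of, f]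
  | inv_of x ih =>
    rw [map_inv, map_inv, map_inv, ih, mul_inv_rev, ← map_inv, ← map_inv, comm12]
  | mul a b iha ihb =>
    rw [map_mul, map_mul, map_mul, iha, ihb]
    calc psi1 a * psi2 a * (psi1 b * psi2 b) = psi1 a * (psi2 a * psi1 b) * psi2 b := by group
      _ = psi1 a * (psi1 b * psi2 a) * psi2 b := by rw [comm12]
      _ = psi1 a * psi1 b * (psi2 a * psi2 b) := by group

/-- the spider relation, in terms of the generators -/
theorem spider_rel : (X .d * X .c * X .b * X .d * X .e * X .f * X .d * X .h * X .i) ^ 10 = 1 := by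
  have h := Fi24Spider.spider_pow
  have e : PresentedGroup.mk Rels (wordElt gc Fi24Spider.spider) =
      X .d * X .c * X .b * X .d * X .e * X .f * X .d * X .h * X .i := by
    simp only [Fi24Spider.spider, wordElt_cons, wordElt_nil, mul_one, map_mul, ceOf_gc, mul_assoc]
    rfl
  rw [e] at h
  exact h

/-- the relation `l = (a b c d e f h)^9`, in terms of the generators -/
theorem f19_rel : (X .a * X .b * X .c * X .d * X .e * X .f * X .h) ^ 9 = L := by
  have h : PresentedGroup.mk Rels (Fi24.l * ((Fi24.a * Fi24.b * Fi24.c * Fi24.d * Fi24.e * Fi24.f *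
      Fi24.h) ^ 9)⁻¹) = 1 :=
    PresentedGroup.one_of_mem (Or.inr (by simp [Fi24.extra]))
  rw [map_mul, map_inv, map_pow] at h
  have h2 := (mul_inv_eq_one.mp h).symm
  simp only [map_mul] at h2
  exact h2

theorem nine_L : L * L * L * L * L * L * L * L * L = L := by
  simp only [L_sq, one_mul]

theorem seven_L : L * L * L * L * L * L * L = L := by
  simp only [L_sq, one_mul]

theorem L_pow_ten : L ^ 10 = 1 := by
  rw [show (10 : ℕ) = 2 * 5 by norm_num, pow_mul, pow_two, L_sq, one_pow]

theorem L_pow_nine : L ^ 9 = L := by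
  rw [show (9 : ℕ) = 2 * 4 + 1 by norm_num, pow_succ, pow_mul, pow_two, L_sq, one_pow, one_mul]

theorem hrels : ∀ r ∈ coxRelators Fi23.edges ∪ {r | r ∈ Fi23.extra}, FreeGroup.lift f r = 1 := by
  intro r hr
  rw [lift_f]
  rcases hr with ⟨x, _, y, _, rfl⟩ | hr
  · have h1 : psi1 ((FreeGroup.of x * FreeGroup.of y) ^ coxLabel Fi23.edges x y) = 1 := by
      rw [map_pow, map_mul, psi1_of, psi1_of, label_eq]
      exact X_rel _ _
    have h2 : psi2 ((FreeGroup.of x * FreeGroup.of y) ^ coxLabel Fi23.edges x y) = 1 := by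
      rw [map_pow, map_mul, psi2_of, psi2_of, L_sq, one_pow]
    rw [h1, h2, mul_one]
  · have hr' : r ∈ Fi23.extra := hr
    simp only [Fi23.extra, List.mem_cons, List.mem_nil_iff, or_false] at hr'
    rcases hr' with rfl | rfl
    · have h1 : psi1 ((Fi23.d * Fi23.c * Fi23.b * Fi23.d * Fi23.e * Fi23.f * Fi23.d * Fi23.h *
          Fi23.i) ^ 10) = 1 := by
        simp only [map_pow, map_mul, psi1_of, iota]
        exact spider_rel
      have h2 : psi2 ((Fi23.d * Fi23.c * Fi23.b * Fi23.d * Fi23.e * Fi23.f * Fi23.d * Fi23.h *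
          Fi23.i) ^ 10) = 1 := by
        simp only [map_pow, map_mul, psi2_of]
        rw [nine_L, L_pow_ten]
      rw [h1, h2, mul_one]
    · have h1 : psi1 ((Fi23.a * Fi23.b * Fi23.c * Fi23.d * Fi23.e * Fi23.f * Fi23.h) ^ 9) = L := by
        simp only [map_pow, map_mul, psi1_of, iota]
        exact f19_rel
      have h2 : psi2 ((Fi23.a * Fi23.b * Fi23.c * Fi23.d * Fi23.e * Fi23.f * Fi23.h) ^ 9) = L := by
        simp only [map_pow, map_mul, psi2_of]
        rw [seven_L, L_pow_nine]
      rw [h1, h2, L_sq]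

/-- the homomorphism from Fi23 to Fi24 -/
noncomputable def theta : Fi23 →* Fi24 := PresentedGroup.toGroup hrels

theorem theta_of (x : Fi23.Gen) : theta (PresentedGroup.of x) = X (iota x) * L :=
  PresentedGroup.toGroup.of hrels

end Cfsg.Agent.Lib.Helper6.Fi24Theta
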