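import Cfsg.Agent.Lib.Helper6.Spor.SuzUB
import Cfsg.Agent.Lib.Helper6.TCP.G24

set_option autoImplicit false
set_option maxRecDepth 100000

namespace Cfsg.Agent.Lib.Helper6.G24UB

open Cfsg.Agent.Lib.Helper6.TC Cfsg.Agent.Lib.Helper6.TCD

/-! # The order of the group `G24` presented by words is at most 251596800 -/

theorem base_eq : TCP.G24.base = SuzU1.base := rfl

theorem card_le : Finite TCP.G24.G ∧ Nat.card TCP.G24.G ≤ 251596800 := by
  have h := SuzUB.u1
  rw [← base_eq] at h
  exact ⟨h.1, h.2.trans (by norm_num)⟩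

end Cfsg.Agent.Lib.Helper6.G24UB
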