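import Mathlib
import Cfsg.Agent.Lib.Helper6.TCP.HNP1
import Cfsg.Agent.Lib.Helper6.TC14
import Cfsg.Agent.Lib.Helper6.TCD.HNP1a.AllS

set_option autoImplicit false

namespace Cfsg.Agent.Lib.Helper6.HNP1Idx
open Cfsg.Agent.Lib.Helper6.TC Cfsg.Agent.Lib.Helper6.TCP.HNP1 Cfsg.Agent.Lib.Helper6.TCD.HNP1a

/-! # The index and the suborbits of a subgroup of the group `HNP1` presented by words -/

section helpers
set_option maxRecDepth 100000
set_option linter.unusedSimpArgs false

/-- the words of the generators of the subgroup -/
def subw : List (List ℕ) := [[2]]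

/-- the generating set of the subgroup -/
abbrev S : Set (FreeGroup (Fin 4)) := wset 4 subw

theorem hsw : ∀ s ∈ S, ∃ w ∈ subw, s = wordElt gc w := wp_hsw subw

theorem hsw' : ∀ w ∈ subw, (∀ c ∈ w, c < 4) ∧ wordElt gc w ∈ S := wp_hsw' (by decide)

theorem chkW : allB (chkWord WD WI base subw Cfsg.Agent.Lib.Helper6.TCD.HNP1a.INV ncol nrw) nw = true := by
  decide +kernel

theorem hS : ∀ s < n * ncol, chkSlot SH SC NH NC WD n ncol nrw nw tmax Cfsg.Agent.Lib.Helper6.TCD.HNP1a.INV s = true := by
  intro s hs
  have hs' : s < 2356756 := hs
  by_cases h0 : s < 8000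
  · exact allR_spec chkS0 s (by omega) (by omega)
  by_cases h1 : s < 16000
  · exact allR_spec chkS1 s (by omega) (by omega)
  by_cases h2 : s < 24000
  · exact allR_spec chkS2 s (by omega) (by omega)
  by_cases h3 : s < 32000
  · exact allR_spec chkS3 s (by omega) (by omega)
  by_cases h4 : s < 40000
  · exact allR_spec chkS4 s (by omega) (by omega)
  by_cases h5 : s < 48000
  · exact allR_spec chkS5 s (by omega) (by omega)
  by_cases h6 : s < 56000
  · exact allR_spec chkS6 s (by omega) (by omega)
  by_cases h7 : s < 64000
  · exact allR_spec chkS7 s (by omega) (by omega)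
  by_cases h8 : s < 72000
  · exact allR_spec chkS8 s (by omega) (by omega)
  by_cases h9 : s < 80000
  · exact allR_spec chkS9 s (by omega) (by omega)
  by_cases h10 : s < 88000
  · exact allR_spec chkS10 s (by omega) (by omega)
  by_cases h11 : s < 96000
  · exact allR_spec chkS11 s (by omega) (by omega)
  by_cases h12 : s < 104000
  · exact allR_spec chkS12 s (by omega) (by omega)
  by_cases h13 : s < 112000
  · exact allR_spec chkS13 s (by omega) (by omega)
  by_cases h14 : s < 120000
  · exact allR_spec chkS14 s (by omega) (by omega)
  by_cases h15 : s < 128000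
  · exact allR_spec chkS15 s (by omega) (by omega)
  by_cases h16 : s < 136000
  · exact allR_spec chkS16 s (by omega) (by omega)
  by_cases h17 : s < 144000
  · exact allR_spec chkS17 s (by omega) (by omega)
  by_cases h18 : s < 152000
  · exact allR_spec chkS18 s (by omega) (by omega)
  by_cases h19 : s < 160000
  · exact allR_spec chkS19 s (by omega) (by omega)
  by_cases h20 : s < 168000
  · exact allR_spec chkS20 s (by omega) (by omega)
  by_cases h21 : s < 176000
  · exact allR_spec chkS21 s (by omega) (by omega)
  by_cases h22 : s < 184000
  · exact allR_spec chkS22 s (by omega) (by omega)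
  by_cases h23 : s < 192000
  · exact allR_spec chkS23 s (by omega) (by omega)
  by_cases h24 : s < 200000
  · exact allR_spec chkS24 s (by omega) (by omega)
  by_cases h25 : s < 208000
  · exact allR_spec chkS25 s (by omega) (by omega)
  by_cases h26 : s < 216000
  · exact allR_spec chkS26 s (by omega) (by omega)
  by_cases h27 : s < 224000
  · exact allR_spec chkS27 s (by omega) (by omega)
  by_cases h28 : s < 232000
  · exact allR_spec chkS28 s (by omega) (by omega)
  by_cases h29 : s < 240000
  · exact allR_spec chkS29 s (by omega) (by omega)
  by_cases h30 : s < 248000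
  · exact allR_spec chkS30 s (by omega) (by omega)
  by_cases h31 : s < 256000
  · exact allR_spec chkS31 s (by omega) (by omega)
  by_cases h32 : s < 264000
  · exact allR_spec chkS32 s (by omega) (by omega)
  by_cases h33 : s < 272000
  · exact allR_spec chkS33 s (by omega) (by omega)
  by_cases h34 : s < 280000
  · exact allR_spec chkS34 s (by omega) (by omega)
  by_cases h35 : s < 288000
  · exact allR_spec chkS35 s (by omega) (by omega)
  by_cases h36 : s < 296000
  · exact allR_spec chkS36 s (by omega) (by omega)
  by_cases h37 : s < 304000
  · exact allR_spec chkS37 s (by omega) (by omega)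
  by_cases h38 : s < 312000
  · exact allR_spec chkS38 s (by omega) (by omega)
  by_cases h39 : s < 320000
  · exact allR_spec chkS39 s (by omega) (by omega)
  by_cases h40 : s < 328000
  · exact allR_spec chkS40 s (by omega) (by omega)
  by_cases h41 : s < 336000
  · exact allR_spec chkS41 s (by omega) (by omega)
  by_cases h42 : s < 344000
  · exact allR_spec chkS42 s (by omega) (by omega)
  by_cases h43 : s < 352000
  · exact allR_spec chkS43 s (by omega) (by omega)
  by_cases h44 : s < 360000
  · exact allR_spec chkS44 s (by omega) (by omega)
  by_cases h45 : s < 368000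
  · exact allR_spec chkS45 s (by omega) (by omega)
  by_cases h46 : s < 376000
  · exact allR_spec chkS46 s (by omega) (by omega)
  by_cases h47 : s < 384000
  · exact allR_spec chkS47 s (by omega) (by omega)
  by_cases h48 : s < 392000
  · exact allR_spec chkS48 s (by omega) (by omega)
  by_cases h49 : s < 400000
  · exact allR_spec chkS49 s (by omega) (by omega)
  by_cases h50 : s < 408000
  · exact allR_spec chkS50 s (by omega) (by omega)
  by_cases h51 : s < 416000
  · exact allR_spec chkS51 s (by omega) (by omega)
  by_cases h52 : s < 424000
  · exact allR_spec chkS52 s (by omega) (by omega)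
  by_cases h53 : s < 432000
  · exact allR_spec chkS53 s (by omega) (by omega)
  by_cases h54 : s < 440000
  · exact allR_spec chkS54 s (by omega) (by omega)
  by_cases h55 : s < 448000
  · exact allR_spec chkS55 s (by omega) (by omega)
  by_cases h56 : s < 456000
  · exact allR_spec chkS56 s (by omega) (by omega)
  by_cases h57 : s < 464000
  · exact allR_spec chkS57 s (by omega) (by omega)
  by_cases h58 : s < 472000
  · exact allR_spec chkS58 s (by omega) (by omega)
  by_cases h59 : s < 480000
  · exact allR_spec chkS59 s (by omega) (by omega)
  by_cases h60 : s < 488000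
  · exact allR_spec chkS60 s (by omega) (by omega)
  by_cases h61 : s < 496000
  · exact allR_spec chkS61 s (by omega) (by omega)
  by_cases h62 : s < 504000
  · exact allR_spec chkS62 s (by omega) (by omega)
  by_cases h63 : s < 512000
  · exact allR_spec chkS63 s (by omega) (by omega)
  by_cases h64 : s < 520000
  · exact allR_spec chkS64 s (by omega) (by omega)
  by_cases h65 : s < 528000
  · exact allR_spec chkS65 s (by omega) (by omega)
  by_cases h66 : s < 536000
  · exact allR_spec chkS66 s (by omega) (by omega)
  by_cases h67 : s < 544000
  · exact allR_spec chkS67 s (by omega) (by omega)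
  by_cases h68 : s < 552000
  · exact allR_spec chkS68 s (by omega) (by omega)
  by_cases h69 : s < 560000
  · exact allR_spec chkS69 s (by omega) (by omega)
  by_cases h70 : s < 568000
  · exact allR_spec chkS70 s (by omega) (by omega)
  by_cases h71 : s < 576000
  · exact allR_spec chkS71 s (by omega) (by omega)
  by_cases h72 : s < 584000
  · exact allR_spec chkS72 s (by omega) (by omega)
  by_cases h73 : s < 592000
  · exact allR_spec chkS73 s (by omega) (by omega)
  by_cases h74 : s < 600000
  · exact allR_spec chkS74 s (by omega) (by omega)
  by_cases h75 : s < 608000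
  · exact allR_spec chkS75 s (by omega) (by omega)
  by_cases h76 : s < 616000
  · exact allR_spec chkS76 s (by omega) (by omega)
  by_cases h77 : s < 624000
  · exact allR_spec chkS77 s (by omega) (by omega)
  by_cases h78 : s < 632000
  · exact allR_spec chkS78 s (by omega) (by omega)
  by_cases h79 : s < 640000
  · exact allR_spec chkS79 s (by omega) (by omega)
  by_cases h80 : s < 648000
  · exact allR_spec chkS80 s (by omega) (by omega)
  by_cases h81 : s < 656000
  · exact allR_spec chkS81 s (by omega) (by omega)
  by_cases h82 : s < 664000
  · exact allR_spec chkS82 s (by omega) (by omega)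
  by_cases h83 : s < 672000
  · exact allR_spec chkS83 s (by omega) (by omega)
  by_cases h84 : s < 680000
  · exact allR_spec chkS84 s (by omega) (by omega)
  by_cases h85 : s < 688000
  · exact allR_spec chkS85 s (by omega) (by omega)
  by_cases h86 : s < 696000
  · exact allR_spec chkS86 s (by omega) (by omega)
  by_cases h87 : s < 704000
  · exact allR_spec chkS87 s (by omega) (by omega)
  by_cases h88 : s < 712000
  · exact allR_spec chkS88 s (by omega) (by omega)
  by_cases h89 : s < 720000
  · exact allR_spec chkS89 s (by omega) (by omega)
  by_cases h90 : s < 728000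
  · exact allR_spec chkS90 s (by omega) (by omega)
  by_cases h91 : s < 736000
  · exact allR_spec chkS91 s (by omega) (by omega)
  by_cases h92 : s < 744000
  · exact allR_spec chkS92 s (by omega) (by omega)
  by_cases h93 : s < 752000
  · exact allR_spec chkS93 s (by omega) (by omega)
  by_cases h94 : s < 760000
  · exact allR_spec chkS94 s (by omega) (by omega)
  by_cases h95 : s < 768000
  · exact allR_spec chkS95 s (by omega) (by omega)
  by_cases h96 : s < 776000
  · exact allR_spec chkS96 s (by omega) (by omega)
  by_cases h97 : s < 784000
  · exact allR_spec chkS97 s (by omega) (by omega)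
  by_cases h98 : s < 792000
  · exact allR_spec chkS98 s (by omega) (by omega)
  by_cases h99 : s < 800000
  · exact allR_spec chkS99 s (by omega) (by omega)
  by_cases h100 : s < 808000
  · exact allR_spec chkS100 s (by omega) (by omega)
  by_cases h101 : s < 816000
  · exact allR_spec chkS101 s (by omega) (by omega)
  by_cases h102 : s < 824000
  · exact allR_spec chkS102 s (by omega) (by omega)
  by_cases h103 : s < 832000
  · exact allR_spec chkS103 s (by omega) (by omega)
  by_cases h104 : s < 840000
  · exact allR_spec chkS104 s (by omega) (by omega)
  by_cases h105 : s < 848000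
  · exact allR_spec chkS105 s (by omega) (by omega)
  by_cases h106 : s < 856000
  · exact allR_spec chkS106 s (by omega) (by omega)
  by_cases h107 : s < 864000
  · exact allR_spec chkS107 s (by omega) (by omega)
  by_cases h108 : s < 872000
  · exact allR_spec chkS108 s (by omega) (by omega)
  by_cases h109 : s < 880000
  · exact allR_spec chkS109 s (by omega) (by omega)
  by_cases h110 : s < 888000
  · exact allR_spec chkS110 s (by omega) (by omega)
  by_cases h111 : s < 896000
  · exact allR_spec chkS111 s (by omega) (by omega)
  by_cases h112 : s < 904000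
  · exact allR_spec chkS112 s (by omega) (by omega)
  by_cases h113 : s < 912000
  · exact allR_spec chkS113 s (by omega) (by omega)
  by_cases h114 : s < 920000
  · exact allR_spec chkS114 s (by omega) (by omega)
  by_cases h115 : s < 928000
  · exact allR_spec chkS115 s (by omega) (by omega)
  by_cases h116 : s < 936000
  · exact allR_spec chkS116 s (by omega) (by omega)
  by_cases h117 : s < 944000
  · exact allR_spec chkS117 s (by omega) (by omega)
  by_cases h118 : s < 952000
  · exact allR_spec chkS118 s (by omega) (by omega)
  by_cases h119 : s < 960000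
  · exact allR_spec chkS119 s (by omega) (by omega)
  by_cases h120 : s < 968000
  · exact allR_spec chkS120 s (by omega) (by omega)
  by_cases h121 : s < 976000
  · exact allR_spec chkS121 s (by omega) (by omega)
  by_cases h122 : s < 984000
  · exact allR_spec chkS122 s (by omega) (by omega)
  by_cases h123 : s < 992000
  · exact allR_spec chkS123 s (by omega) (by omega)
  by_cases h124 : s < 1000000
  · exact allR_spec chkS124 s (by omega) (by omega)
  by_cases h125 : s < 1008000
  · exact allR_spec chkS125 s (by omega) (by omega)
  by_cases h126 : s < 1016000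
  · exact allR_spec chkS126 s (by omega) (by omega)
  by_cases h127 : s < 1024000
  · exact allR_spec chkS127 s (by omega) (by omega)
  by_cases h128 : s < 1032000
  · exact allR_spec chkS128 s (by omega) (by omega)
  by_cases h129 : s < 1040000
  · exact allR_spec chkS129 s (by omega) (by omega)
  by_cases h130 : s < 1048000
  · exact allR_spec chkS130 s (by omega) (by omega)
  by_cases h131 : s < 1056000
  · exact allR_spec chkS131 s (by omega) (by omega)
  by_cases h132 : s < 1064000
  · exact allR_spec chkS132 s (by omega) (by omega)
  by_cases h133 : s < 1072000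
  · exact allR_spec chkS133 s (by omega) (by omega)
  by_cases h134 : s < 1080000
  · exact allR_spec chkS134 s (by omega) (by omega)
  by_cases h135 : s < 1088000
  · exact allR_spec chkS135 s (by omega) (by omega)
  by_cases h136 : s < 1096000
  · exact allR_spec chkS136 s (by omega) (by omega)
  by_cases h137 : s < 1104000
  · exact allR_spec chkS137 s (by omega) (by omega)
  by_cases h138 : s < 1112000
  · exact allR_spec chkS138 s (by omega) (by omega)
  by_cases h139 : s < 1120000
  · exact allR_spec chkS139 s (by omega) (by omega)
  by_cases h140 : s < 1128000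
  · exact allR_spec chkS140 s (by omega) (by omega)
  by_cases h141 : s < 1136000
  · exact allR_spec chkS141 s (by omega) (by omega)
  by_cases h142 : s < 1144000
  · exact allR_spec chkS142 s (by omega) (by omega)
  by_cases h143 : s < 1152000
  · exact allR_spec chkS143 s (by omega) (by omega)
  by_cases h144 : s < 1160000
  · exact allR_spec chkS144 s (by omega) (by omega)
  by_cases h145 : s < 1168000
  · exact allR_spec chkS145 s (by omega) (by omega)
  by_cases h146 : s < 1176000
  · exact allR_spec chkS146 s (by omega) (by omega)
  by_cases h147 : s < 1184000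
  · exact allR_spec chkS147 s (by omega) (by omega)
  by_cases h148 : s < 1192000
  · exact allR_spec chkS148 s (by omega) (by omega)
  by_cases h149 : s < 1200000
  · exact allR_spec chkS149 s (by omega) (by omega)
  by_cases h150 : s < 1208000
  · exact allR_spec chkS150 s (by omega) (by omega)
  by_cases h151 : s < 1216000
  · exact allR_spec chkS151 s (by omega) (by omega)
  by_cases h152 : s < 1224000
  · exact allR_spec chkS152 s (by omega) (by omega)
  by_cases h153 : s < 1232000
  · exact allR_spec chkS153 s (by omega) (by omega)
  by_cases h154 : s < 1240000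
  · exact allR_spec chkS154 s (by omega) (by omega)
  by_cases h155 : s < 1248000
  · exact allR_spec chkS155 s (by omega) (by omega)
  by_cases h156 : s < 1256000
  · exact allR_spec chkS156 s (by omega) (by omega)
  by_cases h157 : s < 1264000
  · exact allR_spec chkS157 s (by omega) (by omega)
  by_cases h158 : s < 1272000
  · exact allR_spec chkS158 s (by omega) (by omega)
  by_cases h159 : s < 1280000
  · exact allR_spec chkS159 s (by omega) (by omega)
  by_cases h160 : s < 1288000
  · exact allR_spec chkS160 s (by omega) (by omega)
  by_cases h161 : s < 1296000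
  · exact allR_spec chkS161 s (by omega) (by omega)
  by_cases h162 : s < 1304000
  · exact allR_spec chkS162 s (by omega) (by omega)
  by_cases h163 : s < 1312000
  · exact allR_spec chkS163 s (by omega) (by omega)
  by_cases h164 : s < 1320000
  · exact allR_spec chkS164 s (by omega) (by omega)
  by_cases h165 : s < 1328000
  · exact allR_spec chkS165 s (by omega) (by omega)
  by_cases h166 : s < 1336000
  · exact allR_spec chkS166 s (by omega) (by omega)
  by_cases h167 : s < 1344000
  · exact allR_spec chkS167 s (by omega) (by omega)
  by_cases h168 : s < 1352000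
  · exact allR_spec chkS168 s (by omega) (by omega)
  by_cases h169 : s < 1360000
  · exact allR_spec chkS169 s (by omega) (by omega)
  by_cases h170 : s < 1368000
  · exact allR_spec chkS170 s (by omega) (by omega)
  by_cases h171 : s < 1376000
  · exact allR_spec chkS171 s (by omega) (by omega)
  by_cases h172 : s < 1384000
  · exact allR_spec chkS172 s (by omega) (by omega)
  by_cases h173 : s < 1392000
  · exact allR_spec chkS173 s (by omega) (by omega)
  by_cases h174 : s < 1400000
  · exact allR_spec chkS174 s (by omega) (by omega)
  by_cases h175 : s < 1408000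
  · exact allR_spec chkS175 s (by omega) (by omega)
  by_cases h176 : s < 1416000
  · exact allR_spec chkS176 s (by omega) (by omega)
  by_cases h177 : s < 1424000
  · exact allR_spec chkS177 s (by omega) (by omega)
  by_cases h178 : s < 1432000
  · exact allR_spec chkS178 s (by omega) (by omega)
  by_cases h179 : s < 1440000
  · exact allR_spec chkS179 s (by omega) (by omega)
  by_cases h180 : s < 1448000
  · exact allR_spec chkS180 s (by omega) (by omega)
  by_cases h181 : s < 1456000
  · exact allR_spec chkS181 s (by omega) (by omega)
  by_cases h182 : s < 1464000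
  · exact allR_spec chkS182 s (by omega) (by omega)
  by_cases h183 : s < 1472000
  · exact allR_spec chkS183 s (by omega) (by omega)
  by_cases h184 : s < 1480000
  · exact allR_spec chkS184 s (by omega) (by omega)
  by_cases h185 : s < 1488000
  · exact allR_spec chkS185 s (by omega) (by omega)
  by_cases h186 : s < 1496000
  · exact allR_spec chkS186 s (by omega) (by omega)
  by_cases h187 : s < 1504000
  · exact allR_spec chkS187 s (by omega) (by omega)
  by_cases h188 : s < 1512000
  · exact allR_spec chkS188 s (by omega) (by omega)
  by_cases h189 : s < 1520000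
  · exact allR_spec chkS189 s (by omega) (by omega)
  by_cases h190 : s < 1528000
  · exact allR_spec chkS190 s (by omega) (by omega)
  by_cases h191 : s < 1536000
  · exact allR_spec chkS191 s (by omega) (by omega)
  by_cases h192 : s < 1544000
  · exact allR_spec chkS192 s (by omega) (by omega)
  by_cases h193 : s < 1552000
  · exact allR_spec chkS193 s (by omega) (by omega)
  by_cases h194 : s < 1560000
  · exact allR_spec chkS194 s (by omega) (by omega)
  by_cases h195 : s < 1568000
  · exact allR_spec chkS195 s (by omega) (by omega)
  by_cases h196 : s < 1576000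
  · exact allR_spec chkS196 s (by omega) (by omega)
  by_cases h197 : s < 1584000
  · exact allR_spec chkS197 s (by omega) (by omega)
  by_cases h198 : s < 1592000
  · exact allR_spec chkS198 s (by omega) (by omega)
  by_cases h199 : s < 1600000
  · exact allR_spec chkS199 s (by omega) (by omega)
  by_cases h200 : s < 1608000
  · exact allR_spec chkS200 s (by omega) (by omega)
  by_cases h201 : s < 1616000
  · exact allR_spec chkS201 s (by omega) (by omega)
  by_cases h202 : s < 1624000
  · exact allR_spec chkS202 s (by omega) (by omega)
  by_cases h203 : s < 1632000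
  · exact allR_spec chkS203 s (by omega) (by omega)
  by_cases h204 : s < 1640000
  · exact allR_spec chkS204 s (by omega) (by omega)
  by_cases h205 : s < 1648000
  · exact allR_spec chkS205 s (by omega) (by omega)
  by_cases h206 : s < 1656000
  · exact allR_spec chkS206 s (by omega) (by omega)
  by_cases h207 : s < 1664000
  · exact allR_spec chkS207 s (by omega) (by omega)
  by_cases h208 : s < 1672000
  · exact allR_spec chkS208 s (by omega) (by omega)
  by_cases h209 : s < 1680000
  · exact allR_spec chkS209 s (by omega) (by omega)
  by_cases h210 : s < 1688000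
  · exact allR_spec chkS210 s (by omega) (by omega)
  by_cases h211 : s < 1696000
  · exact allR_spec chkS211 s (by omega) (by omega)
  by_cases h212 : s < 1704000
  · exact allR_spec chkS212 s (by omega) (by omega)
  by_cases h213 : s < 1712000
  · exact allR_spec chkS213 s (by omega) (by omega)
  by_cases h214 : s < 1720000
  · exact allR_spec chkS214 s (by omega) (by omega)
  by_cases h215 : s < 1728000
  · exact allR_spec chkS215 s (by omega) (by omega)
  by_cases h216 : s < 1736000
  · exact allR_spec chkS216 s (by omega) (by omega)
  by_cases h217 : s < 1744000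
  · exact allR_spec chkS217 s (by omega) (by omega)
  by_cases h218 : s < 1752000
  · exact allR_spec chkS218 s (by omega) (by omega)
  by_cases h219 : s < 1760000
  · exact allR_spec chkS219 s (by omega) (by omega)
  by_cases h220 : s < 1768000
  · exact allR_spec chkS220 s (by omega) (by omega)
  by_cases h221 : s < 1776000
  · exact allR_spec chkS221 s (by omega) (by omega)
  by_cases h222 : s < 1784000
  · exact allR_spec chkS222 s (by omega) (by omega)
  by_cases h223 : s < 1792000
  · exact allR_spec chkS223 s (by omega) (by omega)
  by_cases h224 : s < 1800000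
  · exact allR_spec chkS224 s (by omega) (by omega)
  by_cases h225 : s < 1808000
  · exact allR_spec chkS225 s (by omega) (by omega)
  by_cases h226 : s < 1816000
  · exact allR_spec chkS226 s (by omega) (by omega)
  by_cases h227 : s < 1824000
  · exact allR_spec chkS227 s (by omega) (by omega)
  by_cases h228 : s < 1832000
  · exact allR_spec chkS228 s (by omega) (by omega)
  by_cases h229 : s < 1840000
  · exact allR_spec chkS229 s (by omega) (by omega)
  by_cases h230 : s < 1848000
  · exact allR_spec chkS230 s (by omega) (by omega)
  by_cases h231 : s < 1856000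
  · exact allR_spec chkS231 s (by omega) (by omega)
  by_cases h232 : s < 1864000
  · exact allR_spec chkS232 s (by omega) (by omega)
  by_cases h233 : s < 1872000
  · exact allR_spec chkS233 s (by omega) (by omega)
  by_cases h234 : s < 1880000
  · exact allR_spec chkS234 s (by omega) (by omega)
  by_cases h235 : s < 1888000
  · exact allR_spec chkS235 s (by omega) (by omega)
  by_cases h236 : s < 1896000
  · exact allR_spec chkS236 s (by omega) (by omega)
  by_cases h237 : s < 1904000
  · exact allR_spec chkS237 s (by omega) (by omega)
  by_cases h238 : s < 1912000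
  · exact allR_spec chkS238 s (by omega) (by omega)
  by_cases h239 : s < 1920000
  · exact allR_spec chkS239 s (by omega) (by omega)
  by_cases h240 : s < 1928000
  · exact allR_spec chkS240 s (by omega) (by omega)
  by_cases h241 : s < 1936000
  · exact allR_spec chkS241 s (by omega) (by omega)
  by_cases h242 : s < 1944000
  · exact allR_spec chkS242 s (by omega) (by omega)
  by_cases h243 : s < 1952000
  · exact allR_spec chkS243 s (by omega) (by omega)
  by_cases h244 : s < 1960000
  · exact allR_spec chkS244 s (by omega) (by omega)
  by_cases h245 : s < 1968000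
  · exact allR_spec chkS245 s (by omega) (by omega)
  by_cases h246 : s < 1976000
  · exact allR_spec chkS246 s (by omega) (by omega)
  by_cases h247 : s < 1984000
  · exact allR_spec chkS247 s (by omega) (by omega)
  by_cases h248 : s < 1992000
  · exact allR_spec chkS248 s (by omega) (by omega)
  by_cases h249 : s < 2000000
  · exact allR_spec chkS249 s (by omega) (by omega)
  by_cases h250 : s < 2008000
  · exact allR_spec chkS250 s (by omega) (by omega)
  by_cases h251 : s < 2016000
  · exact allR_spec chkS251 s (by omega) (by omega)
  by_cases h252 : s < 2024000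
  · exact allR_spec chkS252 s (by omega) (by omega)
  by_cases h253 : s < 2032000
  · exact allR_spec chkS253 s (by omega) (by omega)
  by_cases h254 : s < 2040000
  · exact allR_spec chkS254 s (by omega) (by omega)
  by_cases h255 : s < 2048000
  · exact allR_spec chkS255 s (by omega) (by omega)
  by_cases h256 : s < 2056000
  · exact allR_spec chkS256 s (by omega) (by omega)
  by_cases h257 : s < 2064000
  · exact allR_spec chkS257 s (by omega) (by omega)
  by_cases h258 : s < 2072000
  · exact allR_spec chkS258 s (by omega) (by omega)
  by_cases h259 : s < 2080000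
  · exact allR_spec chkS259 s (by omega) (by omega)
  by_cases h260 : s < 2088000
  · exact allR_spec chkS260 s (by omega) (by omega)
  by_cases h261 : s < 2096000
  · exact allR_spec chkS261 s (by omega) (by omega)
  by_cases h262 : s < 2104000
  · exact allR_spec chkS262 s (by omega) (by omega)
  by_cases h263 : s < 2112000
  · exact allR_spec chkS263 s (by omega) (by omega)
  by_cases h264 : s < 2120000
  · exact allR_spec chkS264 s (by omega) (by omega)
  by_cases h265 : s < 2128000
  · exact allR_spec chkS265 s (by omega) (by omega)
  by_cases h266 : s < 2136000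
  · exact allR_spec chkS266 s (by omega) (by omega)
  by_cases h267 : s < 2144000
  · exact allR_spec chkS267 s (by omega) (by omega)
  by_cases h268 : s < 2152000
  · exact allR_spec chkS268 s (by omega) (by omega)
  by_cases h269 : s < 2160000
  · exact allR_spec chkS269 s (by omega) (by omega)
  by_cases h270 : s < 2168000
  · exact allR_spec chkS270 s (by omega) (by omega)
  by_cases h271 : s < 2176000
  · exact allR_spec chkS271 s (by omega) (by omega)
  by_cases h272 : s < 2184000
  · exact allR_spec chkS272 s (by omega) (by omega)
  by_cases h273 : s < 2192000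
  · exact allR_spec chkS273 s (by omega) (by omega)
  by_cases h274 : s < 2200000
  · exact allR_spec chkS274 s (by omega) (by omega)
  by_cases h275 : s < 2208000
  · exact allR_spec chkS275 s (by omega) (by omega)
  by_cases h276 : s < 2216000
  · exact allR_spec chkS276 s (by omega) (by omega)
  by_cases h277 : s < 2224000
  · exact allR_spec chkS277 s (by omega) (by omega)
  by_cases h278 : s < 2232000
  · exact allR_spec chkS278 s (by omega) (by omega)
  by_cases h279 : s < 2240000
  · exact allR_spec chkS279 s (by omega) (by omega)
  by_cases h280 : s < 2248000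
  · exact allR_spec chkS280 s (by omega) (by omega)
  by_cases h281 : s < 2256000
  · exact allR_spec chkS281 s (by omega) (by omega)
  by_cases h282 : s < 2264000
  · exact allR_spec chkS282 s (by omega) (by omega)
  by_cases h283 : s < 2272000
  · exact allR_spec chkS283 s (by omega) (by omega)
  by_cases h284 : s < 2280000
  · exact allR_spec chkS284 s (by omega) (by omega)
  by_cases h285 : s < 2288000
  · exact allR_spec chkS285 s (by omega) (by omega)
  by_cases h286 : s < 2296000
  · exact allR_spec chkS286 s (by omega) (by omega)
  by_cases h287 : s < 2304000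
  · exact allR_spec chkS287 s (by omega) (by omega)
  by_cases h288 : s < 2312000
  · exact allR_spec chkS288 s (by omega) (by omega)
  by_cases h289 : s < 2320000
  · exact allR_spec chkS289 s (by omega) (by omega)
  by_cases h290 : s < 2328000
  · exact allR_spec chkS290 s (by omega) (by omega)
  by_cases h291 : s < 2336000
  · exact allR_spec chkS291 s (by omega) (by omega)
  by_cases h292 : s < 2344000
  · exact allR_spec chkS292 s (by omega) (by omega)
  by_cases h293 : s < 2352000
  · exact allR_spec chkS293 s (by omega) (by omega)
  by_cases h294 : s < 2356756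
  · exact allR_spec chkS294 s (by omega) (by omega)
  omega

theorem hN : ∀ ν < n, chkName SH NH NC WD n ncol nrw nw tmax ν = true := by
  intro ν hν
  have hν' : ν < 589189 := hν
  by_cases h0 : ν < 6000
  · exact allR_spec chkN0 ν (by omega) (by omega)
  by_cases h1 : ν < 12000
  · exact allR_spec chkN1 ν (by omega) (by omega)
  by_cases h2 : ν < 18000
  · exact allR_spec chkN2 ν (by omega) (by omega)
  by_cases h3 : ν < 24000
  · exact allR_spec chkN3 ν (by omega) (by omega)
  by_cases h4 : ν < 30000
  · exact allR_spec chkN4 ν (by omega) (by omega)
  by_cases h5 : ν < 36000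
  · exact allR_spec chkN5 ν (by omega) (by omega)
  by_cases h6 : ν < 42000
  · exact allR_spec chkN6 ν (by omega) (by omega)
  by_cases h7 : ν < 48000
  · exact allR_spec chkN7 ν (by omega) (by omega)
  by_cases h8 : ν < 54000
  · exact allR_spec chkN8 ν (by omega) (by omega)
  by_cases h9 : ν < 60000
  · exact allR_spec chkN9 ν (by omega) (by omega)
  by_cases h10 : ν < 66000
  · exact allR_spec chkN10 ν (by omega) (by omega)
  by_cases h11 : ν < 72000
  · exact allR_spec chkN11 ν (by omega) (by omega)
  by_cases h12 : ν < 78000
  · exact allR_spec chkN12 ν (by omega) (by omega)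
  by_cases h13 : ν < 84000
  · exact allR_spec chkN13 ν (by omega) (by omega)
  by_cases h14 : ν < 90000
  · exact allR_spec chkN14 ν (by omega) (by omega)
  by_cases h15 : ν < 96000
  · exact allR_spec chkN15 ν (by omega) (by omega)
  by_cases h16 : ν < 102000
  · exact allR_spec chkN16 ν (by omega) (by omega)
  by_cases h17 : ν < 108000
  · exact allR_spec chkN17 ν (by omega) (by omega)
  by_cases h18 : ν < 114000
  · exact allR_spec chkN18 ν (by omega) (by omega)
  by_cases h19 : ν < 120000
  · exact allR_spec chkN19 ν (by omega) (by omega)
  by_cases h20 : ν < 126000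
  · exact allR_spec chkN20 ν (by omega) (by omega)
  by_cases h21 : ν < 132000
  · exact allR_spec chkN21 ν (by omega) (by omega)
  by_cases h22 : ν < 138000
  · exact allR_spec chkN22 ν (by omega) (by omega)
  by_cases h23 : ν < 144000
  · exact allR_spec chkN23 ν (by omega) (by omega)
  by_cases h24 : ν < 150000
  · exact allR_spec chkN24 ν (by omega) (by omega)
  by_cases h25 : ν < 156000
  · exact allR_spec chkN25 ν (by omega) (by omega)
  by_cases h26 : ν < 162000
  · exact allR_spec chkN26 ν (by omega) (by omega)
  by_cases h27 : ν < 168000
  · exact allR_spec chkN27 ν (by omega) (by omega)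
  by_cases h28 : ν < 174000
  · exact allR_spec chkN28 ν (by omega) (by omega)
  by_cases h29 : ν < 180000
  · exact allR_spec chkN29 ν (by omega) (by omega)
  by_cases h30 : ν < 186000
  · exact allR_spec chkN30 ν (by omega) (by omega)
  by_cases h31 : ν < 192000
  · exact allR_spec chkN31 ν (by omega) (by omega)
  by_cases h32 : ν < 198000
  · exact allR_spec chkN32 ν (by omega) (by omega)
  by_cases h33 : ν < 204000
  · exact allR_spec chkN33 ν (by omega) (by omega)
  by_cases h34 : ν < 210000
  · exact allR_spec chkN34 ν (by omega) (by omega)
  by_cases h35 : ν < 216000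
  · exact allR_spec chkN35 ν (by omega) (by omega)
  by_cases h36 : ν < 222000
  · exact allR_spec chkN36 ν (by omega) (by omega)
  by_cases h37 : ν < 228000
  · exact allR_spec chkN37 ν (by omega) (by omega)
  by_cases h38 : ν < 234000
  · exact allR_spec chkN38 ν (by omega) (by omega)
  by_cases h39 : ν < 240000
  · exact allR_spec chkN39 ν (by omega) (by omega)
  by_cases h40 : ν < 246000
  · exact allR_spec chkN40 ν (by omega) (by omega)
  by_cases h41 : ν < 252000
  · exact allR_spec chkN41 ν (by omega) (by omega)
  by_cases h42 : ν < 258000
  · exact allR_spec chkN42 ν (by omega) (by omega)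
  by_cases h43 : ν < 264000
  · exact allR_spec chkN43 ν (by omega) (by omega)
  by_cases h44 : ν < 270000
  · exact allR_spec chkN44 ν (by omega) (by omega)
  by_cases h45 : ν < 276000
  · exact allR_spec chkN45 ν (by omega) (by omega)
  by_cases h46 : ν < 282000
  · exact allR_spec chkN46 ν (by omega) (by omega)
  by_cases h47 : ν < 288000
  · exact allR_spec chkN47 ν (by omega) (by omega)
  by_cases h48 : ν < 294000
  · exact allR_spec chkN48 ν (by omega) (by omega)
  by_cases h49 : ν < 300000
  · exact allR_spec chkN49 ν (by omega) (by omega)
  by_cases h50 : ν < 306000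
  · exact allR_spec chkN50 ν (by omega) (by omega)
  by_cases h51 : ν < 312000
  · exact allR_spec chkN51 ν (by omega) (by omega)
  by_cases h52 : ν < 318000
  · exact allR_spec chkN52 ν (by omega) (by omega)
  by_cases h53 : ν < 324000
  · exact allR_spec chkN53 ν (by omega) (by omega)
  by_cases h54 : ν < 330000
  · exact allR_spec chkN54 ν (by omega) (by omega)
  by_cases h55 : ν < 336000
  · exact allR_spec chkN55 ν (by omega) (by omega)
  by_cases h56 : ν < 342000
  · exact allR_spec chkN56 ν (by omega) (by omega)
  by_cases h57 : ν < 348000
  · exact allR_spec chkN57 ν (by omega) (by omega)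
  by_cases h58 : ν < 354000
  · exact allR_spec chkN58 ν (by omega) (by omega)
  by_cases h59 : ν < 360000
  · exact allR_spec chkN59 ν (by omega) (by omega)
  by_cases h60 : ν < 366000
  · exact allR_spec chkN60 ν (by omega) (by omega)
  by_cases h61 : ν < 372000
  · exact allR_spec chkN61 ν (by omega) (by omega)
  by_cases h62 : ν < 378000
  · exact allR_spec chkN62 ν (by omega) (by omega)
  by_cases h63 : ν < 384000
  · exact allR_spec chkN63 ν (by omega) (by omega)
  by_cases h64 : ν < 390000
  · exact allR_spec chkN64 ν (by omega) (by omega)
  by_cases h65 : ν < 396000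
  · exact allR_spec chkN65 ν (by omega) (by omega)
  by_cases h66 : ν < 402000
  · exact allR_spec chkN66 ν (by omega) (by omega)
  by_cases h67 : ν < 408000
  · exact allR_spec chkN67 ν (by omega) (by omega)
  by_cases h68 : ν < 414000
  · exact allR_spec chkN68 ν (by omega) (by omega)
  by_cases h69 : ν < 420000
  · exact allR_spec chkN69 ν (by omega) (by omega)
  by_cases h70 : ν < 426000
  · exact allR_spec chkN70 ν (by omega) (by omega)
  by_cases h71 : ν < 432000
  · exact allR_spec chkN71 ν (by omega) (by omega)
  by_cases h72 : ν < 438000
  · exact allR_spec chkN72 ν (by omega) (by omega)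
  by_cases h73 : ν < 444000
  · exact allR_spec chkN73 ν (by omega) (by omega)
  by_cases h74 : ν < 450000
  · exact allR_spec chkN74 ν (by omega) (by omega)
  by_cases h75 : ν < 456000
  · exact allR_spec chkN75 ν (by omega) (by omega)
  by_cases h76 : ν < 462000
  · exact allR_spec chkN76 ν (by omega) (by omega)
  by_cases h77 : ν < 468000
  · exact allR_spec chkN77 ν (by omega) (by omega)
  by_cases h78 : ν < 474000
  · exact allR_spec chkN78 ν (by omega) (by omega)
  by_cases h79 : ν < 480000
  · exact allR_spec chkN79 ν (by omega) (by omega)
  by_cases h80 : ν < 486000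
  · exact allR_spec chkN80 ν (by omega) (by omega)
  by_cases h81 : ν < 492000
  · exact allR_spec chkN81 ν (by omega) (by omega)
  by_cases h82 : ν < 498000
  · exact allR_spec chkN82 ν (by omega) (by omega)
  by_cases h83 : ν < 504000
  · exact allR_spec chkN83 ν (by omega) (by omega)
  by_cases h84 : ν < 510000
  · exact allR_spec chkN84 ν (by omega) (by omega)
  by_cases h85 : ν < 516000
  · exact allR_spec chkN85 ν (by omega) (by omega)
  by_cases h86 : ν < 522000
  · exact allR_spec chkN86 ν (by omega) (by omega)
  by_cases h87 : ν < 528000
  · exact allR_spec chkN87 ν (by omega) (by omega)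
  by_cases h88 : ν < 534000
  · exact allR_spec chkN88 ν (by omega) (by omega)
  by_cases h89 : ν < 540000
  · exact allR_spec chkN89 ν (by omega) (by omega)
  by_cases h90 : ν < 546000
  · exact allR_spec chkN90 ν (by omega) (by omega)
  by_cases h91 : ν < 552000
  · exact allR_spec chkN91 ν (by omega) (by omega)
  by_cases h92 : ν < 558000
  · exact allR_spec chkN92 ν (by omega) (by omega)
  by_cases h93 : ν < 564000
  · exact allR_spec chkN93 ν (by omega) (by omega)
  by_cases h94 : ν < 570000
  · exact allR_spec chkN94 ν (by omega) (by omega)
  by_cases h95 : ν < 576000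
  · exact allR_spec chkN95 ν (by omega) (by omega)
  by_cases h96 : ν < 582000
  · exact allR_spec chkN96 ν (by omega) (by omega)
  by_cases h97 : ν < 588000
  · exact allR_spec chkN97 ν (by omega) (by omega)
  by_cases h98 : ν < 589189
  · exact allR_spec chkN98 ν (by omega) (by omega)
  omega

theorem hL : ∀ ν < n, chkLive SH NH n ncol tmax ν = true := by
  intro ν hν
  have hν' : ν < 589189 := hν
  by_cases h0 : ν < 6000
  · exact allR_spec chkL0 ν (by omega) (by omega)
  by_cases h1 : ν < 12000
  · exact allR_spec chkL1 ν (by omega) (by omega)
  by_cases h2 : ν < 18000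
  · exact allR_spec chkL2 ν (by omega) (by omega)
  by_cases h3 : ν < 24000
  · exact allR_spec chkL3 ν (by omega) (by omega)
  by_cases h4 : ν < 30000
  · exact allR_spec chkL4 ν (by omega) (by omega)
  by_cases h5 : ν < 36000
  · exact allR_spec chkL5 ν (by omega) (by omega)
  by_cases h6 : ν < 42000
  · exact allR_spec chkL6 ν (by omega) (by omega)
  by_cases h7 : ν < 48000
  · exact allR_spec chkL7 ν (by omega) (by omega)
  by_cases h8 : ν < 54000
  · exact allR_spec chkL8 ν (by omega) (by omega)
  by_cases h9 : ν < 60000
  · exact allR_spec chkL9 ν (by omega) (by omega)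
  by_cases h10 : ν < 66000
  · exact allR_spec chkL10 ν (by omega) (by omega)
  by_cases h11 : ν < 72000
  · exact allR_spec chkL11 ν (by omega) (by omega)
  by_cases h12 : ν < 78000
  · exact allR_spec chkL12 ν (by omega) (by omega)
  by_cases h13 : ν < 84000
  · exact allR_spec chkL13 ν (by omega) (by omega)
  by_cases h14 : ν < 90000
  · exact allR_spec chkL14 ν (by omega) (by omega)
  by_cases h15 : ν < 96000
  · exact allR_spec chkL15 ν (by omega) (by omega)
  by_cases h16 : ν < 102000
  · exact allR_spec chkL16 ν (by omega) (by omega)
  by_cases h17 : ν < 108000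
  · exact allR_spec chkL17 ν (by omega) (by omega)
  by_cases h18 : ν < 114000
  · exact allR_spec chkL18 ν (by omega) (by omega)
  by_cases h19 : ν < 120000
  · exact allR_spec chkL19 ν (by omega) (by omega)
  by_cases h20 : ν < 126000
  · exact allR_spec chkL20 ν (by omega) (by omega)
  by_cases h21 : ν < 132000
  · exact allR_spec chkL21 ν (by omega) (by omega)
  by_cases h22 : ν < 138000
  · exact allR_spec chkL22 ν (by omega) (by omega)
  by_cases h23 : ν < 144000
  · exact allR_spec chkL23 ν (by omega) (by omega)
  by_cases h24 : ν < 150000
  · exact allR_spec chkL24 ν (by omega) (by omega)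
  by_cases h25 : ν < 156000
  · exact allR_spec chkL25 ν (by omega) (by omega)
  by_cases h26 : ν < 162000
  · exact allR_spec chkL26 ν (by omega) (by omega)
  by_cases h27 : ν < 168000
  · exact allR_spec chkL27 ν (by omega) (by omega)
  by_cases h28 : ν < 174000
  · exact allR_spec chkL28 ν (by omega) (by omega)
  by_cases h29 : ν < 180000
  · exact allR_spec chkL29 ν (by omega) (by omega)
  by_cases h30 : ν < 186000
  · exact allR_spec chkL30 ν (by omega) (by omega)
  by_cases h31 : ν < 192000
  · exact allR_spec chkL31 ν (by omega) (by omega)
  by_cases h32 : ν < 198000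
  · exact allR_spec chkL32 ν (by omega) (by omega)
  by_cases h33 : ν < 204000
  · exact allR_spec chkL33 ν (by omega) (by omega)
  by_cases h34 : ν < 210000
  · exact allR_spec chkL34 ν (by omega) (by omega)
  by_cases h35 : ν < 216000
  · exact allR_spec chkL35 ν (by omega) (by omega)
  by_cases h36 : ν < 222000
  · exact allR_spec chkL36 ν (by omega) (by omega)
  by_cases h37 : ν < 228000
  · exact allR_spec chkL37 ν (by omega) (by omega)
  by_cases h38 : ν < 234000
  · exact allR_spec chkL38 ν (by omega) (by omega)
  by_cases h39 : ν < 240000
  · exact allR_spec chkL39 ν (by omega) (by omega)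
  by_cases h40 : ν < 246000
  · exact allR_spec chkL40 ν (by omega) (by omega)
  by_cases h41 : ν < 252000
  · exact allR_spec chkL41 ν (by omega) (by omega)
  by_cases h42 : ν < 258000
  · exact allR_spec chkL42 ν (by omega) (by omega)
  by_cases h43 : ν < 264000
  · exact allR_spec chkL43 ν (by omega) (by omega)
  by_cases h44 : ν < 270000
  · exact allR_spec chkL44 ν (by omega) (by omega)
  by_cases h45 : ν < 276000
  · exact allR_spec chkL45 ν (by omega) (by omega)
  by_cases h46 : ν < 282000
  · exact allR_spec chkL46 ν (by omega) (by omega)
  by_cases h47 : ν < 288000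
  · exact allR_spec chkL47 ν (by omega) (by omega)
  by_cases h48 : ν < 294000
  · exact allR_spec chkL48 ν (by omega) (by omega)
  by_cases h49 : ν < 300000
  · exact allR_spec chkL49 ν (by omega) (by omega)
  by_cases h50 : ν < 306000
  · exact allR_spec chkL50 ν (by omega) (by omega)
  by_cases h51 : ν < 312000
  · exact allR_spec chkL51 ν (by omega) (by omega)
  by_cases h52 : ν < 318000
  · exact allR_spec chkL52 ν (by omega) (by omega)
  by_cases h53 : ν < 324000
  · exact allR_spec chkL53 ν (by omega) (by omega)
  by_cases h54 : ν < 330000
  · exact allR_spec chkL54 ν (by omega) (by omega)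
  by_cases h55 : ν < 336000
  · exact allR_spec chkL55 ν (by omega) (by omega)
  by_cases h56 : ν < 342000
  · exact allR_spec chkL56 ν (by omega) (by omega)
  by_cases h57 : ν < 348000
  · exact allR_spec chkL57 ν (by omega) (by omega)
  by_cases h58 : ν < 354000
  · exact allR_spec chkL58 ν (by omega) (by omega)
  by_cases h59 : ν < 360000
  · exact allR_spec chkL59 ν (by omega) (by omega)
  by_cases h60 : ν < 366000
  · exact allR_spec chkL60 ν (by omega) (by omega)
  by_cases h61 : ν < 372000
  · exact allR_spec chkL61 ν (by omega) (by omega)
  by_cases h62 : ν < 378000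
  · exact allR_spec chkL62 ν (by omega) (by omega)
  by_cases h63 : ν < 384000
  · exact allR_spec chkL63 ν (by omega) (by omega)
  by_cases h64 : ν < 390000
  · exact allR_spec chkL64 ν (by omega) (by omega)
  by_cases h65 : ν < 396000
  · exact allR_spec chkL65 ν (by omega) (by omega)
  by_cases h66 : ν < 402000
  · exact allR_spec chkL66 ν (by omega) (by omega)
  by_cases h67 : ν < 408000
  · exact allR_spec chkL67 ν (by omega) (by omega)
  by_cases h68 : ν < 414000
  · exact allR_spec chkL68 ν (by omega) (by omega)
  by_cases h69 : ν < 420000
  · exact allR_spec chkL69 ν (by omega) (by omega)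
  by_cases h70 : ν < 426000
  · exact allR_spec chkL70 ν (by omega) (by omega)
  by_cases h71 : ν < 432000
  · exact allR_spec chkL71 ν (by omega) (by omega)
  by_cases h72 : ν < 438000
  · exact allR_spec chkL72 ν (by omega) (by omega)
  by_cases h73 : ν < 444000
  · exact allR_spec chkL73 ν (by omega) (by omega)
  by_cases h74 : ν < 450000
  · exact allR_spec chkL74 ν (by omega) (by omega)
  by_cases h75 : ν < 456000
  · exact allR_spec chkL75 ν (by omega) (by omega)
  by_cases h76 : ν < 462000
  · exact allR_spec chkL76 ν (by omega) (by omega)
  by_cases h77 : ν < 468000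
  · exact allR_spec chkL77 ν (by omega) (by omega)
  by_cases h78 : ν < 474000
  · exact allR_spec chkL78 ν (by omega) (by omega)
  by_cases h79 : ν < 480000
  · exact allR_spec chkL79 ν (by omega) (by omega)
  by_cases h80 : ν < 486000
  · exact allR_spec chkL80 ν (by omega) (by omega)
  by_cases h81 : ν < 492000
  · exact allR_spec chkL81 ν (by omega) (by omega)
  by_cases h82 : ν < 498000
  · exact allR_spec chkL82 ν (by omega) (by omega)
  by_cases h83 : ν < 504000
  · exact allR_spec chkL83 ν (by omega) (by omega)
  by_cases h84 : ν < 510000
  · exact allR_spec chkL84 ν (by omega) (by omega)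
  by_cases h85 : ν < 516000
  · exact allR_spec chkL85 ν (by omega) (by omega)
  by_cases h86 : ν < 522000
  · exact allR_spec chkL86 ν (by omega) (by omega)
  by_cases h87 : ν < 528000
  · exact allR_spec chkL87 ν (by omega) (by omega)
  by_cases h88 : ν < 534000
  · exact allR_spec chkL88 ν (by omega) (by omega)
  by_cases h89 : ν < 540000
  · exact allR_spec chkL89 ν (by omega) (by omega)
  by_cases h90 : ν < 546000
  · exact allR_spec chkL90 ν (by omega) (by omega)
  by_cases h91 : ν < 552000
  · exact allR_spec chkL91 ν (by omega) (by omega)
  by_cases h92 : ν < 558000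
  · exact allR_spec chkL92 ν (by omega) (by omega)
  by_cases h93 : ν < 564000
  · exact allR_spec chkL93 ν (by omega) (by omega)
  by_cases h94 : ν < 570000
  · exact allR_spec chkL94 ν (by omega) (by omega)
  by_cases h95 : ν < 576000
  · exact allR_spec chkL95 ν (by omega) (by omega)
  by_cases h96 : ν < 582000
  · exact allR_spec chkL96 ν (by omega) (by omega)
  by_cases h97 : ν < 588000
  · exact allR_spec chkL97 ν (by omega) (by omega)
  by_cases h98 : ν < 589189
  · exact allR_spec chkL98 ν (by omega) (by omega)
  omega

theorem hwords :
    (∀ j < nrw, j < nw → PresentedGroup.mk Rels (wordElt gc (wordL WD j)) = 1) ∧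
    (∀ j, nrw ≤ j → j < nw → wordElt gc (wordL WD j) ∈ Subgroup.closure S) ∧
    (∀ j < nw, ∀ c ∈ wordL WD j, c < ncol) :=
  words_ok (S := S) (nw := nw) hinvG hbl hbase
    (fun w hw => Subgroup.subset_closure (hsw' w hw).2) (fun j hj => allB_spec chkW j hj)

theorem idx_le : (subH Rels S).index ≤ N ∧ (subH Rels S).index ≠ 0 := by
  have h := index_le (rels := Rels) (S := S) (gc := gc) (n := n) (ncol := ncol) (nrw := nrw) (nw := nw)
    (tmax := tmax) (INV := Cfsg.Agent.Lib.Helper6.TCD.HNP1a.INV) (SH := SH) (SC := SC) (NH := NH) (NC := NC) (WD := WD)
    (by decide) hgen hinv1 hinvG (fun j hj => hwords.1 j hj (by unfold nrw nw at *; omega)) hwords.2.1 hwords.2.2 hS hN hL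
  have e : cntLive NH n tmax n = N := chkC
  rw [e] at h
  exact h

end helpers

end Cfsg.Agent.Lib.Helper6.HNP1Idx
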