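import Mathlib
import Cfsg.Agent.Lib.Helper6.TCP.HNP1
import Cfsg.Agent.Lib.Helper6.TC14
import Cfsg.Agent.Lib.Helper6.TCD.HNP1sa.All

set_option autoImplicit false

namespace Cfsg.Agent.Lib.Helper6.HNP1sIdx
open Cfsg.Agent.Lib.Helper6.TC Cfsg.Agent.Lib.Helper6.TCP.HNP1 Cfsg.Agent.Lib.Helper6.TCD.HNP1sa

/-! # The index and the suborbits of a subgroup of the group `HNP1s` presented by words -/

section helpers
set_option maxRecDepth 100000
set_option linter.unusedSimpArgs false

/-- the words of the generators of the subgroup -/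
def subw : List (List ℕ) := [[2, 0, 2, 2, 1, 3, 1, 3], [0, 2, 0, 2, 2, 0, 2, 0, 2, 2]]

/-- the generating set of the subgroup -/
abbrev S : Set (FreeGroup (Fin 4)) := wset 4 subw

theorem hsw : ∀ s ∈ S, ∃ w ∈ subw, s = wordElt gc w := wp_hsw subw

theorem hsw' : ∀ w ∈ subw, (∀ c ∈ w, c < 4) ∧ wordElt gc w ∈ S := wp_hsw' (by decide)

theorem hP : PHyp px N 4 Cfsg.Agent.Lib.Helper6.TCP.HNP1.INV where
  Npos := by decide
  hinv1 := hinv1
  hinvinv := hinvinv
  hlt := by
    intro c hc p hp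
    interval_cases c
    · exact (chkCol_spec chkP0 p hp).1
    · exact (chkCol_spec chkP1 p hp).1
    · exact (chkCol_spec chkP2 p hp).1
    · exact (chkCol_spec chkP3 p hp).1
  hpx := by
    intro c hc p hp
    interval_cases c
    · exact (chkCol_spec chkP0 p hp).2
    · exact (chkCol_spec chkP1 p hp).2
    · exact (chkCol_spec chkP2 p hp).2
    · exact (chkCol_spec chkP3 p hp).2

theorem px_c0 (p : ℕ) : px 0 p = P0 p := rfl
theorem px_c1 (p : ℕ) : px 1 p = P1 p := rfl
theorem px_c2 (p : ℕ) : px 2 p = P2 p := rfl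
theorem px_c3 (p : ℕ) : px 3 p = P3 p := rfl

theorem hfixk_0 : ∀ p < N, R0 p = p := by
  intro p hp
  have hp' : p < 1512 := hp
  exact chkFix_spec chkR0_0 p (by omega) (by omega)

theorem hfixw_0 (p : ℕ) : wapp px (base.getD 0 []) p = R0 p := by
  show wapp px [2, 2, 2, 2, 2, 2] p = _
  simp only [wapp_cons, wapp_nil, px_c0, px_c1, px_c2, px_c3]
  rfl

theorem hfixk_1 : ∀ p < N, R1 p = p := by
  intro p hp
  have hp' : p < 1512 := hp
  exact chkFix_spec chkR1_0 p (by omega) (by omega)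

theorem hfixw_1 (p : ℕ) : wapp px (base.getD 1 []) p = R1 p := by
  show wapp px [0, 0, 2, 0, 0, 3] p = _
  simp only [wapp_cons, wapp_nil, px_c0, px_c1, px_c2, px_c3]
  rfl

theorem hfixk_2 : ∀ p < N, R2 p = p := by
  intro p hp
  have hp' : p < 1512 := hp
  exact chkFix_spec chkR2_0 p (by omega) (by omega)

theorem hQU_2 : ∀ p < N, Q2 p = U2 p := by
  intro p hp
  have hp' : p < 1512 := hp
  exact chkEqF_spec chkQ2_0 p (by omega) (by omega)

theorem hUw_2 (p : ℕ) : wapp px [1, 3, 0, 2] p = U2 p := by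
  simp only [wapp_cons, wapp_nil, px_c0, px_c1, px_c2, px_c3]
  rfl

theorem hfixw_2 (p : ℕ) (hp : p < N) : wapp px (base.getD 2 []) p = R2 p := by
  have e : base.getD 2 [] = (List.replicate 3 [1, 3, 0, 2]).flatten := by decide +kernel
  rw [e, wapp_pow hP (by decide) (fun q hq => (hQU_2 q hq).trans (hUw_2 q).symm) 3 p hp]
  unfold R2
  simp only [Function.iterate_succ_apply, Function.iterate_zero_apply]

theorem hfixk_3 : ∀ p < N, R3 p = p := by
  intro p hp
  have hp' : p < 1512 := hp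
  exact chkFix_spec chkR3_0 p (by omega) (by omega)

theorem hQU_3 : ∀ p < N, Q3 p = U3 p := by
  intro p hp
  have hp' : p < 1512 := hp
  exact chkEqF_spec chkQ3_0 p (by omega) (by omega)

theorem hUw_3 (p : ℕ) : wapp px [1, 2, 2, 0, 2, 2, 2] p = U3 p := by
  simp only [wapp_cons, wapp_nil, px_c0, px_c1, px_c2, px_c3]
  rfl

theorem hfixw_3 (p : ℕ) (hp : p < N) : wapp px (base.getD 3 []) p = R3 p := by
  have e : base.getD 3 [] = (List.replicate 3 [1, 2, 2, 0, 2, 2, 2]).flatten := by decide +kernel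
  rw [e, wapp_pow hP (by decide) (fun q hq => (hQU_3 q hq).trans (hUw_3 q).symm) 3 p hp]
  unfold R3
  simp only [Function.iterate_succ_apply, Function.iterate_zero_apply]

theorem hfixk_4 : ∀ p < N, R4 p = p := by
  intro p hp
  have hp' : p < 1512 := hp
  exact chkFix_spec chkR4_0 p (by omega) (by omega)

theorem hQU_4 : ∀ p < N, Q4 p = U4 p := by
  intro p hp
  have hp' : p < 1512 := hp
  exact chkEqF_spec chkQ4_0 p (by omega) (by omega)

theorem hUw_4 (p : ℕ) : wapp px [0, 2] p = U4 p := by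
  simp only [wapp_cons, wapp_nil, px_c0, px_c1, px_c2, px_c3]
  rfl

theorem hfixw_4 (p : ℕ) (hp : p < N) : wapp px (base.getD 4 []) p = R4 p := by
  have e : base.getD 4 [] = (List.replicate 8 [0, 2]).flatten := by decide +kernel
  rw [e, wapp_pow hP (by decide) (fun q hq => (hQU_4 q hq).trans (hUw_4 q).symm) 8 p hp]
  unfold R4
  simp only [Function.iterate_succ_apply, Function.iterate_zero_apply]

theorem hfixk_5 : ∀ p < N, R5 p = p := by
  intro p hp
  have hp' : p < 1512 := hp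
  exact chkFix_spec chkR5_0 p (by omega) (by omega)

theorem hQU_5 : ∀ p < N, Q5 p = U5 p := by
  intro p hp
  have hp' : p < 1512 := hp
  exact chkEqF_spec chkQ5_0 p (by omega) (by omega)

theorem hUw_5 (p : ℕ) : wapp px [0, 2, 0, 2, 2, 2] p = U5 p := by
  simp only [wapp_cons, wapp_nil, px_c0, px_c1, px_c2, px_c3]
  rfl

theorem hfixw_5 (p : ℕ) (hp : p < N) : wapp px (base.getD 5 []) p = R5 p := by
  have e : base.getD 5 [] = (List.replicate 4 [0, 2, 0, 2, 2, 2]).flatten := by decide +kernel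
  rw [e, wapp_pow hP (by decide) (fun q hq => (hQU_5 q hq).trans (hUw_5 q).symm) 4 p hp]
  unfold R5
  simp only [Function.iterate_succ_apply, Function.iterate_zero_apply]

theorem hfixk_6 : ∀ p < N, R6 p = p := by
  intro p hp
  have hp' : p < 1512 := hp
  exact chkFix_spec chkR6_0 p (by omega) (by omega)

theorem hfixw_6 (p : ℕ) : wapp px (base.getD 6 []) p = R6 p := by
  show wapp px [0, 1] p = _
  simp only [wapp_cons, wapp_nil, px_c0, px_c1, px_c2, px_c3]
  rfl

theorem hfixk_7 : ∀ p < N, R7 p = p := by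
  intro p hp
  have hp' : p < 1512 := hp
  exact chkFix_spec chkR7_0 p (by omega) (by omega)

theorem hfixw_7 (p : ℕ) : wapp px (base.getD 7 []) p = R7 p := by
  show wapp px [2, 3] p = _
  simp only [wapp_cons, wapp_nil, px_c0, px_c1, px_c2, px_c3]
  rfl

theorem hfix_k : ∀ k < 8, ∀ p < N, wapp px (base.getD k []) p = p := by
  intro k hk
  interval_cases k
  · intro p hp
    rw [hfixw_0]
    exact hfixk_0 p hp
  · intro p hp
    rw [hfixw_1]
    exact hfixk_1 p hp
  · intro p hp
    rw [hfixw_2 p hp]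
    exact hfixk_2 p hp
  · intro p hp
    rw [hfixw_3 p hp]
    exact hfixk_3 p hp
  · intro p hp
    rw [hfixw_4 p hp]
    exact hfixk_4 p hp
  · intro p hp
    rw [hfixw_5 p hp]
    exact hfixk_5 p hp
  · intro p hp
    rw [hfixw_6]
    exact hfixk_6 p hp
  · intro p hp
    rw [hfixw_7]
    exact hfixk_7 p hp


theorem hfix : ∀ b ∈ base, ∀ p < N, wapp px b p = p := by
  intro b hb
  obtain ⟨k, hk, rfl⟩ := List.mem_iff_getElem.mp hb
  have hk' : k < 8 := hk
  have := hfix_k k hk'
  rw [List.getD_eq_getElem _ _ hk] at this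
  exact this

theorem htree : ∀ p, 0 < p → p < N → ∃ c < 4, ∃ q < p, px c q = p := chkTree_spec chkT

theorem hsubP : ∀ s ∈ S, ∃ w, (∀ c ∈ w, c < 4) ∧ s = wordElt gc w ∧ wapp px w 0 = 0 := by
  intro s hs
  obtain ⟨w, hw, rfl⟩ := hsw s hs
  refine ⟨w, (hsw' w hw).1, rfl, ?_⟩
  simp only [subw, List.mem_cons, List.mem_nil_iff, or_false] at hw
  rcases hw with rfl | rfl
  · exact Nat.eq_of_beq_eq_true chkH0
  · exact Nat.eq_of_beq_eq_true chkH1

end helpers

end Cfsg.Agent.Lib.Helper6.HNP1sIdx
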