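import Cfsg.Agent.Lib.Helper6.Spor.HNP1UB
import Cfsg.Agent.Lib.Helper6.Spor.HNP1sIdx
import Cfsg.Agent.Lib.Helper6.TCD.HNP1sL.LB

set_option autoImplicit false
set_option maxRecDepth 100000

namespace Cfsg.Agent.Lib.Helper6.HNP1Ord

open Cfsg.Agent.Lib.Helper6.TC Cfsg.Agent.Lib.Helper6.TCD
open Cfsg.Agent.Lib.Helper6.TCP.HNP1

/-! # The order of the presented group `HNP1`, and its faithful action on 1512 points -/

theorem ptFix_bot_of_card {G : Type*} [Group G] [Finite G] {N : ℕ} {φ : G →* Equiv.Perm (Fin N)}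
    {bs : List (Fin N)} {M : ℕ} (h1 : M * Nat.card (ptFix φ bs) ≤ Nat.card G) (h2 : Nat.card G ≤ M)
    (hM : 0 < M) : ptFix φ bs = ⊥ := by
  have hpos : 0 < Nat.card (ptFix φ bs) := Nat.card_pos
  have h3 : M * Nat.card (ptFix φ bs) ≤ M * 1 := by rw [mul_one]; exact h1.trans h2
  have h4 := Nat.le_of_mul_le_mul_left h3 hM
  exact Subgroup.card_eq_one.mp (le_antisymm h4 hpos)

theorem rep : ∃ φ : G →* Equiv.Perm (Fin 1512),
    (∀ w, (∀ c ∈ w, c < 4) → ∀ p : Fin 1512,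
      ((φ (PresentedGroup.mk Rels (wordElt gc w)))⁻¹ p).val = wapp HNP1sa.px w p.val) ∧
    Function.Injective φ ∧ Nat.card G = 1512000 ∧ Finite G ∧
    ptFix φ ([⟨1, by decide⟩, ⟨309, by decide⟩, ⟨0, by decide⟩] : List (Fin 1512)) = ⊥ := by
  obtain ⟨φ, hw, _, _⟩ := perm_rep (rels := Rels) (S := HNP1sIdx.S)
    HNP1sIdx.hP hC (rel_cover HNP1sIdx.hP HNP1sIdx.hfix) HNP1sIdx.hsubP HNP1sIdx.htree
  have hfin : Finite G := HNP1UB.card_le.1
  have hlb := HNP1sL.chain_lb (φ := φ) hw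
  obtain ⟨hinj, hcard⟩ := faithful_of_card hlb HNP1UB.card_le.2 (by norm_num)
  exact ⟨φ, hw, hinj, hcard, hfin, ptFix_bot_of_card hlb HNP1UB.card_le.2 (by norm_num)⟩

end Cfsg.Agent.Lib.Helper6.HNP1Ord
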