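import Cfsg.Agent.Lib.Helper6.WP3
import Cfsg.Agent.Lib.Helper6.Spor.HNP1Idx
import Cfsg.Agent.Lib.Helper6.TCD.HNC6U.Idx

set_option autoImplicit false
set_option maxRecDepth 100000

namespace Cfsg.Agent.Lib.Helper6.HNP1UB

open Cfsg.Agent.Lib.Helper6.TC Cfsg.Agent.Lib.Helper6.TCD

/-! # The order of the group `HNP1` presented by words is at most 1512000 -/

theorem sub_le : Finite (WG 2 HNC6U.base) ∧ Nat.card (WG 2 HNC6U.base) ≤ 6 :=
  wp_bottom HNC6U.idx

theorem card_le : Finite TCP.HNP1.G ∧ Nat.card TCP.HNP1.G ≤ 1512000 := by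
  have h := wp_step (k := 4) (k' := 2) (base := TCP.HNP1.base) (subw := HNP1Idx.subw)
    (fun i => [2, 3].getD i 0) HNP1Idx.idx_le (by decide) HNC6U.hbl
    (by decide +kernel) sub_le
  exact ⟨h.1, h.2.trans (by norm_num [TCD.HNP1a.N])⟩

end Cfsg.Agent.Lib.Helper6.HNP1UB
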