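import Cfsg.Agent.Lib.Helper6.WP5
import Cfsg.Agent.Lib.Helper6.TCP.He
import Cfsg.Agent.Lib.Helper6.TCD.HeK.Rep
import Cfsg.Agent.Lib.Helper6.TCD.HeT.Idx
import Cfsg.Agent.Lib.Helper6.TCD.HeU1.Idx
import Cfsg.Agent.Lib.Helper6.TCD.HeU2.Idx

set_option autoImplicit false
set_option maxRecDepth 100000

namespace Cfsg.Agent.Lib.Helper6.HeUB

open Cfsg.Spor Cfsg.Agent.Lib.Helper6.TC Cfsg.Agent.Lib.Helper6.TCD

/-! # The order of the presented group He is at most 4030387200 -/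

/-- a relator between `c`, `d`, `e` that holds in the subgroup `⟨a, b, c, d, e⟩` -/
def wW : List ℕ := [2, 3, 2, 3, 4, 3, 2, 3, 2, 3, 4, 3, 2, 3, 4]

theorem hW0 : wapp HeK.px wW 0 = 0 := by decide +kernel

theorem hW : PresentedGroup.mk TCP.He.Rels (wordElt TCP.He.gc wW) = 1 := by
  have h1 := wp_eq_one_of_mem_nil (HeK.mem0 wW (by decide) hW0)
  have h2 := map_eq_one_of_wp (rels := TCP.He.Rels) (gc := TCP.He.gc) (k := 5) (base' := HeK.base)
    (fun i => i) HeK.hbl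
    (fun b hb => TCP.He.hbase _ (by revert b; decide +kernel)) (w := wW) (by decide) h1
  rwa [List.map_id'] at h2

theorem u2 : Finite (WG 5 HeU2.base) ∧ Nat.card (WG 5 HeU2.base) ≤ 336 :=
  wp_bottom HeU2.idx

theorem u1 : Finite (WG 6 HeU1.base) ∧ Nat.card (WG 6 HeU1.base) ≤ 240 * 336 :=
  wp_step (k := 6) (k' := 5) (fun i => [0, 2, 3, 4, 5].getD i 0) HeU1.idx (by decide) HeU2.hbl
    (by decide +kernel) u2

/-- the map of the columns of the subgroup `⟨a, c, d, e, f, g⟩` -/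
def cm (i : ℕ) : ℕ := [0, 2, 3, 4, 5, 6].getD i 0

theorem hS : ∀ s ∈ HeT.S, ∃ i < 6, s = ceOf TCP.He.gc (cm i) := by
  intro s hs
  simp only [HeT.S, Set.mem_insert_iff, Set.mem_singleton_iff] at hs
  rcases hs with rfl | rfl | rfl | rfl | rfl | rfl
  · exact ⟨0, by decide, rfl⟩
  · exact ⟨1, by decide, rfl⟩
  · exact ⟨2, by decide, rfl⟩
  · exact ⟨3, by decide, rfl⟩
  · exact ⟨4, by decide, rfl⟩
  · exact ⟨5, by decide, rfl⟩

theorem hmap : ∀ b ∈ HeU1.base, b.map cm ∈ TCP.He.base ∨ b.map cm = wW := by decide +kernel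

theorem hrel : ∀ b ∈ HeU1.base,
    PresentedGroup.mk TCP.He.Rels (wordElt TCP.He.gc (b.map cm)) = 1 := by
  intro b hb
  rcases hmap b hb with h | h
  · exact TCP.He.hbase _ h
  · rw [h]
    exact hW

theorem card_le : Finite He ∧ Nat.card He ≤ 4030387200 := by
  have h := top_step' (rels := TCP.He.Rels) (gc := TCP.He.gc) (S := HeT.S) (k' := 6)
    (base' := HeU1.base) cm HeT.idx hS HeU1.hbl hrel u1
  exact ⟨h.1, h.2.trans (by norm_num)⟩

end Cfsg.Agent.Lib.Helper6.HeUB
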