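import Cfsg.Agent.Lib.Helper6.Spor.HeZIdx
import Cfsg.Agent.Lib.Helper6.Spor.HeOrd2

set_option autoImplicit false
set_option maxRecDepth 100000
set_option Elab.async false

namespace Cfsg.Agent.Lib.Helper6.HeZ1

open Cfsg.Spor Cfsg.Agent.Lib.Helper6.TC Cfsg.Agent.Lib.Helper6.TCD Cfsg.Agent.Lib.Helper6.Simp
open Cfsg.Agent.Lib.Helper6.TCP.He

/-! # The centraliser of the involution `d` of the Held group: the subgroup of index 187425 -/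

/-- the subgroup -/
abbrev C0 : Subgroup He := subH Rels HeZIdx.S

/-- the involution -/
noncomputable def z : He := PresentedGroup.mk Rels (wordElt gc [3])

/-- the action on the cosets of the subgroup -/
theorem repZ : ∃ φ : He →* Equiv.Perm (Fin 187425),
    (∀ w, (∀ c ∈ w, c < 7) → ∀ p : Fin 187425,
      ((φ (PresentedGroup.mk Rels (wordElt gc w)))⁻¹ p).val = wapp HeZ.px w p.val) ∧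
    (∀ g, g ∈ C0 ↔ φ g 0 = 0) ∧ C0.index = 187425 := by
  obtain ⟨φ, hw, hfixH, htrans⟩ := perm_rep (rels := Rels) (S := HeZIdx.S)
    HeZIdx.hP hC (rel_cover HeZIdx.hP HeZIdx.hfix) HeZIdx.hsubP HeZIdx.htree
  obtain ⟨hidx, _⟩ := index_eq HeZIdx.hP.Npos hfixH htrans HeZIdx.idx_le.1 HeZIdx.idx_le.2
  refine ⟨φ, hw, fun g => ⟨hfixH g, fun hg => ?_⟩, hidx⟩
  exact mem_of_fix (N := 187425) φ C0 (0 : Fin 187425) hfixH htrans hidx (by norm_num) hg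

/-- two words with the same action on the 2058 points give the same element -/
theorem mk_eq_of_wapp (A B : List ℕ) (hA : ∀ c ∈ A, c < 7) (hB : ∀ c ∈ B, c < 7)
    (h : ∀ p < 2058, wapp Hea.px A p = wapp Hea.px B p) :
    PresentedGroup.mk Rels (wordElt gc A) = PresentedGroup.mk Rels (wordElt gc B) := by
  obtain ⟨φ, hw, _, _, hinj, _⟩ := HeOrd.rep2
  apply hinj
  apply inv_injective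
  ext p
  rw [hw A hA p, hw B hB p]
  exact h p.val p.isLt

theorem hcommW : ∀ w ∈ HeZIdx.subw, ∀ p < 2058,
    wapp Hea.px (w ++ [3]) p = wapp Hea.px (3 :: w) p := by
  decide +kernel

theorem hsq : ∀ p < 2058, wapp Hea.px [3, 3] p = wapp Hea.px [] p := by
  decide +kernel

theorem hmove : wapp Hea.px [3] 2 ≠ 2 := by
  decide +kernel

theorem z_mul_self : z * z = 1 := by
  have h := mk_eq_of_wapp [3, 3] [] (by decide) (by decide) hsq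
  rw [show ([3, 3] : List ℕ) = [3] ++ [3] from rfl, wordElt_append, map_mul, wordElt_nil,
    map_one] at h
  exact h

theorem z_ne_one : z ≠ 1 := HeOrd.ne_one_of_move [3] (by decide) (by decide : 2 < 2058) hmove

theorem orderOf_z : orderOf z = 2 := by
  refine orderOf_eq_prime ?_ z_ne_one
  rw [pow_two]
  exact z_mul_self

/-- the subgroup centralises the involution -/
theorem C0_le : C0 ≤ Subgroup.centralizer {z} := by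
  show (Subgroup.closure HeZIdx.S).map (PresentedGroup.mk Rels) ≤ _
  rw [MonoidHom.map_closure, Subgroup.closure_le]
  rintro _ ⟨s, hs, rfl⟩
  obtain ⟨w, hw, rfl⟩ := HeZIdx.hsw s hs
  rw [SetLike.mem_coe, Subgroup.mem_centralizer_iff]
  intro h hh
  rw [Set.mem_singleton_iff] at hh
  subst hh
  have hl := (HeZIdx.hsw' w hw).1
  have h1 := mk_eq_of_wapp (w ++ [3]) (3 :: w)
    (by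
      intro c hc
      rw [List.mem_append, List.mem_singleton] at hc
      rcases hc with hc | rfl
      · exact hl c hc
      · decide)
    (by
      intro c hc
      rw [List.mem_cons] at hc
      rcases hc with rfl | hc
      · decide
      · exact hl c hc)
    (hcommW w hw)
  rw [wordElt_append, map_mul, show (3 :: w : List ℕ) = [3] ++ w from rfl, wordElt_append,
    map_mul] at h1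
  exact h1.symm

/-- for each fixed point of the involution, a word leading to it and a point showing that
the word does not centralise the involution -/
def cert : List (ℕ × List ℕ × ℕ) := [
  (11, [5, 4], 1),
  (12, [6, 4], 1),
  (49, [4, 2, 3, 2], 1),
  (50, [5, 2, 3, 2], 1),
  (51, [6, 2, 3, 2], 1),
  (59, [2, 3, 4, 2], 1),
  (64, [2, 3, 5, 2], 1),
  (68, [2, 3, 6, 2], 1),
  (105, [4, 1, 2, 3, 2], 1),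
  (106, [5, 1, 2, 3, 2], 1),
  (107, [6, 1, 2, 3, 2], 1),
  (125, [1, 2, 3, 4, 2], 1),
  (138, [1, 2, 3, 5, 2], 1),
  (147, [1, 2, 3, 6, 2], 1),
  (157, [4, 3, 6, 3, 5], 1),
  (162, [4, 3, 5, 3, 6], 1),
  (230, [5, 0, 1, 2, 3, 2], 1),
  (231, [6, 0, 1, 2, 3, 2], 1),
  (242, [5, 2, 3, 4, 3, 2], 1),
  (243, [6, 2, 3, 4, 3, 2], 1),
  (246, [2, 3, 5, 4, 3, 2], 1),
  (249, [2, 3, 6, 4, 3, 2], 1),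
  (254, [4, 2, 3, 5, 3, 2], 1),
  (262, [4, 2, 3, 6, 3, 2], 1),
  (274, [2, 3, 5, 3, 4, 2], 1),
  (278, [2, 3, 6, 3, 4, 2], 1),
  (284, [4, 2, 3, 5, 4, 2], 1),
  (290, [4, 2, 3, 6, 4, 2], 1),
  (294, [0, 1, 2, 3, 5, 2], 1),
  (309, [0, 1, 2, 3, 6, 2], 1),
  (494, [1, 2, 3, 5, 4, 3, 2], 1),
  (499, [1, 2, 3, 6, 4, 3, 2], 1),
  (506, [4, 1, 2, 3, 5, 3, 2], 1),
  (519, [4, 1, 2, 3, 6, 3, 2], 1),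
  (532, [1, 2, 3, 5, 3, 4, 2], 1),
  (538, [1, 2, 3, 6, 3, 4, 2], 1),
  (592, [2, 3, 2, 3, 6, 3, 5], 1),
  (599, [2, 3, 2, 3, 5, 3, 6], 1),
  (915, [4, 3, 2, 3, 1, 2, 3, 2], 1),
  (916, [5, 3, 2, 3, 1, 2, 3, 2], 1),
  (917, [6, 3, 2, 3, 1, 2, 3, 2], 1),
  (933, [4, 2, 3, 5, 3, 4, 3, 2], 1),
  (935, [4, 2, 3, 6, 3, 4, 3, 2], 1),
  (936, [0, 1, 2, 3, 5, 4, 3, 2], 1),
  (941, [0, 1, 2, 3, 6, 4, 3, 2], 1),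
  (1015, [1, 2, 3, 2, 3, 6, 3, 5], 1),
  (1022, [1, 2, 3, 2, 3, 5, 3, 6], 1),
  (1505, [5, 2, 3, 1, 2, 3, 5, 1, 2], 1),
  (1613, [6, 2, 3, 1, 2, 3, 6, 1, 2], 1),
  (1706, [4, 3, 2, 3, 0, 1, 2, 3, 2], 1),
  (1707, [5, 3, 2, 3, 0, 1, 2, 3, 2], 1),
  (1708, [6, 3, 2, 3, 0, 1, 2, 3, 2], 1),
  (1752, [4, 3, 6, 3, 5, 2, 3, 4, 2], 1),
  (1753, [4, 3, 5, 3, 6, 2, 3, 4, 2], 1),
  (1781, [0, 1, 2, 3, 2, 3, 6, 3, 5], 1),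
  (1792, [0, 1, 2, 3, 2, 3, 5, 3, 6], 1),
  (2819, [5, 2, 3, 0, 1, 2, 3, 5, 1, 2], 1),
  (2832, [5, 1, 2, 3, 1, 2, 3, 5, 1, 2], 1),
  (3026, [6, 2, 3, 0, 1, 2, 3, 6, 1, 2], 1),
  (3039, [6, 1, 2, 3, 1, 2, 3, 6, 1, 2], 1),
  (3245, [4, 3, 2, 3, 5, 4, 1, 2, 3, 2], 1),
  (3246, [5, 3, 2, 3, 5, 4, 1, 2, 3, 2], 1),
  (3250, [4, 3, 2, 3, 6, 4, 1, 2, 3, 2], 1),
  (3252, [6, 3, 2, 3, 6, 4, 1, 2, 3, 2], 1),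
  (3266, [4, 3, 2, 3, 1, 2, 3, 5, 3, 2], 1),
  (3267, [5, 3, 2, 3, 1, 2, 3, 5, 3, 2], 1),
  (3272, [4, 3, 2, 3, 1, 2, 3, 6, 3, 2], 1),
  (3274, [6, 3, 2, 3, 1, 2, 3, 6, 3, 2], 1),
  (3277, [4, 3, 2, 3, 5, 1, 2, 3, 4, 2], 1),
  (3278, [5, 3, 2, 3, 5, 1, 2, 3, 4, 2], 1),
  (3282, [4, 3, 2, 3, 6, 1, 2, 3, 4, 2], 1),
  (3284, [6, 3, 2, 3, 6, 1, 2, 3, 4, 2], 1),
  (3287, [4, 3, 2, 3, 1, 2, 3, 5, 4, 2], 1),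
  (3288, [5, 3, 2, 3, 1, 2, 3, 5, 4, 2], 1),
  (3293, [4, 3, 2, 3, 1, 2, 3, 6, 4, 2], 1),
  (3295, [6, 3, 2, 3, 1, 2, 3, 6, 4, 2], 1),
  (3300, [4, 3, 2, 3, 4, 1, 2, 3, 5, 2], 1),
  (3301, [5, 3, 2, 3, 4, 1, 2, 3, 5, 2], 1),
  (3306, [6, 3, 2, 3, 6, 1, 2, 3, 5, 2], 1),
  (3315, [4, 3, 2, 3, 4, 1, 2, 3, 6, 2], 1),
  (3317, [6, 3, 2, 3, 4, 1, 2, 3, 6, 2], 1),
  (3321, [5, 3, 2, 3, 5, 1, 2, 3, 6, 2], 1),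
  (5195, [2, 3, 6, 3, 1, 2, 3, 5, 3, 1, 2], 1),
  (5388, [2, 3, 5, 3, 1, 2, 3, 6, 3, 1, 2], 1),
  (5537, [5, 1, 2, 3, 0, 1, 2, 3, 5, 1, 2], 1),
  (5561, [5, 0, 1, 2, 3, 1, 2, 3, 5, 1, 2], 1),
  (5581, [5, 2, 3, 4, 3, 1, 2, 3, 5, 1, 2], 1),
  (5946, [6, 1, 2, 3, 0, 1, 2, 3, 6, 1, 2], 1),
  (5970, [6, 0, 1, 2, 3, 1, 2, 3, 6, 1, 2], 1),
  (5990, [6, 2, 3, 4, 3, 1, 2, 3, 6, 1, 2], 1),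
  (6376, [4, 3, 6, 2, 3, 5, 4, 1, 2, 3, 2], 1),
  (6377, [5, 3, 6, 2, 3, 5, 4, 1, 2, 3, 2], 1),
  (6385, [4, 3, 5, 2, 3, 6, 4, 1, 2, 3, 2], 1),
  (6386, [6, 3, 5, 2, 3, 6, 4, 1, 2, 3, 2], 1),
  (6389, [6, 3, 4, 2, 3, 6, 5, 1, 2, 3, 2], 1),
  (6395, [5, 3, 4, 2, 3, 5, 6, 1, 2, 3, 2], 1),
  (6400, [4, 3, 2, 3, 0, 1, 2, 3, 5, 3, 2], 1),
  (6401, [5, 3, 2, 3, 0, 1, 2, 3, 5, 3, 2], 1),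
  (6417, [4, 3, 2, 3, 0, 1, 2, 3, 6, 3, 2], 1),
  (6419, [6, 3, 2, 3, 0, 1, 2, 3, 6, 3, 2], 1),
  (6440, [4, 3, 6, 2, 3, 5, 1, 2, 3, 4, 2], 1),
  (6441, [5, 3, 6, 2, 3, 5, 1, 2, 3, 4, 2], 1),
  (6449, [4, 3, 5, 2, 3, 6, 1, 2, 3, 4, 2], 1),
  (6450, [6, 3, 5, 2, 3, 6, 1, 2, 3, 4, 2], 1),
  (6459, [5, 6, 3, 2, 3, 1, 2, 3, 5, 4, 2], 1),
  (6461, [4, 3, 6, 2, 3, 1, 2, 3, 5, 4, 2], 1),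
  (6473, [6, 5, 3, 2, 3, 1, 2, 3, 6, 4, 2], 1),
  (6476, [4, 3, 5, 2, 3, 1, 2, 3, 6, 4, 2], 1),
  (6489, [5, 6, 3, 2, 3, 4, 1, 2, 3, 5, 2], 1),
  (6491, [4, 3, 6, 2, 3, 4, 1, 2, 3, 5, 2], 1),
  (6519, [6, 5, 3, 2, 3, 4, 1, 2, 3, 6, 2], 1),
  (6522, [4, 3, 5, 2, 3, 4, 1, 2, 3, 6, 2], 1),
  (6572, [5, 4, 2, 3, 2, 3, 1, 2, 3, 6, 5], 1),
  (6607, [6, 4, 2, 3, 2, 3, 1, 2, 3, 5, 6], 1),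
  (7637, [5, 4, 3, 2, 3, 1, 2, 3, 5, 0, 1, 2], 1),
  (7678, [6, 2, 3, 5, 6, 1, 2, 3, 5, 0, 1, 2], 1),
  (7874, [6, 4, 3, 2, 3, 1, 2, 3, 6, 0, 1, 2], 1),
  (7913, [5, 2, 3, 6, 5, 1, 2, 3, 6, 0, 1, 2], 1),
  (10358, [1, 2, 3, 6, 3, 1, 2, 3, 5, 3, 1, 2], 1),
  (10724, [1, 2, 3, 5, 3, 1, 2, 3, 6, 3, 1, 2], 1),
  (11066, [5, 3, 4, 3, 2, 3, 1, 2, 3, 5, 1, 2], 1),
  (11139, [5, 4, 3, 2, 3, 4, 1, 2, 3, 5, 1, 2], 1),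
  (11864, [6, 3, 4, 3, 2, 3, 1, 2, 3, 6, 1, 2], 1),
  (11937, [6, 4, 3, 2, 3, 4, 1, 2, 3, 6, 1, 2], 1),
  (12608, [5, 4, 3, 6, 5, 3, 2, 3, 1, 2, 3, 2], 1),
  (12613, [6, 4, 3, 5, 6, 3, 2, 3, 1, 2, 3, 2], 1),
  (14917, [5, 4, 3, 1, 2, 3, 1, 2, 3, 5, 0, 1, 2], 1),
  (15350, [6, 4, 3, 1, 2, 3, 1, 2, 3, 6, 0, 1, 2], 1),
  (19621, [2, 3, 5, 4, 3, 1, 2, 3, 5, 4, 3, 1, 2], 1),
  (19859, [2, 3, 6, 4, 3, 1, 2, 3, 6, 4, 3, 1, 2], 1),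
  (21262, [5, 3, 4, 3, 2, 3, 0, 1, 2, 3, 5, 1, 2], 1),
  (21328, [5, 3, 2, 3, 1, 2, 3, 1, 2, 3, 5, 1, 2], 1),
  (21334, [5, 3, 4, 3, 1, 2, 3, 1, 2, 3, 5, 1, 2], 1),
  (21447, [5, 4, 3, 1, 2, 3, 4, 1, 2, 3, 5, 1, 2], 1),
  (22598, [6, 3, 4, 3, 2, 3, 0, 1, 2, 3, 6, 1, 2], 1),
  (22664, [6, 3, 2, 3, 1, 2, 3, 1, 2, 3, 6, 1, 2], 1),
  (22670, [6, 3, 4, 3, 1, 2, 3, 1, 2, 3, 6, 1, 2], 1),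
  (22782, [6, 4, 3, 1, 2, 3, 4, 1, 2, 3, 6, 1, 2], 1),
  (23802, [5, 4, 3, 6, 5, 3, 2, 3, 0, 1, 2, 3, 2], 1),
  (23807, [6, 4, 3, 5, 6, 3, 2, 3, 0, 1, 2, 3, 2], 1),
  (23895, [4, 3, 2, 3, 5, 4, 3, 2, 3, 1, 2, 3, 2], 1),
  (23896, [5, 3, 2, 3, 5, 4, 3, 2, 3, 1, 2, 3, 2], 1),
  (23902, [4, 3, 2, 3, 6, 4, 3, 2, 3, 1, 2, 3, 2], 1),
  (23904, [6, 3, 2, 3, 6, 4, 3, 2, 3, 1, 2, 3, 2], 1),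
  (23912, [6, 3, 2, 3, 6, 5, 3, 2, 3, 1, 2, 3, 2], 1),
  (23921, [5, 3, 2, 3, 5, 6, 3, 2, 3, 1, 2, 3, 2], 1),
  (24638, [2, 3, 2, 3, 5, 3, 2, 3, 1, 2, 3, 0, 1, 2], 1),
  (24656, [2, 3, 2, 3, 6, 3, 2, 3, 1, 2, 3, 0, 1, 2], 1),
  (27771, [5, 4, 3, 0, 1, 2, 3, 1, 2, 3, 5, 0, 1, 2], 1),
  (27825, [4, 3, 2, 3, 5, 2, 3, 1, 2, 3, 5, 0, 1, 2], 1),
  (28424, [6, 4, 3, 0, 1, 2, 3, 1, 2, 3, 6, 0, 1, 2], 1),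
  (28477, [4, 3, 2, 3, 6, 2, 3, 1, 2, 3, 6, 0, 1, 2], 1),
  (30394, [5, 3, 6, 3, 2, 3, 5, 4, 3, 1, 2, 3, 1, 2], 1),
  (30443, [6, 3, 5, 3, 2, 3, 6, 4, 3, 1, 2, 3, 1, 2], 1),
  (30519, [2, 3, 5, 2, 3, 2, 3, 5, 3, 1, 2, 3, 1, 2], 1),
  (30559, [5, 2, 3, 2, 3, 6, 3, 5, 3, 1, 2, 3, 1, 2], 1),
  (30695, [2, 3, 6, 2, 3, 2, 3, 6, 3, 1, 2, 3, 1, 2], 1),
  (30731, [6, 2, 3, 2, 3, 5, 3, 6, 3, 1, 2, 3, 1, 2], 1),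
  (30894, [2, 3, 2, 3, 5, 3, 2, 3, 4, 1, 2, 3, 1, 2], 1),
  (30910, [2, 3, 2, 3, 6, 3, 2, 3, 4, 1, 2, 3, 1, 2], 1),
  (36027, [2, 3, 5, 4, 3, 0, 1, 2, 3, 5, 4, 3, 1, 2], 1),
  (36359, [2, 3, 6, 4, 3, 0, 1, 2, 3, 6, 4, 3, 1, 2], 1),
  (36757, [2, 3, 5, 2, 3, 2, 3, 1, 2, 3, 5, 3, 1, 2], 1),
  (36761, [2, 3, 6, 2, 3, 2, 3, 1, 2, 3, 5, 3, 1, 2], 1),
  (37713, [2, 3, 5, 2, 3, 2, 3, 1, 2, 3, 6, 3, 1, 2], 1),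
  (37717, [2, 3, 6, 2, 3, 2, 3, 1, 2, 3, 6, 3, 1, 2], 1),
  (38515, [5, 3, 2, 3, 1, 2, 3, 0, 1, 2, 3, 5, 1, 2], 1),
  (38599, [5, 3, 2, 3, 0, 1, 2, 3, 1, 2, 3, 5, 1, 2], 1),
  (38616, [5, 3, 4, 2, 3, 1, 2, 3, 1, 2, 3, 5, 1, 2], 1),
  (38656, [2, 3, 2, 3, 6, 3, 2, 3, 1, 2, 3, 5, 1, 2], 1),
  (38673, [4, 3, 2, 3, 5, 4, 2, 3, 1, 2, 3, 5, 1, 2], 1),
  (38804, [4, 3, 2, 3, 5, 2, 3, 4, 1, 2, 3, 5, 1, 2], 1),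
  (38882, [6, 2, 3, 5, 3, 2, 3, 6, 1, 2, 3, 5, 1, 2], 1),
  (40498, [6, 3, 2, 3, 1, 2, 3, 0, 1, 2, 3, 6, 1, 2], 1),
  (40582, [6, 3, 2, 3, 0, 1, 2, 3, 1, 2, 3, 6, 1, 2], 1),
  (40599, [6, 3, 4, 2, 3, 1, 2, 3, 1, 2, 3, 6, 1, 2], 1),
  (40638, [2, 3, 2, 3, 5, 3, 2, 3, 1, 2, 3, 6, 1, 2], 1),
  (40655, [4, 3, 2, 3, 6, 4, 2, 3, 1, 2, 3, 6, 1, 2], 1),
  (40787, [4, 3, 2, 3, 6, 2, 3, 4, 1, 2, 3, 6, 1, 2], 1),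
  (40864, [5, 2, 3, 6, 3, 2, 3, 5, 1, 2, 3, 6, 1, 2], 1),
  (42200, [4, 3, 2, 3, 5, 4, 3, 2, 3, 0, 1, 2, 3, 2], 1),
  (42201, [5, 3, 2, 3, 5, 4, 3, 2, 3, 0, 1, 2, 3, 2], 1),
  (42207, [4, 3, 2, 3, 6, 4, 3, 2, 3, 0, 1, 2, 3, 2], 1),
  (42209, [6, 3, 2, 3, 6, 4, 3, 2, 3, 0, 1, 2, 3, 2], 1),
  (42216, [6, 3, 2, 3, 6, 5, 3, 2, 3, 0, 1, 2, 3, 2], 1),
  (42224, [5, 3, 2, 3, 5, 6, 3, 2, 3, 0, 1, 2, 3, 2], 1),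
  (42332, [4, 3, 1, 2, 3, 5, 4, 3, 2, 3, 1, 2, 3, 2], 1),
  (42333, [5, 3, 1, 2, 3, 5, 4, 3, 2, 3, 1, 2, 3, 2], 1),
  (42347, [4, 3, 6, 2, 3, 5, 4, 3, 2, 3, 1, 2, 3, 2], 1),
  (42348, [5, 3, 6, 2, 3, 5, 4, 3, 2, 3, 1, 2, 3, 2], 1),
  (42350, [4, 3, 1, 2, 3, 6, 4, 3, 2, 3, 1, 2, 3, 2], 1),
  (42352, [6, 3, 1, 2, 3, 6, 4, 3, 2, 3, 1, 2, 3, 2], 1),
  (42365, [4, 3, 5, 2, 3, 6, 4, 3, 2, 3, 1, 2, 3, 2], 1),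
  (42366, [6, 3, 5, 2, 3, 6, 4, 3, 2, 3, 1, 2, 3, 2], 1),
  (42372, [6, 3, 1, 2, 3, 6, 5, 3, 2, 3, 1, 2, 3, 2], 1),
  (42386, [6, 3, 4, 2, 3, 6, 5, 3, 2, 3, 1, 2, 3, 2], 1),
  (42395, [5, 3, 1, 2, 3, 5, 6, 3, 2, 3, 1, 2, 3, 2], 1),
  (42409, [5, 3, 4, 2, 3, 5, 6, 3, 2, 3, 1, 2, 3, 2], 1),
  (42430, [6, 4, 3, 5, 6, 3, 2, 3, 5, 4, 1, 2, 3, 2], 1),
  (42431, [5, 6, 3, 5, 6, 3, 2, 3, 5, 4, 1, 2, 3, 2], 1),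
  (42458, [5, 4, 3, 6, 5, 3, 2, 3, 6, 4, 1, 2, 3, 2], 1),
  (42459, [6, 5, 3, 6, 5, 3, 2, 3, 6, 4, 1, 2, 3, 2], 1),
  (42520, [2, 3, 5, 3, 2, 3, 2, 3, 1, 2, 3, 5, 3, 2], 1),
  (42522, [2, 3, 6, 3, 2, 3, 2, 3, 1, 2, 3, 5, 3, 2], 1),
  (42563, [2, 3, 5, 3, 2, 3, 2, 3, 1, 2, 3, 6, 3, 2], 1),
  (42566, [2, 3, 6, 3, 2, 3, 2, 3, 1, 2, 3, 6, 3, 2], 1),
  (42602, [6, 4, 3, 5, 6, 3, 2, 3, 5, 1, 2, 3, 4, 2], 1),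
  (42603, [5, 6, 3, 5, 6, 3, 2, 3, 5, 1, 2, 3, 4, 2], 1),
  (42636, [5, 4, 3, 6, 5, 3, 2, 3, 6, 1, 2, 3, 4, 2], 1),
  (42637, [6, 5, 3, 6, 5, 3, 2, 3, 6, 1, 2, 3, 4, 2], 1),
  (42683, [5, 4, 3, 6, 4, 3, 2, 3, 1, 2, 3, 5, 4, 2], 1),
  (42727, [6, 4, 3, 5, 4, 3, 2, 3, 1, 2, 3, 6, 4, 2], 1),
  (42770, [5, 4, 3, 6, 4, 3, 2, 3, 4, 1, 2, 3, 5, 2], 1),
  (42861, [6, 4, 3, 5, 4, 3, 2, 3, 4, 1, 2, 3, 6, 2], 1),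
  (42969, [2, 3, 5, 3, 4, 3, 2, 3, 1, 2, 3, 6, 3, 5], 1),
  (42999, [4, 3, 2, 3, 5, 2, 3, 2, 3, 1, 2, 3, 6, 5], 1),
  (43048, [2, 3, 6, 3, 4, 3, 2, 3, 1, 2, 3, 5, 3, 6], 1),
  (43073, [4, 3, 2, 3, 6, 2, 3, 2, 3, 1, 2, 3, 5, 6], 1),
  (43396, [1, 2, 3, 2, 3, 5, 3, 2, 3, 1, 2, 3, 0, 1, 2], 1),
  (43413, [2, 3, 2, 3, 6, 5, 3, 2, 3, 1, 2, 3, 0, 1, 2], 1),
  (43427, [1, 2, 3, 2, 3, 6, 3, 2, 3, 1, 2, 3, 0, 1, 2], 1),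
  (43444, [2, 3, 2, 3, 5, 6, 3, 2, 3, 1, 2, 3, 0, 1, 2], 1),
  (48065, [5, 3, 2, 3, 4, 1, 2, 3, 1, 2, 3, 5, 0, 1, 2], 1),
  (48070, [4, 3, 2, 3, 5, 1, 2, 3, 1, 2, 3, 5, 0, 1, 2], 1),
  (48109, [4, 3, 1, 2, 3, 5, 2, 3, 1, 2, 3, 5, 0, 1, 2], 1),
  (48917, [6, 3, 2, 3, 4, 1, 2, 3, 1, 2, 3, 6, 0, 1, 2], 1),
  (48921, [4, 3, 2, 3, 6, 1, 2, 3, 1, 2, 3, 6, 0, 1, 2], 1),
  (48960, [4, 3, 1, 2, 3, 6, 2, 3, 1, 2, 3, 6, 0, 1, 2], 1),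
  (50061, [5, 3, 6, 3, 2, 3, 5, 4, 3, 0, 1, 2, 3, 1, 2], 1),
  (50082, [6, 3, 5, 3, 2, 3, 6, 4, 3, 0, 1, 2, 3, 1, 2], 1),
  (50117, [2, 3, 5, 2, 3, 2, 3, 5, 3, 0, 1, 2, 3, 1, 2], 1),
  (50133, [5, 2, 3, 2, 3, 6, 3, 5, 3, 0, 1, 2, 3, 1, 2], 1),
  (50212, [2, 3, 6, 2, 3, 2, 3, 6, 3, 0, 1, 2, 3, 1, 2], 1),
  (50226, [6, 2, 3, 2, 3, 5, 3, 6, 3, 0, 1, 2, 3, 1, 2], 1),
  (51385, [2, 3, 5, 6, 2, 3, 5, 4, 2, 3, 1, 2, 3, 1, 2], 1),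
  (51425, [2, 3, 6, 5, 2, 3, 6, 4, 2, 3, 1, 2, 3, 1, 2], 1),
  (51790, [5, 3, 6, 3, 1, 2, 3, 5, 4, 3, 1, 2, 3, 1, 2], 1),
  (51817, [5, 3, 6, 2, 3, 2, 3, 5, 4, 3, 1, 2, 3, 1, 2], 1),
  (51820, [5, 3, 6, 4, 3, 2, 3, 5, 4, 3, 1, 2, 3, 1, 2], 1),
  (51864, [6, 3, 5, 3, 1, 2, 3, 6, 4, 3, 1, 2, 3, 1, 2], 1),
  (51891, [6, 3, 5, 2, 3, 2, 3, 6, 4, 3, 1, 2, 3, 1, 2], 1),
  (51894, [6, 3, 5, 4, 3, 2, 3, 6, 4, 3, 1, 2, 3, 1, 2], 1),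
  (52030, [1, 2, 3, 5, 2, 3, 2, 3, 5, 3, 1, 2, 3, 1, 2], 1),
  (52086, [5, 1, 2, 3, 2, 3, 6, 3, 5, 3, 1, 2, 3, 1, 2], 1),
  (52317, [1, 2, 3, 6, 2, 3, 2, 3, 6, 3, 1, 2, 3, 1, 2], 1),
  (52367, [6, 1, 2, 3, 2, 3, 5, 3, 6, 3, 1, 2, 3, 1, 2], 1),
  (52644, [1, 2, 3, 2, 3, 5, 3, 2, 3, 4, 1, 2, 3, 1, 2], 1),
  (52653, [2, 3, 2, 3, 6, 5, 3, 2, 3, 4, 1, 2, 3, 1, 2], 1),
  (52663, [1, 2, 3, 2, 3, 6, 3, 2, 3, 4, 1, 2, 3, 1, 2], 1),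
  (52672, [2, 3, 2, 3, 5, 6, 3, 2, 3, 4, 1, 2, 3, 1, 2], 1),
  (61181, [1, 2, 3, 5, 2, 3, 2, 3, 1, 2, 3, 5, 3, 1, 2], 1),
  (62366, [1, 2, 3, 6, 2, 3, 2, 3, 1, 2, 3, 6, 3, 1, 2], 1),
  (63309, [5, 3, 4, 2, 3, 1, 2, 3, 0, 1, 2, 3, 5, 1, 2], 1),
  (63331, [4, 3, 2, 3, 5, 4, 2, 3, 0, 1, 2, 3, 5, 1, 2], 1),
  (63389, [5, 3, 1, 2, 3, 0, 1, 2, 3, 1, 2, 3, 5, 1, 2], 1),
  (63436, [4, 3, 2, 3, 5, 4, 1, 2, 3, 1, 2, 3, 5, 1, 2], 1),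
  (63454, [1, 2, 3, 2, 3, 6, 3, 2, 3, 1, 2, 3, 5, 1, 2], 1),
  (63469, [4, 3, 1, 2, 3, 5, 4, 2, 3, 1, 2, 3, 5, 1, 2], 1),
  (63612, [4, 3, 1, 2, 3, 5, 2, 3, 4, 1, 2, 3, 5, 1, 2], 1),
  (63632, [5, 6, 2, 3, 2, 3, 6, 3, 4, 1, 2, 3, 5, 1, 2], 1),
  (63707, [6, 1, 2, 3, 5, 3, 2, 3, 6, 1, 2, 3, 5, 1, 2], 1),
  (65420, [6, 3, 4, 2, 3, 1, 2, 3, 0, 1, 2, 3, 6, 1, 2], 1),
  (65441, [4, 3, 2, 3, 6, 4, 2, 3, 0, 1, 2, 3, 6, 1, 2], 1),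
  (65500, [6, 3, 1, 2, 3, 0, 1, 2, 3, 1, 2, 3, 6, 1, 2], 1),
  (65545, [4, 3, 2, 3, 6, 4, 1, 2, 3, 1, 2, 3, 6, 1, 2], 1),
  (65563, [1, 2, 3, 2, 3, 5, 3, 2, 3, 1, 2, 3, 6, 1, 2], 1),
  (65578, [4, 3, 1, 2, 3, 6, 4, 2, 3, 1, 2, 3, 6, 1, 2], 1),
  (65721, [4, 3, 1, 2, 3, 6, 2, 3, 4, 1, 2, 3, 6, 1, 2], 1),
  (65737, [6, 5, 2, 3, 2, 3, 5, 3, 4, 1, 2, 3, 6, 1, 2], 1),
  (65815, [5, 1, 2, 3, 6, 3, 2, 3, 5, 1, 2, 3, 6, 1, 2], 1),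
  (67180, [4, 3, 1, 2, 3, 5, 4, 3, 2, 3, 0, 1, 2, 3, 2], 1),
  (67181, [5, 3, 1, 2, 3, 5, 4, 3, 2, 3, 0, 1, 2, 3, 2], 1),
  (67193, [4, 3, 6, 2, 3, 5, 4, 3, 2, 3, 0, 1, 2, 3, 2], 1),
  (67194, [5, 3, 6, 2, 3, 5, 4, 3, 2, 3, 0, 1, 2, 3, 2], 1),
  (67196, [4, 3, 1, 2, 3, 6, 4, 3, 2, 3, 0, 1, 2, 3, 2], 1),
  (67198, [6, 3, 1, 2, 3, 6, 4, 3, 2, 3, 0, 1, 2, 3, 2], 1),
  (67209, [4, 3, 5, 2, 3, 6, 4, 3, 2, 3, 0, 1, 2, 3, 2], 1),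
  (67210, [6, 3, 5, 2, 3, 6, 4, 3, 2, 3, 0, 1, 2, 3, 2], 1),
  (67216, [6, 3, 1, 2, 3, 6, 5, 3, 2, 3, 0, 1, 2, 3, 2], 1),
  (67222, [6, 3, 4, 2, 3, 6, 5, 3, 2, 3, 0, 1, 2, 3, 2], 1),
  (67227, [5, 3, 1, 2, 3, 5, 6, 3, 2, 3, 0, 1, 2, 3, 2], 1),
  (67234, [5, 3, 4, 2, 3, 5, 6, 3, 2, 3, 0, 1, 2, 3, 2], 1),
  (67364, [4, 3, 6, 1, 2, 3, 5, 4, 3, 2, 3, 1, 2, 3, 2], 1),
  (67365, [5, 3, 6, 1, 2, 3, 5, 4, 3, 2, 3, 1, 2, 3, 2], 1),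
  (67396, [4, 3, 5, 1, 2, 3, 6, 4, 3, 2, 3, 1, 2, 3, 2], 1),
  (67397, [6, 3, 5, 1, 2, 3, 6, 4, 3, 2, 3, 1, 2, 3, 2], 1),
  (67420, [6, 3, 0, 1, 2, 3, 6, 5, 3, 2, 3, 1, 2, 3, 2], 1),
  (67456, [5, 3, 0, 1, 2, 3, 5, 6, 3, 2, 3, 1, 2, 3, 2], 1),
  (67580, [1, 2, 3, 5, 3, 2, 3, 2, 3, 1, 2, 3, 5, 3, 2], 1),
  (67582, [1, 2, 3, 6, 3, 2, 3, 2, 3, 1, 2, 3, 5, 3, 2], 1),
  (67589, [4, 3, 2, 3, 5, 4, 3, 2, 3, 1, 2, 3, 5, 3, 2], 1),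
  (67590, [5, 3, 2, 3, 5, 4, 3, 2, 3, 1, 2, 3, 5, 3, 2], 1),
  (67624, [1, 2, 3, 5, 3, 2, 3, 2, 3, 1, 2, 3, 6, 3, 2], 1),
  (67626, [1, 2, 3, 6, 3, 2, 3, 2, 3, 1, 2, 3, 6, 3, 2], 1),
  (67633, [4, 3, 2, 3, 6, 4, 3, 2, 3, 1, 2, 3, 6, 3, 2], 1),
  (67635, [6, 3, 2, 3, 6, 4, 3, 2, 3, 1, 2, 3, 6, 3, 2], 1),
  (67727, [4, 3, 2, 3, 5, 4, 3, 2, 3, 1, 2, 3, 5, 4, 2], 1),
  (67728, [5, 3, 2, 3, 5, 4, 3, 2, 3, 1, 2, 3, 5, 4, 2], 1),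
  (67729, [6, 3, 2, 3, 5, 4, 3, 2, 3, 1, 2, 3, 5, 4, 2], 1),
  (67783, [4, 3, 2, 3, 6, 4, 3, 2, 3, 1, 2, 3, 6, 4, 2], 1),
  (67784, [5, 3, 2, 3, 6, 4, 3, 2, 3, 1, 2, 3, 6, 4, 2], 1),
  (67785, [6, 3, 2, 3, 6, 4, 3, 2, 3, 1, 2, 3, 6, 4, 2], 1),
  (67820, [6, 3, 2, 3, 5, 4, 3, 2, 3, 4, 1, 2, 3, 5, 2], 1),
  (67906, [5, 3, 2, 3, 6, 4, 3, 2, 3, 4, 1, 2, 3, 6, 2], 1),
  (67965, [2, 3, 5, 3, 4, 3, 2, 3, 0, 1, 2, 3, 6, 3, 5], 1),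
  (67990, [1, 2, 3, 5, 3, 4, 3, 2, 3, 1, 2, 3, 6, 3, 5], 1),
  (68016, [2, 3, 6, 3, 4, 3, 2, 3, 0, 1, 2, 3, 5, 3, 6], 1),
  (68041, [1, 2, 3, 6, 3, 4, 3, 2, 3, 1, 2, 3, 5, 3, 6], 1),
  (68648, [5, 4, 2, 3, 2, 3, 5, 3, 2, 3, 1, 2, 3, 0, 1, 2], 1),
  (68684, [6, 4, 2, 3, 2, 3, 6, 3, 2, 3, 1, 2, 3, 0, 1, 2], 1),
  (69022, [5, 3, 6, 3, 4, 2, 3, 5, 4, 3, 1, 2, 3, 0, 1, 2], 1),
  (69102, [6, 3, 5, 3, 4, 2, 3, 6, 4, 3, 1, 2, 3, 0, 1, 2], 1),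
  (74610, [4, 3, 2, 3, 5, 0, 1, 2, 3, 1, 2, 3, 5, 0, 1, 2], 1),
  (74637, [5, 3, 2, 3, 4, 3, 1, 2, 3, 1, 2, 3, 5, 0, 1, 2], 1),
  (74646, [4, 3, 1, 2, 3, 5, 1, 2, 3, 1, 2, 3, 5, 0, 1, 2], 1),
  (75495, [4, 3, 2, 3, 6, 0, 1, 2, 3, 1, 2, 3, 6, 0, 1, 2], 1),
  (75523, [6, 3, 2, 3, 4, 3, 1, 2, 3, 1, 2, 3, 6, 0, 1, 2], 1),
  (75531, [4, 3, 1, 2, 3, 6, 1, 2, 3, 1, 2, 3, 6, 0, 1, 2], 1),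
  (76805, [5, 3, 6, 3, 1, 2, 3, 5, 4, 3, 0, 1, 2, 3, 1, 2], 1),
  (76814, [5, 3, 6, 2, 3, 2, 3, 5, 4, 3, 0, 1, 2, 3, 1, 2], 1),
  (76826, [6, 3, 5, 3, 1, 2, 3, 6, 4, 3, 0, 1, 2, 3, 1, 2], 1),
  (76835, [6, 3, 5, 2, 3, 2, 3, 6, 4, 3, 0, 1, 2, 3, 1, 2], 1),
  (76885, [1, 2, 3, 5, 2, 3, 2, 3, 5, 3, 0, 1, 2, 3, 1, 2], 1),
  (76906, [5, 1, 2, 3, 2, 3, 6, 3, 5, 3, 0, 1, 2, 3, 1, 2], 1),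
  (77008, [1, 2, 3, 6, 2, 3, 2, 3, 6, 3, 0, 1, 2, 3, 1, 2], 1),
  (77027, [6, 1, 2, 3, 2, 3, 5, 3, 6, 3, 0, 1, 2, 3, 1, 2], 1),
  (78691, [5, 2, 3, 4, 2, 3, 5, 3, 4, 2, 3, 1, 2, 3, 1, 2], 1),
  (78703, [6, 2, 3, 4, 2, 3, 6, 3, 4, 2, 3, 1, 2, 3, 1, 2], 1),
  (78737, [1, 2, 3, 5, 6, 2, 3, 5, 4, 2, 3, 1, 2, 3, 1, 2], 1),
  (78766, [1, 2, 3, 6, 5, 2, 3, 6, 4, 2, 3, 1, 2, 3, 1, 2], 1),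
  (78862, [4, 2, 3, 5, 2, 3, 2, 3, 5, 2, 3, 1, 2, 3, 1, 2], 1),
  (78991, [4, 2, 3, 6, 2, 3, 2, 3, 6, 2, 3, 1, 2, 3, 1, 2], 1),
  (79139, [5, 3, 6, 2, 3, 1, 2, 3, 5, 4, 3, 1, 2, 3, 1, 2], 1),
  (79142, [5, 3, 6, 4, 3, 1, 2, 3, 5, 4, 3, 1, 2, 3, 1, 2], 1),
  (79179, [5, 3, 6, 1, 2, 3, 2, 3, 5, 4, 3, 1, 2, 3, 1, 2], 1),
  (79218, [6, 3, 5, 2, 3, 1, 2, 3, 6, 4, 3, 1, 2, 3, 1, 2], 1),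
  (79221, [6, 3, 5, 4, 3, 1, 2, 3, 6, 4, 3, 1, 2, 3, 1, 2], 1),
  (79258, [6, 3, 5, 1, 2, 3, 2, 3, 6, 4, 3, 1, 2, 3, 1, 2], 1),
  (79499, [5, 0, 1, 2, 3, 2, 3, 6, 3, 5, 3, 1, 2, 3, 1, 2], 1),
  (79847, [6, 0, 1, 2, 3, 2, 3, 5, 3, 6, 3, 1, 2, 3, 1, 2], 1),
  (90433, [2, 3, 2, 3, 5, 3, 2, 3, 1, 2, 3, 5, 4, 3, 1, 2], 1),
  (90436, [2, 3, 4, 2, 3, 5, 2, 3, 1, 2, 3, 5, 4, 3, 1, 2], 1),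
  (90803, [2, 3, 2, 3, 6, 3, 2, 3, 1, 2, 3, 6, 4, 3, 1, 2], 1),
  (90810, [2, 3, 4, 2, 3, 6, 2, 3, 1, 2, 3, 6, 4, 3, 1, 2], 1),
  (93823, [4, 3, 1, 2, 3, 5, 4, 2, 3, 0, 1, 2, 3, 5, 1, 2], 1),
  (93897, [4, 3, 1, 2, 3, 5, 4, 1, 2, 3, 1, 2, 3, 5, 1, 2], 1),
  (94069, [5, 6, 1, 2, 3, 2, 3, 6, 3, 4, 1, 2, 3, 5, 1, 2], 1),
  (94201, [5, 3, 4, 2, 3, 2, 3, 4, 1, 2, 3, 2, 3, 5, 1, 2], 1),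
  (95929, [4, 3, 1, 2, 3, 6, 4, 2, 3, 0, 1, 2, 3, 6, 1, 2], 1),
  (96003, [4, 3, 1, 2, 3, 6, 4, 1, 2, 3, 1, 2, 3, 6, 1, 2], 1),
  (97665, [4, 3, 6, 1, 2, 3, 5, 4, 3, 2, 3, 0, 1, 2, 3, 2], 1),
  (97666, [5, 3, 6, 1, 2, 3, 5, 4, 3, 2, 3, 0, 1, 2, 3, 2], 1),
  (97683, [4, 3, 5, 1, 2, 3, 6, 4, 3, 2, 3, 0, 1, 2, 3, 2], 1),
  (97684, [6, 3, 5, 1, 2, 3, 6, 4, 3, 2, 3, 0, 1, 2, 3, 2], 1),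
  (97692, [6, 3, 0, 1, 2, 3, 6, 5, 3, 2, 3, 0, 1, 2, 3, 2], 1),
  (97702, [5, 3, 0, 1, 2, 3, 5, 6, 3, 2, 3, 0, 1, 2, 3, 2], 1),
  (97818, [2, 3, 2, 3, 1, 2, 3, 5, 4, 3, 2, 3, 1, 2, 3, 2], 1),
  (97856, [2, 3, 2, 3, 1, 2, 3, 6, 4, 3, 2, 3, 1, 2, 3, 2], 1),
  (97976, [4, 3, 2, 3, 5, 4, 3, 6, 2, 3, 5, 4, 1, 2, 3, 2], 1),
  (97988, [4, 3, 2, 3, 6, 4, 3, 5, 2, 3, 6, 4, 1, 2, 3, 2], 1),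
  (98040, [4, 3, 1, 2, 3, 5, 4, 3, 2, 3, 1, 2, 3, 5, 3, 2], 1),
  (98041, [5, 3, 1, 2, 3, 5, 4, 3, 2, 3, 1, 2, 3, 5, 3, 2], 1),
  (98080, [4, 3, 1, 2, 3, 6, 4, 3, 2, 3, 1, 2, 3, 6, 3, 2], 1),
  (98082, [6, 3, 1, 2, 3, 6, 4, 3, 2, 3, 1, 2, 3, 6, 3, 2], 1),
  (98102, [4, 3, 2, 3, 5, 4, 3, 6, 2, 3, 5, 1, 2, 3, 4, 2], 1),
  (98119, [4, 3, 2, 3, 6, 4, 3, 5, 2, 3, 6, 1, 2, 3, 4, 2], 1),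
  (98146, [4, 3, 1, 2, 3, 5, 4, 3, 2, 3, 1, 2, 3, 5, 4, 2], 1),
  (98147, [5, 3, 1, 2, 3, 5, 4, 3, 2, 3, 1, 2, 3, 5, 4, 2], 1),
  (98148, [6, 3, 1, 2, 3, 5, 4, 3, 2, 3, 1, 2, 3, 5, 4, 2], 1),
  (98185, [4, 3, 1, 2, 3, 6, 4, 3, 2, 3, 1, 2, 3, 6, 4, 2], 1),
  (98186, [5, 3, 1, 2, 3, 6, 4, 3, 2, 3, 1, 2, 3, 6, 4, 2], 1),
  (98187, [6, 3, 1, 2, 3, 6, 4, 3, 2, 3, 1, 2, 3, 6, 4, 2], 1),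
  (98219, [6, 3, 1, 2, 3, 5, 4, 3, 2, 3, 4, 1, 2, 3, 5, 2], 1),
  (98285, [5, 3, 1, 2, 3, 6, 4, 3, 2, 3, 4, 1, 2, 3, 6, 2], 1),
  (98328, [1, 2, 3, 5, 3, 4, 3, 2, 3, 0, 1, 2, 3, 6, 3, 5], 1),
  (98353, [1, 2, 3, 6, 3, 4, 3, 2, 3, 0, 1, 2, 3, 5, 3, 6], 1),
  (99642, [5, 3, 6, 3, 4, 1, 2, 3, 5, 4, 3, 1, 2, 3, 0, 1, 2], 1),
  (99672, [2, 3, 5, 4, 3, 6, 2, 3, 5, 4, 3, 1, 2, 3, 0, 1, 2], 1),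
  (99730, [6, 3, 5, 3, 4, 1, 2, 3, 6, 4, 3, 1, 2, 3, 0, 1, 2], 1),
  (99760, [2, 3, 6, 4, 3, 5, 2, 3, 6, 4, 3, 1, 2, 3, 0, 1, 2], 1),
  (101797, [2, 3, 1, 2, 3, 6, 1, 2, 3, 5, 2, 3, 2, 3, 0, 1, 2], 1),
  (101913, [2, 3, 1, 2, 3, 5, 1, 2, 3, 6, 2, 3, 2, 3, 0, 1, 2], 1),
  (106665, [4, 3, 1, 2, 3, 5, 0, 1, 2, 3, 1, 2, 3, 5, 0, 1, 2], 1),
  (107539, [4, 3, 1, 2, 3, 6, 0, 1, 2, 3, 1, 2, 3, 6, 0, 1, 2], 1),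
  (108949, [5, 3, 6, 2, 3, 1, 2, 3, 5, 4, 3, 0, 1, 2, 3, 1, 2], 1),
  (108970, [6, 3, 5, 2, 3, 1, 2, 3, 6, 4, 3, 0, 1, 2, 3, 1, 2], 1),
  (111258, [2, 3, 5, 2, 3, 2, 3, 5, 2, 3, 2, 3, 1, 2, 3, 1, 2], 1),
  (111276, [2, 3, 6, 2, 3, 2, 3, 6, 2, 3, 2, 3, 1, 2, 3, 1, 2], 1),
  (111345, [2, 3, 5, 3, 2, 3, 2, 3, 5, 3, 2, 3, 1, 2, 3, 1, 2], 1),
  (111347, [4, 2, 3, 5, 2, 3, 2, 3, 5, 3, 2, 3, 1, 2, 3, 1, 2], 1),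
  (111408, [2, 3, 6, 3, 2, 3, 2, 3, 6, 3, 2, 3, 1, 2, 3, 1, 2], 1),
  (111410, [4, 2, 3, 6, 2, 3, 2, 3, 6, 3, 2, 3, 1, 2, 3, 1, 2], 1),
  (111439, [5, 1, 2, 3, 4, 2, 3, 5, 3, 4, 2, 3, 1, 2, 3, 1, 2], 1),
  (111447, [6, 1, 2, 3, 4, 2, 3, 6, 3, 4, 2, 3, 1, 2, 3, 1, 2], 1),
  (111643, [4, 1, 2, 3, 5, 2, 3, 2, 3, 5, 2, 3, 1, 2, 3, 1, 2], 5),
  (111653, [2, 3, 1, 2, 3, 2, 3, 6, 3, 5, 2, 3, 1, 2, 3, 1, 2], 1),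
  (111803, [4, 1, 2, 3, 6, 2, 3, 2, 3, 6, 2, 3, 1, 2, 3, 1, 2], 5),
  (111813, [2, 3, 1, 2, 3, 2, 3, 5, 3, 6, 2, 3, 1, 2, 3, 1, 2], 1),
  (111871, [2, 3, 5, 4, 3, 6, 2, 3, 5, 3, 4, 3, 1, 2, 3, 1, 2], 1),
  (111904, [2, 3, 6, 4, 3, 5, 2, 3, 6, 3, 4, 3, 1, 2, 3, 1, 2], 1),
  (111909, [5, 3, 6, 2, 3, 0, 1, 2, 3, 5, 4, 3, 1, 2, 3, 1, 2], 1),
  (111927, [5, 3, 6, 1, 2, 3, 1, 2, 3, 5, 4, 3, 1, 2, 3, 1, 2], 1),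
  (111931, [5, 3, 6, 4, 2, 3, 1, 2, 3, 5, 4, 3, 1, 2, 3, 1, 2], 1),
  (112010, [6, 3, 5, 2, 3, 0, 1, 2, 3, 6, 4, 3, 1, 2, 3, 1, 2], 1),
  (112028, [6, 3, 5, 1, 2, 3, 1, 2, 3, 6, 4, 3, 1, 2, 3, 1, 2], 1),
  (112032, [6, 3, 5, 4, 2, 3, 1, 2, 3, 6, 4, 3, 1, 2, 3, 1, 2], 1),
  (126436, [1, 2, 3, 2, 3, 5, 3, 2, 3, 1, 2, 3, 5, 4, 3, 1, 2], 1),
  (126437, [1, 2, 3, 4, 2, 3, 5, 2, 3, 1, 2, 3, 5, 4, 3, 1, 2], 1),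
  (126834, [1, 2, 3, 2, 3, 6, 3, 2, 3, 1, 2, 3, 6, 4, 3, 1, 2], 1),
  (126839, [1, 2, 3, 4, 2, 3, 6, 2, 3, 1, 2, 3, 6, 4, 3, 1, 2], 1),
  (134853, [4, 3, 1, 2, 3, 5, 4, 3, 6, 2, 3, 5, 4, 1, 2, 3, 2], 1),
  (134856, [4, 3, 1, 2, 3, 6, 4, 3, 5, 2, 3, 6, 4, 1, 2, 3, 2], 1),
  (136558, [5, 3, 6, 2, 3, 4, 1, 2, 3, 5, 4, 3, 1, 2, 3, 0, 1, 2], 1),
  (136671, [6, 3, 5, 2, 3, 4, 1, 2, 3, 6, 4, 3, 1, 2, 3, 0, 1, 2], 1),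
  (138857, [2, 3, 0, 1, 2, 3, 6, 1, 2, 3, 5, 2, 3, 2, 3, 0, 1, 2], 1),
  (138859, [1, 2, 3, 1, 2, 3, 6, 1, 2, 3, 5, 2, 3, 2, 3, 0, 1, 2], 1),
  (138998, [2, 3, 0, 1, 2, 3, 5, 1, 2, 3, 6, 2, 3, 2, 3, 0, 1, 2], 1),
  (139000, [1, 2, 3, 1, 2, 3, 5, 1, 2, 3, 6, 2, 3, 2, 3, 0, 1, 2], 1),
  (139219, [2, 3, 6, 5, 2, 3, 6, 1, 2, 3, 5, 4, 3, 2, 3, 0, 1, 2], 1),
  (139367, [2, 3, 5, 6, 2, 3, 5, 1, 2, 3, 6, 4, 3, 2, 3, 0, 1, 2], 1),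
  (146312, [5, 3, 6, 4, 2, 3, 1, 2, 3, 5, 4, 3, 0, 1, 2, 3, 1, 2], 1),
  (146342, [6, 3, 5, 4, 2, 3, 1, 2, 3, 6, 4, 3, 0, 1, 2, 3, 1, 2], 1),
  (149231, [5, 3, 6, 1, 2, 3, 0, 1, 2, 3, 5, 4, 3, 1, 2, 3, 1, 2], 1),
  (149234, [5, 3, 6, 4, 2, 3, 0, 1, 2, 3, 5, 4, 3, 1, 2, 3, 1, 2], 1),
  (149252, [5, 3, 6, 0, 1, 2, 3, 1, 2, 3, 5, 4, 3, 1, 2, 3, 1, 2], 1),
  (149256, [5, 3, 6, 4, 1, 2, 3, 1, 2, 3, 5, 4, 3, 1, 2, 3, 1, 2], 1),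
  (149360, [6, 3, 5, 1, 2, 3, 0, 1, 2, 3, 6, 4, 3, 1, 2, 3, 1, 2], 1),
  (149363, [6, 3, 5, 4, 2, 3, 0, 1, 2, 3, 6, 4, 3, 1, 2, 3, 1, 2], 1),
  (149381, [6, 3, 5, 0, 1, 2, 3, 1, 2, 3, 6, 4, 3, 1, 2, 3, 1, 2], 1),
  (149385, [6, 3, 5, 4, 1, 2, 3, 1, 2, 3, 6, 4, 3, 1, 2, 3, 1, 2], 1),
  (154762, [2, 3, 4, 3, 1, 2, 3, 6, 1, 2, 3, 5, 2, 3, 2, 3, 1, 2], 1),
  (154768, [5, 2, 3, 4, 1, 2, 3, 6, 1, 2, 3, 5, 2, 3, 2, 3, 1, 2], 1),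
  (155058, [2, 3, 4, 3, 1, 2, 3, 5, 1, 2, 3, 6, 2, 3, 2, 3, 1, 2], 1),
  (155065, [6, 2, 3, 4, 1, 2, 3, 5, 1, 2, 3, 6, 2, 3, 2, 3, 1, 2], 1),
  (155497, [4, 2, 3, 5, 2, 3, 6, 3, 1, 2, 3, 5, 4, 3, 2, 3, 1, 2], 1),
  (155782, [4, 2, 3, 6, 2, 3, 5, 3, 1, 2, 3, 6, 4, 3, 2, 3, 1, 2], 1),
  (163035, [5, 3, 6, 2, 3, 1, 2, 3, 5, 4, 3, 1, 2, 3, 5, 3, 1, 2], 1),
  (164344, [6, 3, 5, 2, 3, 1, 2, 3, 6, 4, 3, 1, 2, 3, 6, 3, 1, 2], 1),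
  (165393, [5, 3, 6, 2, 3, 1, 2, 3, 5, 3, 4, 3, 1, 2, 3, 5, 1, 2], 1),
  (167145, [6, 3, 5, 2, 3, 1, 2, 3, 6, 3, 4, 3, 1, 2, 3, 6, 1, 2], 1),
  (169556, [5, 3, 6, 3, 2, 3, 4, 1, 2, 3, 5, 4, 3, 1, 2, 3, 0, 1, 2], 1),
  (169687, [6, 3, 5, 3, 2, 3, 4, 1, 2, 3, 6, 4, 3, 1, 2, 3, 0, 1, 2], 1),
  (170913, [4, 2, 3, 1, 2, 3, 6, 0, 1, 2, 3, 5, 2, 3, 2, 3, 0, 1, 2], 1),
  (170965, [0, 1, 2, 3, 1, 2, 3, 6, 1, 2, 3, 5, 2, 3, 2, 3, 0, 1, 2], 1),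
  (170993, [4, 2, 3, 1, 2, 3, 5, 0, 1, 2, 3, 6, 2, 3, 2, 3, 0, 1, 2], 1),
  (171045, [0, 1, 2, 3, 1, 2, 3, 5, 1, 2, 3, 6, 2, 3, 2, 3, 0, 1, 2], 1),
  (174939, [5, 3, 6, 4, 1, 2, 3, 1, 2, 3, 5, 4, 3, 0, 1, 2, 3, 1, 2], 1),
  (174970, [6, 3, 5, 4, 1, 2, 3, 1, 2, 3, 6, 4, 3, 0, 1, 2, 3, 1, 2], 1)]

/-- the check of a point -/
noncomputable def chkF (ω : ℕ) : Bool :=
  Bool.rec true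
    (Nat.beq ω 0 || cert.any (fun e => Nat.beq e.1 ω && Nat.beq (wapp HeZ.px e.2.1 ω) 0 &&
      !(Nat.beq (wapp HeZ.px (e.2.1 ++ [3]) e.2.2) (wapp HeZ.px (3 :: e.2.1) e.2.2))))
    (Nat.beq (HeZ.px 3 ω) ω)

theorem hcertL : ∀ e ∈ cert, (∀ c ∈ e.2.1, c < 7) ∧ e.2.2 < 187425 := by
  decide +kernel

theorem chkF0 : allR chkF 0 8000 = true := by
  decide +kernel

theorem chkF1 : allR chkF 8000 8000 = true := by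
  decide +kernel

theorem chkF2 : allR chkF 16000 8000 = true := by
  decide +kernel

theorem chkF3 : allR chkF 24000 8000 = true := by
  decide +kernel

theorem chkF4 : allR chkF 32000 8000 = true := by
  decide +kernel

theorem chkF5 : allR chkF 40000 8000 = true := by
  decide +kernel

theorem chkF6 : allR chkF 48000 8000 = true := by
  decide +kernel

theorem chkF7 : allR chkF 56000 8000 = true := by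
  decide +kernel

theorem chkF8 : allR chkF 64000 8000 = true := by
  decide +kernel

theorem chkF9 : allR chkF 72000 8000 = true := by
  decide +kernel

theorem chkF10 : allR chkF 80000 8000 = true := by
  decide +kernel

theorem chkF11 : allR chkF 88000 8000 = true := by
  decide +kernel

theorem chkF12 : allR chkF 96000 8000 = true := by
  decide +kernel

theorem chkF13 : allR chkF 104000 8000 = true := by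
  decide +kernel

theorem chkF14 : allR chkF 112000 8000 = true := by
  decide +kernel

theorem chkF15 : allR chkF 120000 8000 = true := by
  decide +kernel

theorem chkF16 : allR chkF 128000 8000 = true := by
  decide +kernel

theorem chkF17 : allR chkF 136000 8000 = true := by
  decide +kernel

theorem chkF18 : allR chkF 144000 8000 = true := by
  decide +kernel

theorem chkF19 : allR chkF 152000 8000 = true := by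
  decide +kernel

theorem chkF20 : allR chkF 160000 8000 = true := by
  decide +kernel

theorem chkF21 : allR chkF 168000 8000 = true := by
  decide +kernel

theorem chkF22 : allR chkF 176000 8000 = true := by
  decide +kernel

theorem chkF23 : allR chkF 184000 3425 = true := by
  decide +kernel

theorem hchkF : ∀ ω < 187425, chkF ω = true := by
  intro ω hω
  by_cases h0 : ω < 8000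
  · exact allR_spec chkF0 ω (by omega) (by omega)
  by_cases h1 : ω < 16000
  · exact allR_spec chkF1 ω (by omega) (by omega)
  by_cases h2 : ω < 24000
  · exact allR_spec chkF2 ω (by omega) (by omega)
  by_cases h3 : ω < 32000
  · exact allR_spec chkF3 ω (by omega) (by omega)
  by_cases h4 : ω < 40000
  · exact allR_spec chkF4 ω (by omega) (by omega)
  by_cases h5 : ω < 48000
  · exact allR_spec chkF5 ω (by omega) (by omega)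
  by_cases h6 : ω < 56000
  · exact allR_spec chkF6 ω (by omega) (by omega)
  by_cases h7 : ω < 64000
  · exact allR_spec chkF7 ω (by omega) (by omega)
  by_cases h8 : ω < 72000
  · exact allR_spec chkF8 ω (by omega) (by omega)
  by_cases h9 : ω < 80000
  · exact allR_spec chkF9 ω (by omega) (by omega)
  by_cases h10 : ω < 88000
  · exact allR_spec chkF10 ω (by omega) (by omega)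
  by_cases h11 : ω < 96000
  · exact allR_spec chkF11 ω (by omega) (by omega)
  by_cases h12 : ω < 104000
  · exact allR_spec chkF12 ω (by omega) (by omega)
  by_cases h13 : ω < 112000
  · exact allR_spec chkF13 ω (by omega) (by omega)
  by_cases h14 : ω < 120000
  · exact allR_spec chkF14 ω (by omega) (by omega)
  by_cases h15 : ω < 128000
  · exact allR_spec chkF15 ω (by omega) (by omega)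
  by_cases h16 : ω < 136000
  · exact allR_spec chkF16 ω (by omega) (by omega)
  by_cases h17 : ω < 144000
  · exact allR_spec chkF17 ω (by omega) (by omega)
  by_cases h18 : ω < 152000
  · exact allR_spec chkF18 ω (by omega) (by omega)
  by_cases h19 : ω < 160000
  · exact allR_spec chkF19 ω (by omega) (by omega)
  by_cases h20 : ω < 168000
  · exact allR_spec chkF20 ω (by omega) (by omega)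
  by_cases h21 : ω < 176000
  · exact allR_spec chkF21 ω (by omega) (by omega)
  by_cases h22 : ω < 184000
  · exact allR_spec chkF22 ω (by omega) (by omega)
  by_cases h23 : ω < 187425
  · exact allR_spec chkF23 ω (by omega) (by omega)
  omega

theorem fix_cases (ω : ℕ) (hω : ω < 187425) (hfix : HeZ.px 3 ω = ω) :
    ω = 0 ∨ ∃ u : List ℕ, ∃ π < 187425, (∀ c ∈ u, c < 7) ∧ wapp HeZ.px u ω = 0 ∧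
      wapp HeZ.px (u ++ [3]) π ≠ wapp HeZ.px (3 :: u) π := by
  have h := hchkF ω hω
  unfold chkF at h
  have hb : Nat.beq (HeZ.px 3 ω) ω = true := by rw [hfix]; exact Nat.beq_refl ω
  rw [hb] at h
  simp only [Bool.or_eq_true, List.any_eq_true, Bool.and_eq_true, Bool.not_eq_true'] at h
  rcases h with h | ⟨e, he, ⟨h1, h2⟩, h3⟩
  · left
    exact Nat.eq_of_beq_eq_true h
  · right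
    obtain ⟨hl, hπ⟩ := hcertL e he
    refine ⟨e.2.1, e.2.2, hπ, hl, Nat.eq_of_beq_eq_true h2, ?_⟩
    intro heq
    rw [heq, Nat.beq_refl] at h3
    exact absurd h3 (by decide)

/-- the centraliser of the involution is the subgroup -/
theorem centralizer_eq : Subgroup.centralizer {z} = C0 := by
  refine le_antisymm ?_ C0_le
  obtain ⟨φ, hw, hK, _⟩ := repZ
  intro g hg
  rw [hK]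
  have hzg : z * g = g * z := (Subgroup.mem_centralizer_iff.mp hg) z (Set.mem_singleton z)
  have hzmem : z ∈ C0 := by
    show PresentedGroup.mk Rels (wordElt gc [3]) ∈ C0
    refine Subgroup.mem_map_of_mem _ (Subgroup.subset_closure ?_)
    rw [HeZIdx.wordElt_single3]
    simp [HeZIdx.S]
  have hz0 : φ z 0 = 0 := (hK z).1 hzmem
  by_contra hne
  -- the point ω = φ g 0 is fixed by z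
  have hfixω : φ z (φ g 0) = φ g 0 := by
    rw [← Equiv.Perm.mul_apply, ← map_mul, hzg, map_mul, Equiv.Perm.mul_apply, hz0]
  have hfix' : HeZ.px 3 (φ g 0).val = (φ g 0).val := by
    have h1 := hw [3] (by decide) (φ g 0)
    have h2 : (φ z)⁻¹ (φ g 0) = φ g 0 := by
      rw [Equiv.Perm.inv_eq_iff_eq]
      exact hfixω.symm
    have h3 : (φ (PresentedGroup.mk Rels (wordElt gc [3])))⁻¹ (φ g 0) = φ g 0 := h2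
    rw [h3] at h1
    exact h1.symm
  rcases fix_cases (φ g 0).val (φ g 0).isLt hfix' with h0 | ⟨u, π, hπ, hul, hu0, hne2⟩
  · exact hne (Fin.ext h0)
  · -- the element of the word u sends 0 to ω
    have h1 := hw u hul (φ g 0)
    rw [hu0] at h1
    have h2 : (φ (PresentedGroup.mk Rels (wordElt gc u)))⁻¹ (φ g 0) = 0 := Fin.ext h1
    rw [Equiv.Perm.inv_eq_iff_eq] at h2
    -- so u⁻¹ g lies in C0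
    have h3 : (PresentedGroup.mk Rels (wordElt gc u))⁻¹ * g ∈ C0 := by
      rw [hK, map_mul, map_inv, Equiv.Perm.mul_apply, Equiv.Perm.inv_eq_iff_eq]
      exact h2
    have h4 := C0_le h3
    have h5 : PresentedGroup.mk Rels (wordElt gc u) ∈ Subgroup.centralizer {z} := by
      have := Subgroup.mul_mem _ hg (Subgroup.inv_mem _ h4)
      rwa [mul_inv_rev, inv_inv, mul_inv_cancel_left] at this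
    have h6 : z * PresentedGroup.mk Rels (wordElt gc u) =
        PresentedGroup.mk Rels (wordElt gc u) * z :=
      (Subgroup.mem_centralizer_iff.mp h5) z (Set.mem_singleton z)
    have h7 : PresentedGroup.mk Rels (wordElt gc (u ++ [3])) =
        PresentedGroup.mk Rels (wordElt gc (3 :: u)) := by
      rw [wordElt_append, map_mul, show (3 :: u : List ℕ) = [3] ++ u from rfl, wordElt_append,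
        map_mul]
      exact h6.symm
    have hl1 : ∀ c ∈ u ++ [3], c < 7 := by
      intro c hc
      rw [List.mem_append, List.mem_singleton] at hc
      rcases hc with hc | rfl
      · exact hul c hc
      · decide
    have hl2 : ∀ c ∈ 3 :: u, c < 7 := by
      intro c hc
      rw [List.mem_cons] at hc
      rcases hc with rfl | hc
      · decide
      · exact hul c hc
    have h8 := hw (u ++ [3]) hl1 ⟨π, hπ⟩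
    have h9 := hw (3 :: u) hl2 ⟨π, hπ⟩
    rw [h7, h9] at h8
    exact hne2 h8.symm

theorem card_C0 : Nat.card C0 = 21504 := by
  obtain ⟨_, _, _, hidx⟩ := repZ
  have hcard : Nat.card He = 4030387200 := by
    obtain ⟨_, _, _, _, hcard, _⟩ := HeOrd.rep
    exact hcard
  have h1 := Subgroup.card_mul_index C0
  rw [hidx, hcard] at h1
  exact Nat.eq_of_mul_eq_mul_right (by norm_num : 0 < 187425) (h1.trans (by norm_num))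

end Cfsg.Agent.Lib.Helper6.HeZ1
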