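import Cfsg.Agent.Lib.Helper6.Spor.HeZ1
import Cfsg.Agent.Lib.Helper6.TCD.HePU.Idx
import Cfsg.Agent.Lib.Helper6.WP10

set_option autoImplicit false
set_option maxRecDepth 100000

namespace Cfsg.Agent.Lib.Helper6.HeZ2

open Cfsg.Spor Cfsg.Agent.Lib.Helper6.TC Cfsg.Agent.Lib.Helper6.TCD Cfsg.Agent.Lib.Helper6.Simp
open Cfsg.Agent.Lib.Helper6.TCP.He

/-! # The centraliser of the involution `d` of the Held group is the group presented by
`HePU.base` -/

/-- the words of the columns -/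
def cw (i : ℕ) : List ℕ := HeZIdx.subw.getD i []

theorem hcl : ∀ b ∈ HePU.base, ∀ c ∈ b.flatMap cw, c < 7 := by
  decide +kernel

theorem hchk : ∀ b ∈ HePU.base, wappS Hea.px (b.flatMap cw) 34 = 34 ∧
    wappS Hea.px (b.flatMap cw) 15 = 15 ∧ wappS Hea.px (b.flatMap cw) 1 = 1 ∧
    wappS Hea.px (b.flatMap cw) 0 = 0 := by
  decide +kernel

theorem hrel : ∀ b ∈ HePU.base,
    PresentedGroup.mk Rels (wordElt gc (b.flatMap cw)) = 1 := by
  intro b hb
  obtain ⟨h1, h2, h3, h4⟩ := hchk b hb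
  exact HeOrd.base_trivial _ (hcl b hb) h1 h2 h3 h4

/-- the homomorphism from the presented group to the Held group -/
noncomputable def psi : WG 8 HePU.base →* He := wpHomW cw HePU.hbl hrel

theorem psi_of (i : Fin 8) : psi (PresentedGroup.of i) =
    PresentedGroup.mk Rels (wordElt gc (cw i.val)) := wpHomW_of cw _ _ i

theorem cw_mem (i : ℕ) (hi : i < 8) : cw i ∈ HeZIdx.subw := by
  unfold cw
  rw [List.getD_eq_getElem _ _ (show i < HeZIdx.subw.length from hi)]
  exact List.getElem_mem _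

theorem exists_cw (w : List ℕ) (hw : w ∈ HeZIdx.subw) : ∃ i < 8, cw i = w := by
  obtain ⟨i, hi, rfl⟩ := List.mem_iff_getElem.mp hw
  refine ⟨i, hi, ?_⟩
  unfold cw
  rw [List.getD_eq_getElem _ _ hi]

theorem psi_range : psi.range = HeZ1.C0 := by
  rw [MonoidHom.range_eq_map, ← PresentedGroup.closure_range_of, MonoidHom.map_closure]
  show _ = (Subgroup.closure HeZIdx.S).map (PresentedGroup.mk Rels)
  rw [MonoidHom.map_closure]
  congr 1
  ext x
  constructor
  · rintro ⟨_, ⟨i, rfl⟩, rfl⟩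
    have h : psi (PresentedGroup.of i) = PresentedGroup.mk Rels (wordElt gc (cw i.val)) := psi_of i
    rw [h]
    exact ⟨wordElt gc (cw i.val), (HeZIdx.hsw' _ (cw_mem i.val i.isLt)).2, rfl⟩
  · rintro ⟨s, hs, rfl⟩
    obtain ⟨w, hw, rfl⟩ := HeZIdx.hsw s hs
    obtain ⟨i, hi, rfl⟩ := exists_cw w hw
    exact ⟨PresentedGroup.of ⟨i, hi⟩, ⟨⟨i, hi⟩, rfl⟩, psi_of ⟨i, hi⟩⟩

theorem card_le : Finite (WG 8 HePU.base) ∧ Nat.card (WG 8 HePU.base) ≤ 21504 :=
  wp_bottom HePU.idx

theorem psi_bijective : Function.Bijective psi.rangeRestrict := by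
  haveI := card_le.1
  refine Function.Surjective.bijective_of_nat_card_le psi.rangeRestrict_surjective ?_
  rw [psi_range, HeZ1.card_C0]
  exact card_le.2

/-- the presented group is the centraliser -/
noncomputable def iso : WG 8 HePU.base ≃* HeZ1.C0 :=
  (MulEquiv.ofBijective psi.rangeRestrict psi_bijective).trans (MulEquiv.subgroupCongr psi_range)

theorem card_eq : Nat.card (WG 8 HePU.base) = 21504 := by
  rw [Nat.card_congr iso.toEquiv, HeZ1.card_C0]

end Cfsg.Agent.Lib.Helper6.HeZ2
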