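import Mathlib
import Cfsg.Agent.Lib.Helper6.TCP.He
import Cfsg.Agent.Lib.Helper6.TC14
import Cfsg.Agent.Lib.Helper6.TCD.HeZ.All

set_option autoImplicit false
open Cfsg

namespace Cfsg.Agent.Lib.Helper6.HeZIdx
open Cfsg.Spor Cfsg.Agent.Lib.Helper6.TC Cfsg.Agent.Lib.Helper6.TCP.He Cfsg.Agent.Lib.Helper6.TCD.HeZ

section helpers
set_option maxRecDepth 100000
set_option linter.unusedSimpArgs false

/-- the generating set of the subgroup -/
abbrev S : Set (FreeGroup He.Gen) :=
  {He.a, He.b, He.d, (He.e * He.d * He.c * He.d * He.e) ^ 1, (He.e * He.d * He.f * He.d * He.e) ^ 1, (He.e * He.d * He.g * He.d * He.e) ^ 1, (He.f * He.d * He.c * He.d * He.f) ^ 1, (He.g * He.d * He.c * He.d * He.g) ^ 1}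

def v3 : List ℕ := [4, 3, 2, 3, 4]

theorem wordElt_v3 : wordElt gc v3 = He.e * He.d * He.c * He.d * He.e := by
  simp only [v3, wordElt_cons, wordElt_nil, mul_one, mul_assoc]
  rfl

def v4 : List ℕ := [4, 3, 5, 3, 4]

theorem wordElt_v4 : wordElt gc v4 = He.e * He.d * He.f * He.d * He.e := by
  simp only [v4, wordElt_cons, wordElt_nil, mul_one, mul_assoc]
  rfl

def v5 : List ℕ := [4, 3, 6, 3, 4]

theorem wordElt_v5 : wordElt gc v5 = He.e * He.d * He.g * He.d * He.e := by
  simp only [v5, wordElt_cons, wordElt_nil, mul_one, mul_assoc]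
  rfl

def v6 : List ℕ := [5, 3, 2, 3, 5]

theorem wordElt_v6 : wordElt gc v6 = He.f * He.d * He.c * He.d * He.f := by
  simp only [v6, wordElt_cons, wordElt_nil, mul_one, mul_assoc]
  rfl

def v7 : List ℕ := [6, 3, 2, 3, 6]

theorem wordElt_v7 : wordElt gc v7 = He.g * He.d * He.c * He.d * He.g := by
  simp only [v7, wordElt_cons, wordElt_nil, mul_one, mul_assoc]
  rfl

/-- the words of the generators of the subgroup -/
def subw : List (List ℕ) := [[0], [1], [3], (List.replicate 1 v3).flatten, (List.replicate 1 v4).flatten, (List.replicate 1 v5).flatten, (List.replicate 1 v6).flatten, (List.replicate 1 v7).flatten]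

theorem wordElt_single0 : wordElt gc [0] = FreeGroup.of He.Gen.a := by
  rw [wordElt_cons, wordElt_nil, mul_one]
  rfl

theorem wordElt_single1 : wordElt gc [1] = FreeGroup.of He.Gen.b := by
  rw [wordElt_cons, wordElt_nil, mul_one]
  rfl

theorem wordElt_single3 : wordElt gc [3] = FreeGroup.of He.Gen.d := by
  rw [wordElt_cons, wordElt_nil, mul_one]
  rfl

theorem hsw : ∀ s ∈ S, ∃ w ∈ subw, s = wordElt gc w := by
  intro s hs
  simp only [S, Set.mem_insert_iff, Set.mem_singleton_iff] at hs
  rcases hs with rfl | rfl | rfl | rfl | rfl | rfl | rfl | rfl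
  · exact ⟨[0], by simp [subw], (wordElt_single0).symm⟩
  · exact ⟨[1], by simp [subw], (wordElt_single1).symm⟩
  · exact ⟨[3], by simp [subw], (wordElt_single3).symm⟩
  · exact ⟨(List.replicate 1 v3).flatten, by simp [subw], by rw [wordElt_flatten_replicate, wordElt_v3]⟩
  · exact ⟨(List.replicate 1 v4).flatten, by simp [subw], by rw [wordElt_flatten_replicate, wordElt_v4]⟩
  · exact ⟨(List.replicate 1 v5).flatten, by simp [subw], by rw [wordElt_flatten_replicate, wordElt_v5]⟩
  · exact ⟨(List.replicate 1 v6).flatten, by simp [subw], by rw [wordElt_flatten_replicate, wordElt_v6]⟩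
  · exact ⟨(List.replicate 1 v7).flatten, by simp [subw], by rw [wordElt_flatten_replicate, wordElt_v7]⟩

theorem hsw' : ∀ w ∈ subw, (∀ c ∈ w, c < 7) ∧ wordElt gc w ∈ S := by
  intro w hw
  simp only [subw, List.mem_cons, List.mem_nil_iff, or_false] at hw
  rcases hw with rfl | rfl | rfl | rfl | rfl | rfl | rfl | rfl
  · exact ⟨by decide, by rw [wordElt_single0]; show FreeGroup.of He.Gen.a ∈ S; simp [S]⟩
  · exact ⟨by decide, by rw [wordElt_single1]; show FreeGroup.of He.Gen.b ∈ S; simp [S]⟩
  · exact ⟨by decide, by rw [wordElt_single3]; show FreeGroup.of He.Gen.d ∈ S; simp [S]⟩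
  · exact ⟨by decide, by rw [wordElt_flatten_replicate, wordElt_v3]; simp [S]⟩
  · exact ⟨by decide, by rw [wordElt_flatten_replicate, wordElt_v4]; simp [S]⟩
  · exact ⟨by decide, by rw [wordElt_flatten_replicate, wordElt_v5]; simp [S]⟩
  · exact ⟨by decide, by rw [wordElt_flatten_replicate, wordElt_v6]; simp [S]⟩
  · exact ⟨by decide, by rw [wordElt_flatten_replicate, wordElt_v7]; simp [S]⟩

theorem chkW : allB (chkWord WD WI base subw Cfsg.Agent.Lib.Helper6.TCD.HeZ.INV ncol nrw) nw = true := by
  decide +kernel

theorem hS : ∀ s < n * ncol, chkSlot SH SC NH NC WD n ncol nrw nw tmax Cfsg.Agent.Lib.Helper6.TCD.HeZ.INV s = true := by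
  intro s hs
  have hs' : s < 1324589 := hs
  by_cases h0 : s < 8000
  · exact allR_spec chkS0 s (by omega) (by omega)
  by_cases h1 : s < 16000
  · exact allR_spec chkS1 s (by omega) (by omega)
  by_cases h2 : s < 24000
  · exact allR_spec chkS2 s (by omega) (by omega)
  by_cases h3 : s < 32000
  · exact allR_spec chkS3 s (by omega) (by omega)
  by_cases h4 : s < 40000
  · exact allR_spec chkS4 s (by omega) (by omega)
  by_cases h5 : s < 48000
  · exact allR_spec chkS5 s (by omega) (by omega)
  by_cases h6 : s < 56000
  · exact allR_spec chkS6 s (by omega) (by omega)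
  by_cases h7 : s < 64000
  · exact allR_spec chkS7 s (by omega) (by omega)
  by_cases h8 : s < 72000
  · exact allR_spec chkS8 s (by omega) (by omega)
  by_cases h9 : s < 80000
  · exact allR_spec chkS9 s (by omega) (by omega)
  by_cases h10 : s < 88000
  · exact allR_spec chkS10 s (by omega) (by omega)
  by_cases h11 : s < 96000
  · exact allR_spec chkS11 s (by omega) (by omega)
  by_cases h12 : s < 104000
  · exact allR_spec chkS12 s (by omega) (by omega)
  by_cases h13 : s < 112000
  · exact allR_spec chkS13 s (by omega) (by omega)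
  by_cases h14 : s < 120000
  · exact allR_spec chkS14 s (by omega) (by omega)
  by_cases h15 : s < 128000
  · exact allR_spec chkS15 s (by omega) (by omega)
  by_cases h16 : s < 136000
  · exact allR_spec chkS16 s (by omega) (by omega)
  by_cases h17 : s < 144000
  · exact allR_spec chkS17 s (by omega) (by omega)
  by_cases h18 : s < 152000
  · exact allR_spec chkS18 s (by omega) (by omega)
  by_cases h19 : s < 160000
  · exact allR_spec chkS19 s (by omega) (by omega)
  by_cases h20 : s < 168000
  · exact allR_spec chkS20 s (by omega) (by omega)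
  by_cases h21 : s < 176000
  · exact allR_spec chkS21 s (by omega) (by omega)
  by_cases h22 : s < 184000
  · exact allR_spec chkS22 s (by omega) (by omega)
  by_cases h23 : s < 192000
  · exact allR_spec chkS23 s (by omega) (by omega)
  by_cases h24 : s < 200000
  · exact allR_spec chkS24 s (by omega) (by omega)
  by_cases h25 : s < 208000
  · exact allR_spec chkS25 s (by omega) (by omega)
  by_cases h26 : s < 216000
  · exact allR_spec chkS26 s (by omega) (by omega)
  by_cases h27 : s < 224000
  · exact allR_spec chkS27 s (by omega) (by omega)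
  by_cases h28 : s < 232000
  · exact allR_spec chkS28 s (by omega) (by omega)
  by_cases h29 : s < 240000
  · exact allR_spec chkS29 s (by omega) (by omega)
  by_cases h30 : s < 248000
  · exact allR_spec chkS30 s (by omega) (by omega)
  by_cases h31 : s < 256000
  · exact allR_spec chkS31 s (by omega) (by omega)
  by_cases h32 : s < 264000
  · exact allR_spec chkS32 s (by omega) (by omega)
  by_cases h33 : s < 272000
  · exact allR_spec chkS33 s (by omega) (by omega)
  by_cases h34 : s < 280000
  · exact allR_spec chkS34 s (by omega) (by omega)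
  by_cases h35 : s < 288000
  · exact allR_spec chkS35 s (by omega) (by omega)
  by_cases h36 : s < 296000
  · exact allR_spec chkS36 s (by omega) (by omega)
  by_cases h37 : s < 304000
  · exact allR_spec chkS37 s (by omega) (by omega)
  by_cases h38 : s < 312000
  · exact allR_spec chkS38 s (by omega) (by omega)
  by_cases h39 : s < 320000
  · exact allR_spec chkS39 s (by omega) (by omega)
  by_cases h40 : s < 328000
  · exact allR_spec chkS40 s (by omega) (by omega)
  by_cases h41 : s < 336000
  · exact allR_spec chkS41 s (by omega) (by omega)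
  by_cases h42 : s < 344000
  · exact allR_spec chkS42 s (by omega) (by omega)
  by_cases h43 : s < 352000
  · exact allR_spec chkS43 s (by omega) (by omega)
  by_cases h44 : s < 360000
  · exact allR_spec chkS44 s (by omega) (by omega)
  by_cases h45 : s < 368000
  · exact allR_spec chkS45 s (by omega) (by omega)
  by_cases h46 : s < 376000
  · exact allR_spec chkS46 s (by omega) (by omega)
  by_cases h47 : s < 384000
  · exact allR_spec chkS47 s (by omega) (by omega)
  by_cases h48 : s < 392000
  · exact allR_spec chkS48 s (by omega) (by omega)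
  by_cases h49 : s < 400000
  · exact allR_spec chkS49 s (by omega) (by omega)
  by_cases h50 : s < 408000
  · exact allR_spec chkS50 s (by omega) (by omega)
  by_cases h51 : s < 416000
  · exact allR_spec chkS51 s (by omega) (by omega)
  by_cases h52 : s < 424000
  · exact allR_spec chkS52 s (by omega) (by omega)
  by_cases h53 : s < 432000
  · exact allR_spec chkS53 s (by omega) (by omega)
  by_cases h54 : s < 440000
  · exact allR_spec chkS54 s (by omega) (by omega)
  by_cases h55 : s < 448000
  · exact allR_spec chkS55 s (by omega) (by omega)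
  by_cases h56 : s < 456000
  · exact allR_spec chkS56 s (by omega) (by omega)
  by_cases h57 : s < 464000
  · exact allR_spec chkS57 s (by omega) (by omega)
  by_cases h58 : s < 472000
  · exact allR_spec chkS58 s (by omega) (by omega)
  by_cases h59 : s < 480000
  · exact allR_spec chkS59 s (by omega) (by omega)
  by_cases h60 : s < 488000
  · exact allR_spec chkS60 s (by omega) (by omega)
  by_cases h61 : s < 496000
  · exact allR_spec chkS61 s (by omega) (by omega)
  by_cases h62 : s < 504000
  · exact allR_spec chkS62 s (by omega) (by omega)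
  by_cases h63 : s < 512000
  · exact allR_spec chkS63 s (by omega) (by omega)
  by_cases h64 : s < 520000
  · exact allR_spec chkS64 s (by omega) (by omega)
  by_cases h65 : s < 528000
  · exact allR_spec chkS65 s (by omega) (by omega)
  by_cases h66 : s < 536000
  · exact allR_spec chkS66 s (by omega) (by omega)
  by_cases h67 : s < 544000
  · exact allR_spec chkS67 s (by omega) (by omega)
  by_cases h68 : s < 552000
  · exact allR_spec chkS68 s (by omega) (by omega)
  by_cases h69 : s < 560000
  · exact allR_spec chkS69 s (by omega) (by omega)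
  by_cases h70 : s < 568000
  · exact allR_spec chkS70 s (by omega) (by omega)
  by_cases h71 : s < 576000
  · exact allR_spec chkS71 s (by omega) (by omega)
  by_cases h72 : s < 584000
  · exact allR_spec chkS72 s (by omega) (by omega)
  by_cases h73 : s < 592000
  · exact allR_spec chkS73 s (by omega) (by omega)
  by_cases h74 : s < 600000
  · exact allR_spec chkS74 s (by omega) (by omega)
  by_cases h75 : s < 608000
  · exact allR_spec chkS75 s (by omega) (by omega)
  by_cases h76 : s < 616000
  · exact allR_spec chkS76 s (by omega) (by omega)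
  by_cases h77 : s < 624000
  · exact allR_spec chkS77 s (by omega) (by omega)
  by_cases h78 : s < 632000
  · exact allR_spec chkS78 s (by omega) (by omega)
  by_cases h79 : s < 640000
  · exact allR_spec chkS79 s (by omega) (by omega)
  by_cases h80 : s < 648000
  · exact allR_spec chkS80 s (by omega) (by omega)
  by_cases h81 : s < 656000
  · exact allR_spec chkS81 s (by omega) (by omega)
  by_cases h82 : s < 664000
  · exact allR_spec chkS82 s (by omega) (by omega)
  by_cases h83 : s < 672000
  · exact allR_spec chkS83 s (by omega) (by omega)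
  by_cases h84 : s < 680000
  · exact allR_spec chkS84 s (by omega) (by omega)
  by_cases h85 : s < 688000
  · exact allR_spec chkS85 s (by omega) (by omega)
  by_cases h86 : s < 696000
  · exact allR_spec chkS86 s (by omega) (by omega)
  by_cases h87 : s < 704000
  · exact allR_spec chkS87 s (by omega) (by omega)
  by_cases h88 : s < 712000
  · exact allR_spec chkS88 s (by omega) (by omega)
  by_cases h89 : s < 720000
  · exact allR_spec chkS89 s (by omega) (by omega)
  by_cases h90 : s < 728000
  · exact allR_spec chkS90 s (by omega) (by omega)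
  by_cases h91 : s < 736000
  · exact allR_spec chkS91 s (by omega) (by omega)
  by_cases h92 : s < 744000
  · exact allR_spec chkS92 s (by omega) (by omega)
  by_cases h93 : s < 752000
  · exact allR_spec chkS93 s (by omega) (by omega)
  by_cases h94 : s < 760000
  · exact allR_spec chkS94 s (by omega) (by omega)
  by_cases h95 : s < 768000
  · exact allR_spec chkS95 s (by omega) (by omega)
  by_cases h96 : s < 776000
  · exact allR_spec chkS96 s (by omega) (by omega)
  by_cases h97 : s < 784000
  · exact allR_spec chkS97 s (by omega) (by omega)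
  by_cases h98 : s < 792000
  · exact allR_spec chkS98 s (by omega) (by omega)
  by_cases h99 : s < 800000
  · exact allR_spec chkS99 s (by omega) (by omega)
  by_cases h100 : s < 808000
  · exact allR_spec chkS100 s (by omega) (by omega)
  by_cases h101 : s < 816000
  · exact allR_spec chkS101 s (by omega) (by omega)
  by_cases h102 : s < 824000
  · exact allR_spec chkS102 s (by omega) (by omega)
  by_cases h103 : s < 832000
  · exact allR_spec chkS103 s (by omega) (by omega)
  by_cases h104 : s < 840000
  · exact allR_spec chkS104 s (by omega) (by omega)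
  by_cases h105 : s < 848000
  · exact allR_spec chkS105 s (by omega) (by omega)
  by_cases h106 : s < 856000
  · exact allR_spec chkS106 s (by omega) (by omega)
  by_cases h107 : s < 864000
  · exact allR_spec chkS107 s (by omega) (by omega)
  by_cases h108 : s < 872000
  · exact allR_spec chkS108 s (by omega) (by omega)
  by_cases h109 : s < 880000
  · exact allR_spec chkS109 s (by omega) (by omega)
  by_cases h110 : s < 888000
  · exact allR_spec chkS110 s (by omega) (by omega)
  by_cases h111 : s < 896000
  · exact allR_spec chkS111 s (by omega) (by omega)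
  by_cases h112 : s < 904000
  · exact allR_spec chkS112 s (by omega) (by omega)
  by_cases h113 : s < 912000
  · exact allR_spec chkS113 s (by omega) (by omega)
  by_cases h114 : s < 920000
  · exact allR_spec chkS114 s (by omega) (by omega)
  by_cases h115 : s < 928000
  · exact allR_spec chkS115 s (by omega) (by omega)
  by_cases h116 : s < 936000
  · exact allR_spec chkS116 s (by omega) (by omega)
  by_cases h117 : s < 944000
  · exact allR_spec chkS117 s (by omega) (by omega)
  by_cases h118 : s < 952000
  · exact allR_spec chkS118 s (by omega) (by omega)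
  by_cases h119 : s < 960000
  · exact allR_spec chkS119 s (by omega) (by omega)
  by_cases h120 : s < 968000
  · exact allR_spec chkS120 s (by omega) (by omega)
  by_cases h121 : s < 976000
  · exact allR_spec chkS121 s (by omega) (by omega)
  by_cases h122 : s < 984000
  · exact allR_spec chkS122 s (by omega) (by omega)
  by_cases h123 : s < 992000
  · exact allR_spec chkS123 s (by omega) (by omega)
  by_cases h124 : s < 1000000
  · exact allR_spec chkS124 s (by omega) (by omega)
  by_cases h125 : s < 1008000
  · exact allR_spec chkS125 s (by omega) (by omega)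
  by_cases h126 : s < 1016000
  · exact allR_spec chkS126 s (by omega) (by omega)
  by_cases h127 : s < 1024000
  · exact allR_spec chkS127 s (by omega) (by omega)
  by_cases h128 : s < 1032000
  · exact allR_spec chkS128 s (by omega) (by omega)
  by_cases h129 : s < 1040000
  · exact allR_spec chkS129 s (by omega) (by omega)
  by_cases h130 : s < 1048000
  · exact allR_spec chkS130 s (by omega) (by omega)
  by_cases h131 : s < 1056000
  · exact allR_spec chkS131 s (by omega) (by omega)
  by_cases h132 : s < 1064000
  · exact allR_spec chkS132 s (by omega) (by omega)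
  by_cases h133 : s < 1072000
  · exact allR_spec chkS133 s (by omega) (by omega)
  by_cases h134 : s < 1080000
  · exact allR_spec chkS134 s (by omega) (by omega)
  by_cases h135 : s < 1088000
  · exact allR_spec chkS135 s (by omega) (by omega)
  by_cases h136 : s < 1096000
  · exact allR_spec chkS136 s (by omega) (by omega)
  by_cases h137 : s < 1104000
  · exact allR_spec chkS137 s (by omega) (by omega)
  by_cases h138 : s < 1112000
  · exact allR_spec chkS138 s (by omega) (by omega)
  by_cases h139 : s < 1120000
  · exact allR_spec chkS139 s (by omega) (by omega)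
  by_cases h140 : s < 1128000
  · exact allR_spec chkS140 s (by omega) (by omega)
  by_cases h141 : s < 1136000
  · exact allR_spec chkS141 s (by omega) (by omega)
  by_cases h142 : s < 1144000
  · exact allR_spec chkS142 s (by omega) (by omega)
  by_cases h143 : s < 1152000
  · exact allR_spec chkS143 s (by omega) (by omega)
  by_cases h144 : s < 1160000
  · exact allR_spec chkS144 s (by omega) (by omega)
  by_cases h145 : s < 1168000
  · exact allR_spec chkS145 s (by omega) (by omega)
  by_cases h146 : s < 1176000
  · exact allR_spec chkS146 s (by omega) (by omega)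
  by_cases h147 : s < 1184000
  · exact allR_spec chkS147 s (by omega) (by omega)
  by_cases h148 : s < 1192000
  · exact allR_spec chkS148 s (by omega) (by omega)
  by_cases h149 : s < 1200000
  · exact allR_spec chkS149 s (by omega) (by omega)
  by_cases h150 : s < 1208000
  · exact allR_spec chkS150 s (by omega) (by omega)
  by_cases h151 : s < 1216000
  · exact allR_spec chkS151 s (by omega) (by omega)
  by_cases h152 : s < 1224000
  · exact allR_spec chkS152 s (by omega) (by omega)
  by_cases h153 : s < 1232000
  · exact allR_spec chkS153 s (by omega) (by omega)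
  by_cases h154 : s < 1240000
  · exact allR_spec chkS154 s (by omega) (by omega)
  by_cases h155 : s < 1248000
  · exact allR_spec chkS155 s (by omega) (by omega)
  by_cases h156 : s < 1256000
  · exact allR_spec chkS156 s (by omega) (by omega)
  by_cases h157 : s < 1264000
  · exact allR_spec chkS157 s (by omega) (by omega)
  by_cases h158 : s < 1272000
  · exact allR_spec chkS158 s (by omega) (by omega)
  by_cases h159 : s < 1280000
  · exact allR_spec chkS159 s (by omega) (by omega)
  by_cases h160 : s < 1288000
  · exact allR_spec chkS160 s (by omega) (by omega)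
  by_cases h161 : s < 1296000
  · exact allR_spec chkS161 s (by omega) (by omega)
  by_cases h162 : s < 1304000
  · exact allR_spec chkS162 s (by omega) (by omega)
  by_cases h163 : s < 1312000
  · exact allR_spec chkS163 s (by omega) (by omega)
  by_cases h164 : s < 1320000
  · exact allR_spec chkS164 s (by omega) (by omega)
  by_cases h165 : s < 1324589
  · exact allR_spec chkS165 s (by omega) (by omega)
  omega

theorem hN : ∀ ν < n, chkName SH NH NC WD n ncol nrw nw tmax ν = true := by
  intro ν hν
  have hν' : ν < 189227 := hν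
  by_cases h0 : ν < 6000
  · exact allR_spec chkN0 ν (by omega) (by omega)
  by_cases h1 : ν < 12000
  · exact allR_spec chkN1 ν (by omega) (by omega)
  by_cases h2 : ν < 18000
  · exact allR_spec chkN2 ν (by omega) (by omega)
  by_cases h3 : ν < 24000
  · exact allR_spec chkN3 ν (by omega) (by omega)
  by_cases h4 : ν < 30000
  · exact allR_spec chkN4 ν (by omega) (by omega)
  by_cases h5 : ν < 36000
  · exact allR_spec chkN5 ν (by omega) (by omega)
  by_cases h6 : ν < 42000
  · exact allR_spec chkN6 ν (by omega) (by omega)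
  by_cases h7 : ν < 48000
  · exact allR_spec chkN7 ν (by omega) (by omega)
  by_cases h8 : ν < 54000
  · exact allR_spec chkN8 ν (by omega) (by omega)
  by_cases h9 : ν < 60000
  · exact allR_spec chkN9 ν (by omega) (by omega)
  by_cases h10 : ν < 66000
  · exact allR_spec chkN10 ν (by omega) (by omega)
  by_cases h11 : ν < 72000
  · exact allR_spec chkN11 ν (by omega) (by omega)
  by_cases h12 : ν < 78000
  · exact allR_spec chkN12 ν (by omega) (by omega)
  by_cases h13 : ν < 84000
  · exact allR_spec chkN13 ν (by omega) (by omega)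
  by_cases h14 : ν < 90000
  · exact allR_spec chkN14 ν (by omega) (by omega)
  by_cases h15 : ν < 96000
  · exact allR_spec chkN15 ν (by omega) (by omega)
  by_cases h16 : ν < 102000
  · exact allR_spec chkN16 ν (by omega) (by omega)
  by_cases h17 : ν < 108000
  · exact allR_spec chkN17 ν (by omega) (by omega)
  by_cases h18 : ν < 114000
  · exact allR_spec chkN18 ν (by omega) (by omega)
  by_cases h19 : ν < 120000
  · exact allR_spec chkN19 ν (by omega) (by omega)
  by_cases h20 : ν < 126000
  · exact allR_spec chkN20 ν (by omega) (by omega)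
  by_cases h21 : ν < 132000
  · exact allR_spec chkN21 ν (by omega) (by omega)
  by_cases h22 : ν < 138000
  · exact allR_spec chkN22 ν (by omega) (by omega)
  by_cases h23 : ν < 144000
  · exact allR_spec chkN23 ν (by omega) (by omega)
  by_cases h24 : ν < 150000
  · exact allR_spec chkN24 ν (by omega) (by omega)
  by_cases h25 : ν < 156000
  · exact allR_spec chkN25 ν (by omega) (by omega)
  by_cases h26 : ν < 162000
  · exact allR_spec chkN26 ν (by omega) (by omega)
  by_cases h27 : ν < 168000
  · exact allR_spec chkN27 ν (by omega) (by omega)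
  by_cases h28 : ν < 174000
  · exact allR_spec chkN28 ν (by omega) (by omega)
  by_cases h29 : ν < 180000
  · exact allR_spec chkN29 ν (by omega) (by omega)
  by_cases h30 : ν < 186000
  · exact allR_spec chkN30 ν (by omega) (by omega)
  by_cases h31 : ν < 189227
  · exact allR_spec chkN31 ν (by omega) (by omega)
  omega

theorem hL : ∀ ν < n, chkLive SH NH n ncol tmax ν = true := by
  intro ν hν
  have hν' : ν < 189227 := hν
  by_cases h0 : ν < 6000
  · exact allR_spec chkL0 ν (by omega) (by omega)
  by_cases h1 : ν < 12000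
  · exact allR_spec chkL1 ν (by omega) (by omega)
  by_cases h2 : ν < 18000
  · exact allR_spec chkL2 ν (by omega) (by omega)
  by_cases h3 : ν < 24000
  · exact allR_spec chkL3 ν (by omega) (by omega)
  by_cases h4 : ν < 30000
  · exact allR_spec chkL4 ν (by omega) (by omega)
  by_cases h5 : ν < 36000
  · exact allR_spec chkL5 ν (by omega) (by omega)
  by_cases h6 : ν < 42000
  · exact allR_spec chkL6 ν (by omega) (by omega)
  by_cases h7 : ν < 48000
  · exact allR_spec chkL7 ν (by omega) (by omega)
  by_cases h8 : ν < 54000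
  · exact allR_spec chkL8 ν (by omega) (by omega)
  by_cases h9 : ν < 60000
  · exact allR_spec chkL9 ν (by omega) (by omega)
  by_cases h10 : ν < 66000
  · exact allR_spec chkL10 ν (by omega) (by omega)
  by_cases h11 : ν < 72000
  · exact allR_spec chkL11 ν (by omega) (by omega)
  by_cases h12 : ν < 78000
  · exact allR_spec chkL12 ν (by omega) (by omega)
  by_cases h13 : ν < 84000
  · exact allR_spec chkL13 ν (by omega) (by omega)
  by_cases h14 : ν < 90000
  · exact allR_spec chkL14 ν (by omega) (by omega)
  by_cases h15 : ν < 96000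
  · exact allR_spec chkL15 ν (by omega) (by omega)
  by_cases h16 : ν < 102000
  · exact allR_spec chkL16 ν (by omega) (by omega)
  by_cases h17 : ν < 108000
  · exact allR_spec chkL17 ν (by omega) (by omega)
  by_cases h18 : ν < 114000
  · exact allR_spec chkL18 ν (by omega) (by omega)
  by_cases h19 : ν < 120000
  · exact allR_spec chkL19 ν (by omega) (by omega)
  by_cases h20 : ν < 126000
  · exact allR_spec chkL20 ν (by omega) (by omega)
  by_cases h21 : ν < 132000
  · exact allR_spec chkL21 ν (by omega) (by omega)
  by_cases h22 : ν < 138000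
  · exact allR_spec chkL22 ν (by omega) (by omega)
  by_cases h23 : ν < 144000
  · exact allR_spec chkL23 ν (by omega) (by omega)
  by_cases h24 : ν < 150000
  · exact allR_spec chkL24 ν (by omega) (by omega)
  by_cases h25 : ν < 156000
  · exact allR_spec chkL25 ν (by omega) (by omega)
  by_cases h26 : ν < 162000
  · exact allR_spec chkL26 ν (by omega) (by omega)
  by_cases h27 : ν < 168000
  · exact allR_spec chkL27 ν (by omega) (by omega)
  by_cases h28 : ν < 174000
  · exact allR_spec chkL28 ν (by omega) (by omega)
  by_cases h29 : ν < 180000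
  · exact allR_spec chkL29 ν (by omega) (by omega)
  by_cases h30 : ν < 186000
  · exact allR_spec chkL30 ν (by omega) (by omega)
  by_cases h31 : ν < 189227
  · exact allR_spec chkL31 ν (by omega) (by omega)
  omega

theorem hwords :
    (∀ j < nrw, j < nw → PresentedGroup.mk Rels (wordElt gc (wordL WD j)) = 1) ∧
    (∀ j, nrw ≤ j → j < nw → wordElt gc (wordL WD j) ∈ Subgroup.closure S) ∧
    (∀ j < nw, ∀ c ∈ wordL WD j, c < ncol) :=
  words_ok (S := S) (nw := nw) hinvG hbl hbase
    (fun w hw => Subgroup.subset_closure (hsw' w hw).2) (fun j hj => allB_spec chkW j hj)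

theorem idx_le : (subH Rels S).index ≤ N ∧ (subH Rels S).index ≠ 0 := by
  have h := index_le (rels := Rels) (S := S) (gc := gc) (n := n) (ncol := ncol) (nrw := nrw) (nw := nw)
    (tmax := tmax) (INV := Cfsg.Agent.Lib.Helper6.TCD.HeZ.INV) (SH := SH) (SC := SC) (NH := NH) (NC := NC) (WD := WD)
    (by decide) hgen hinv1 hinvG (fun j hj => hwords.1 j hj (by unfold nrw nw at *; omega)) hwords.2.1 hwords.2.2 hS hN hL
  have e : cntLive NH n tmax n = N := chkC
  rw [e] at h
  exact h

theorem hP : PHyp px N 7 Cfsg.Agent.Lib.Helper6.TCP.He.INV where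
  Npos := by decide
  hinv1 := hinv1
  hinvinv := by decide
  hlt := by
    intro c hc p hp
    interval_cases c
    · exact (chkCol_spec chkP0 p hp).1
    · exact (chkCol_spec chkP1 p hp).1
    · exact (chkCol_spec chkP2 p hp).1
    · exact (chkCol_spec chkP3 p hp).1
    · exact (chkCol_spec chkP4 p hp).1
    · exact (chkCol_spec chkP5 p hp).1
    · exact (chkCol_spec chkP6 p hp).1
  hpx := by
    intro c hc p hp
    interval_cases c
    · exact (chkCol_spec chkP0 p hp).2
    · exact (chkCol_spec chkP1 p hp).2
    · exact (chkCol_spec chkP2 p hp).2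
    · exact (chkCol_spec chkP3 p hp).2
    · exact (chkCol_spec chkP4 p hp).2
    · exact (chkCol_spec chkP5 p hp).2
    · exact (chkCol_spec chkP6 p hp).2

theorem px_c0 (p : ℕ) : px 0 p = P0 p := rfl
theorem px_c1 (p : ℕ) : px 1 p = P1 p := rfl
theorem px_c2 (p : ℕ) : px 2 p = P2 p := rfl
theorem px_c3 (p : ℕ) : px 3 p = P3 p := rfl
theorem px_c4 (p : ℕ) : px 4 p = P4 p := rfl
theorem px_c5 (p : ℕ) : px 5 p = P5 p := rfl
theorem px_c6 (p : ℕ) : px 6 p = P6 p := rfl

theorem hfixk_0 : ∀ p < N, P0 (P0 p) = p := fun p hp => (chkCol_spec chkP0 p hp).2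

theorem hfixw_0 (p : ℕ) : wapp px (base.getD 0 []) p = P0 (P0 p) := by
  show wapp px [0, 0] p = _
  simp only [wapp_cons, wapp_nil, px_c0]

theorem hfixk_1 : ∀ p < N, P1 (P1 p) = p := fun p hp => (chkCol_spec chkP1 p hp).2

theorem hfixw_1 (p : ℕ) : wapp px (base.getD 1 []) p = P1 (P1 p) := by
  show wapp px [1, 1] p = _
  simp only [wapp_cons, wapp_nil, px_c1]

theorem hfixk_2 : ∀ p < N, P2 (P2 p) = p := fun p hp => (chkCol_spec chkP2 p hp).2

theorem hfixw_2 (p : ℕ) : wapp px (base.getD 2 []) p = P2 (P2 p) := by
  show wapp px [2, 2] p = _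
  simp only [wapp_cons, wapp_nil, px_c2]

theorem hfixk_3 : ∀ p < N, P3 (P3 p) = p := fun p hp => (chkCol_spec chkP3 p hp).2

theorem hfixw_3 (p : ℕ) : wapp px (base.getD 3 []) p = P3 (P3 p) := by
  show wapp px [3, 3] p = _
  simp only [wapp_cons, wapp_nil, px_c3]

theorem hfixk_4 : ∀ p < N, P4 (P4 p) = p := fun p hp => (chkCol_spec chkP4 p hp).2

theorem hfixw_4 (p : ℕ) : wapp px (base.getD 4 []) p = P4 (P4 p) := by
  show wapp px [4, 4] p = _
  simp only [wapp_cons, wapp_nil, px_c4]

theorem hfixk_5 : ∀ p < N, P5 (P5 p) = p := fun p hp => (chkCol_spec chkP5 p hp).2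

theorem hfixw_5 (p : ℕ) : wapp px (base.getD 5 []) p = P5 (P5 p) := by
  show wapp px [5, 5] p = _
  simp only [wapp_cons, wapp_nil, px_c5]

theorem hfixk_6 : ∀ p < N, P6 (P6 p) = p := fun p hp => (chkCol_spec chkP6 p hp).2

theorem hfixw_6 (p : ℕ) : wapp px (base.getD 6 []) p = P6 (P6 p) := by
  show wapp px [6, 6] p = _
  simp only [wapp_cons, wapp_nil, px_c6]

theorem hfixk_7 : ∀ p < N, R7 p = p := by
  intro p hp
  have hp' : p < 187425 := hp
  by_cases g0 : p < 31250
  · exact chkFix_spec chkR7_0 p (by omega) (by omega)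
  by_cases g1 : p < 62500
  · exact chkFix_spec chkR7_1 p (by omega) (by omega)
  by_cases g2 : p < 93750
  · exact chkFix_spec chkR7_2 p (by omega) (by omega)
  by_cases g3 : p < 125000
  · exact chkFix_spec chkR7_3 p (by omega) (by omega)
  by_cases g4 : p < 156250
  · exact chkFix_spec chkR7_4 p (by omega) (by omega)
  exact chkFix_spec chkR7_5 p (by omega) (by omega)

theorem hfixw_7 (p : ℕ) : wapp px (base.getD 7 []) p = R7 p := by
  show wapp px [0, 1, 0, 1, 0, 1, 0, 1] p = _
  simp only [wapp_cons, wapp_nil, px_c0, px_c1, px_c2, px_c3, px_c4, px_c5, px_c6]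
  rfl

theorem hfixk_8 : ∀ p < N, R8 p = p := by
  intro p hp
  have hp' : p < 187425 := hp
  by_cases g0 : p < 62500
  · exact chkFix_spec chkR8_0 p (by omega) (by omega)
  by_cases g1 : p < 125000
  · exact chkFix_spec chkR8_1 p (by omega) (by omega)
  exact chkFix_spec chkR8_2 p (by omega) (by omega)

theorem hfixw_8 (p : ℕ) : wapp px (base.getD 8 []) p = R8 p := by
  show wapp px [0, 2, 0, 2] p = _
  simp only [wapp_cons, wapp_nil, px_c0, px_c1, px_c2, px_c3, px_c4, px_c5, px_c6]
  rfl

theorem hfixk_9 : ∀ p < N, R9 p = p := by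
  intro p hp
  have hp' : p < 187425 := hp
  by_cases g0 : p < 62500
  · exact chkFix_spec chkR9_0 p (by omega) (by omega)
  by_cases g1 : p < 125000
  · exact chkFix_spec chkR9_1 p (by omega) (by omega)
  exact chkFix_spec chkR9_2 p (by omega) (by omega)

theorem hfixw_9 (p : ℕ) : wapp px (base.getD 9 []) p = R9 p := by
  show wapp px [0, 3, 0, 3] p = _
  simp only [wapp_cons, wapp_nil, px_c0, px_c1, px_c2, px_c3, px_c4, px_c5, px_c6]
  rfl

theorem hfixk_10 : ∀ p < N, R10 p = p := by
  intro p hp
  have hp' : p < 187425 := hp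
  by_cases g0 : p < 62500
  · exact chkFix_spec chkR10_0 p (by omega) (by omega)
  by_cases g1 : p < 125000
  · exact chkFix_spec chkR10_1 p (by omega) (by omega)
  exact chkFix_spec chkR10_2 p (by omega) (by omega)

theorem hfixw_10 (p : ℕ) : wapp px (base.getD 10 []) p = R10 p := by
  show wapp px [0, 4, 0, 4] p = _
  simp only [wapp_cons, wapp_nil, px_c0, px_c1, px_c2, px_c3, px_c4, px_c5, px_c6]
  rfl

theorem hfixk_11 : ∀ p < N, R11 p = p := by
  intro p hp
  have hp' : p < 187425 := hp
  by_cases g0 : p < 62500
  · exact chkFix_spec chkR11_0 p (by omega) (by omega)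
  by_cases g1 : p < 125000
  · exact chkFix_spec chkR11_1 p (by omega) (by omega)
  exact chkFix_spec chkR11_2 p (by omega) (by omega)

theorem hfixw_11 (p : ℕ) : wapp px (base.getD 11 []) p = R11 p := by
  show wapp px [0, 5, 0, 5] p = _
  simp only [wapp_cons, wapp_nil, px_c0, px_c1, px_c2, px_c3, px_c4, px_c5, px_c6]
  rfl

theorem hfixk_12 : ∀ p < N, R12 p = p := by
  intro p hp
  have hp' : p < 187425 := hp
  by_cases g0 : p < 62500
  · exact chkFix_spec chkR12_0 p (by omega) (by omega)
  by_cases g1 : p < 125000
  · exact chkFix_spec chkR12_1 p (by omega) (by omega)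
  exact chkFix_spec chkR12_2 p (by omega) (by omega)

theorem hfixw_12 (p : ℕ) : wapp px (base.getD 12 []) p = R12 p := by
  show wapp px [0, 6, 0, 6] p = _
  simp only [wapp_cons, wapp_nil, px_c0, px_c1, px_c2, px_c3, px_c4, px_c5, px_c6]
  rfl

theorem hfixk_13 : ∀ p < N, R13 p = p := by
  intro p hp
  have hp' : p < 187425 := hp
  by_cases g0 : p < 41666
  · exact chkFix_spec chkR13_0 p (by omega) (by omega)
  by_cases g1 : p < 83332
  · exact chkFix_spec chkR13_1 p (by omega) (by omega)
  by_cases g2 : p < 124998
  · exact chkFix_spec chkR13_2 p (by omega) (by omega)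
  by_cases g3 : p < 166664
  · exact chkFix_spec chkR13_3 p (by omega) (by omega)
  exact chkFix_spec chkR13_4 p (by omega) (by omega)

theorem hfixw_13 (p : ℕ) : wapp px (base.getD 13 []) p = R13 p := by
  show wapp px [1, 2, 1, 2, 1, 2] p = _
  simp only [wapp_cons, wapp_nil, px_c0, px_c1, px_c2, px_c3, px_c4, px_c5, px_c6]
  rfl

theorem hfixk_14 : ∀ p < N, R14 p = p := by
  intro p hp
  have hp' : p < 187425 := hp
  by_cases g0 : p < 31358
  · exact chkFix_spec chkR14_0 p (by omega) (by omega)
  by_cases g1 : p < 93858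
  · exact chkFix_spec chkR14_1 p (by omega) (by omega)
  by_cases g2 : p < 156358
  · exact chkFix_spec chkR14_2 p (by omega) (by omega)
  exact chkFix_spec chkR14_3 p (by omega) (by omega)

theorem hfixw_14 (p : ℕ) : wapp px (base.getD 14 []) p = R14 p := by
  show wapp px [1, 3, 1, 3] p = _
  simp only [wapp_cons, wapp_nil, px_c0, px_c1, px_c2, px_c3, px_c4, px_c5, px_c6]
  rfl

theorem hfixk_15 : ∀ p < N, R15 p = p := by
  intro p hp
  have hp' : p < 187425 := hp
  by_cases g0 : p < 31433
  · exact chkFix_spec chkR15_0 p (by omega) (by omega)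
  by_cases g1 : p < 93933
  · exact chkFix_spec chkR15_1 p (by omega) (by omega)
  by_cases g2 : p < 156433
  · exact chkFix_spec chkR15_2 p (by omega) (by omega)
  exact chkFix_spec chkR15_3 p (by omega) (by omega)

theorem hfixw_15 (p : ℕ) : wapp px (base.getD 15 []) p = R15 p := by
  show wapp px [1, 4, 1, 4] p = _
  simp only [wapp_cons, wapp_nil, px_c0, px_c1, px_c2, px_c3, px_c4, px_c5, px_c6]
  rfl

theorem hfixk_16 : ∀ p < N, R16 p = p := by
  intro p hp
  have hp' : p < 187425 := hp
  by_cases g0 : p < 31508
  · exact chkFix_spec chkR16_0 p (by omega) (by omega)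
  by_cases g1 : p < 94008
  · exact chkFix_spec chkR16_1 p (by omega) (by omega)
  by_cases g2 : p < 156508
  · exact chkFix_spec chkR16_2 p (by omega) (by omega)
  exact chkFix_spec chkR16_3 p (by omega) (by omega)

theorem hfixw_16 (p : ℕ) : wapp px (base.getD 16 []) p = R16 p := by
  show wapp px [1, 5, 1, 5] p = _
  simp only [wapp_cons, wapp_nil, px_c0, px_c1, px_c2, px_c3, px_c4, px_c5, px_c6]
  rfl

theorem hfixk_17 : ∀ p < N, R17 p = p := by
  intro p hp
  have hp' : p < 187425 := hp
  by_cases g0 : p < 31583
  · exact chkFix_spec chkR17_0 p (by omega) (by omega)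
  by_cases g1 : p < 94083
  · exact chkFix_spec chkR17_1 p (by omega) (by omega)
  by_cases g2 : p < 156583
  · exact chkFix_spec chkR17_2 p (by omega) (by omega)
  exact chkFix_spec chkR17_3 p (by omega) (by omega)

theorem hfixw_17 (p : ℕ) : wapp px (base.getD 17 []) p = R17 p := by
  show wapp px [1, 6, 1, 6] p = _
  simp only [wapp_cons, wapp_nil, px_c0, px_c1, px_c2, px_c3, px_c4, px_c5, px_c6]
  rfl

theorem hfixk_18 : ∀ p < N, R18 p = p := by
  intro p hp
  have hp' : p < 187425 := hp
  by_cases g0 : p < 6435
  · exact chkFix_spec chkR18_0 p (by omega) (by omega)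
  by_cases g1 : p < 31435
  · exact chkFix_spec chkR18_1 p (by omega) (by omega)
  by_cases g2 : p < 56435
  · exact chkFix_spec chkR18_2 p (by omega) (by omega)
  by_cases g3 : p < 81435
  · exact chkFix_spec chkR18_3 p (by omega) (by omega)
  by_cases g4 : p < 106435
  · exact chkFix_spec chkR18_4 p (by omega) (by omega)
  by_cases g5 : p < 131435
  · exact chkFix_spec chkR18_5 p (by omega) (by omega)
  by_cases g6 : p < 156435
  · exact chkFix_spec chkR18_6 p (by omega) (by omega)
  by_cases g7 : p < 181435
  · exact chkFix_spec chkR18_7 p (by omega) (by omega)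
  exact chkFix_spec chkR18_8 p (by omega) (by omega)

theorem hQU_18 : ∀ p < N, Q18 p = U18 p := by
  intro p hp
  have hp' : p < 187425 := hp
  by_cases g0 : p < 42210
  · exact chkEqF_spec chkQ18_0 p (by omega) (by omega)
  by_cases g1 : p < 125543
  · exact chkEqF_spec chkQ18_1 p (by omega) (by omega)
  exact chkEqF_spec chkQ18_2 p (by omega) (by omega)

theorem hUw_18 (p : ℕ) : wapp px [2, 3] p = U18 p := by
  simp only [wapp_cons, wapp_nil, px_c0, px_c1, px_c2, px_c3, px_c4, px_c5, px_c6]
  rfl

theorem hfixw_18 (p : ℕ) (hp : p < N) : wapp px (base.getD 18 []) p = R18 p := by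
  have e : base.getD 18 [] = (List.replicate 10 [2, 3]).flatten := by decide +kernel
  rw [e, wapp_pow hP (by decide) (fun q hq => (hQU_18 q hq).trans (hUw_18 q).symm) 10 p hp]
  unfold R18
  simp only [Function.iterate_succ_apply, Function.iterate_zero_apply]

theorem hfixk_19 : ∀ p < N, R19 p = p := by
  intro p hp
  have hp' : p < 187425 := hp
  by_cases g0 : p < 47525
  · exact chkFix_spec chkR19_0 p (by omega) (by omega)
  by_cases g1 : p < 110025
  · exact chkFix_spec chkR19_1 p (by omega) (by omega)
  by_cases g2 : p < 172525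
  · exact chkFix_spec chkR19_2 p (by omega) (by omega)
  exact chkFix_spec chkR19_3 p (by omega) (by omega)

theorem hfixw_19 (p : ℕ) : wapp px (base.getD 19 []) p = R19 p := by
  show wapp px [2, 4, 2, 4] p = _
  simp only [wapp_cons, wapp_nil, px_c0, px_c1, px_c2, px_c3, px_c4, px_c5, px_c6]
  rfl

theorem hfixk_20 : ∀ p < N, R20 p = p := by
  intro p hp
  have hp' : p < 187425 := hp
  by_cases g0 : p < 47600
  · exact chkFix_spec chkR20_0 p (by omega) (by omega)
  by_cases g1 : p < 110100
  · exact chkFix_spec chkR20_1 p (by omega) (by omega)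
  by_cases g2 : p < 172600
  · exact chkFix_spec chkR20_2 p (by omega) (by omega)
  exact chkFix_spec chkR20_3 p (by omega) (by omega)

theorem hfixw_20 (p : ℕ) : wapp px (base.getD 20 []) p = R20 p := by
  show wapp px [2, 5, 2, 5] p = _
  simp only [wapp_cons, wapp_nil, px_c0, px_c1, px_c2, px_c3, px_c4, px_c5, px_c6]
  rfl

theorem hfixk_21 : ∀ p < N, R21 p = p := by
  intro p hp
  have hp' : p < 187425 := hp
  by_cases g0 : p < 47675
  · exact chkFix_spec chkR21_0 p (by omega) (by omega)
  by_cases g1 : p < 110175
  · exact chkFix_spec chkR21_1 p (by omega) (by omega)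
  by_cases g2 : p < 172675
  · exact chkFix_spec chkR21_2 p (by omega) (by omega)
  exact chkFix_spec chkR21_3 p (by omega) (by omega)

theorem hfixw_21 (p : ℕ) : wapp px (base.getD 21 []) p = R21 p := by
  show wapp px [2, 6, 2, 6] p = _
  simp only [wapp_cons, wapp_nil, px_c0, px_c1, px_c2, px_c3, px_c4, px_c5, px_c6]
  rfl

theorem hfixk_22 : ∀ p < N, R22 p = p := by
  intro p hp
  have hp' : p < 187425 := hp
  by_cases g0 : p < 31833
  · exact chkFix_spec chkR22_0 p (by omega) (by omega)
  by_cases g1 : p < 73499
  · exact chkFix_spec chkR22_1 p (by omega) (by omega)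
  by_cases g2 : p < 115165
  · exact chkFix_spec chkR22_2 p (by omega) (by omega)
  by_cases g3 : p < 156831
  · exact chkFix_spec chkR22_3 p (by omega) (by omega)
  exact chkFix_spec chkR22_4 p (by omega) (by omega)

theorem hfixw_22 (p : ℕ) : wapp px (base.getD 22 []) p = R22 p := by
  show wapp px [3, 4, 3, 4, 3, 4] p = _
  simp only [wapp_cons, wapp_nil, px_c0, px_c1, px_c2, px_c3, px_c4, px_c5, px_c6]
  rfl

theorem hfixk_23 : ∀ p < N, R23 p = p := by
  intro p hp
  have hp' : p < 187425 := hp
  by_cases g0 : p < 11072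
  · exact chkFix_spec chkR23_0 p (by omega) (by omega)
  by_cases g1 : p < 52738
  · exact chkFix_spec chkR23_1 p (by omega) (by omega)
  by_cases g2 : p < 94404
  · exact chkFix_spec chkR23_2 p (by omega) (by omega)
  by_cases g3 : p < 136070
  · exact chkFix_spec chkR23_3 p (by omega) (by omega)
  by_cases g4 : p < 177736
  · exact chkFix_spec chkR23_4 p (by omega) (by omega)
  exact chkFix_spec chkR23_5 p (by omega) (by omega)

theorem hfixw_23 (p : ℕ) : wapp px (base.getD 23 []) p = R23 p := by
  show wapp px [3, 5, 3, 5, 3, 5] p = _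
  simp only [wapp_cons, wapp_nil, px_c0, px_c1, px_c2, px_c3, px_c4, px_c5, px_c6]
  rfl

theorem hfixk_24 : ∀ p < N, R24 p = p := by
  intro p hp
  have hp' : p < 187425 := hp
  by_cases g0 : p < 31977
  · exact chkFix_spec chkR24_0 p (by omega) (by omega)
  by_cases g1 : p < 73643
  · exact chkFix_spec chkR24_1 p (by omega) (by omega)
  by_cases g2 : p < 115309
  · exact chkFix_spec chkR24_2 p (by omega) (by omega)
  by_cases g3 : p < 156975
  · exact chkFix_spec chkR24_3 p (by omega) (by omega)
  exact chkFix_spec chkR24_4 p (by omega) (by omega)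

theorem hfixw_24 (p : ℕ) : wapp px (base.getD 24 []) p = R24 p := by
  show wapp px [3, 6, 3, 6, 3, 6] p = _
  simp only [wapp_cons, wapp_nil, px_c0, px_c1, px_c2, px_c3, px_c4, px_c5, px_c6]
  rfl

theorem hfixk_25 : ∀ p < N, R25 p = p := by
  intro p hp
  have hp' : p < 187425 := hp
  by_cases g0 : p < 16825
  · exact chkFix_spec chkR25_0 p (by omega) (by omega)
  by_cases g1 : p < 79325
  · exact chkFix_spec chkR25_1 p (by omega) (by omega)
  by_cases g2 : p < 141825
  · exact chkFix_spec chkR25_2 p (by omega) (by omega)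
  exact chkFix_spec chkR25_3 p (by omega) (by omega)

theorem hfixw_25 (p : ℕ) : wapp px (base.getD 25 []) p = R25 p := by
  show wapp px [4, 5, 4, 5] p = _
  simp only [wapp_cons, wapp_nil, px_c0, px_c1, px_c2, px_c3, px_c4, px_c5, px_c6]
  rfl

theorem hfixk_26 : ∀ p < N, R26 p = p := by
  intro p hp
  have hp' : p < 187425 := hp
  by_cases g0 : p < 16900
  · exact chkFix_spec chkR26_0 p (by omega) (by omega)
  by_cases g1 : p < 79400
  · exact chkFix_spec chkR26_1 p (by omega) (by omega)
  by_cases g2 : p < 141900
  · exact chkFix_spec chkR26_2 p (by omega) (by omega)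
  exact chkFix_spec chkR26_3 p (by omega) (by omega)

theorem hfixw_26 (p : ℕ) : wapp px (base.getD 26 []) p = R26 p := by
  show wapp px [4, 6, 4, 6] p = _
  simp only [wapp_cons, wapp_nil, px_c0, px_c1, px_c2, px_c3, px_c4, px_c5, px_c6]
  rfl

theorem hfixk_27 : ∀ p < N, R27 p = p := by
  intro p hp
  have hp' : p < 187425 := hp
  by_cases g0 : p < 8487
  · exact chkFix_spec chkR27_0 p (by omega) (by omega)
  by_cases g1 : p < 39737
  · exact chkFix_spec chkR27_1 p (by omega) (by omega)
  by_cases g2 : p < 70987
  · exact chkFix_spec chkR27_2 p (by omega) (by omega)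
  by_cases g3 : p < 102237
  · exact chkFix_spec chkR27_3 p (by omega) (by omega)
  by_cases g4 : p < 133487
  · exact chkFix_spec chkR27_4 p (by omega) (by omega)
  by_cases g5 : p < 164737
  · exact chkFix_spec chkR27_5 p (by omega) (by omega)
  exact chkFix_spec chkR27_6 p (by omega) (by omega)

theorem hfixw_27 (p : ℕ) : wapp px (base.getD 27 []) p = R27 p := by
  show wapp px [5, 6, 5, 6, 5, 6, 5, 6] p = _
  simp only [wapp_cons, wapp_nil, px_c0, px_c1, px_c2, px_c3, px_c4, px_c5, px_c6]
  rfl

theorem hfixk_28 : ∀ p < N, R28 p = p := by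
  intro p hp
  have hp' : p < 187425 := hp
  by_cases g0 : p < 13699
  · exact chkFix_spec chkR28_0 p (by omega) (by omega)
  by_cases g1 : p < 63699
  · exact chkFix_spec chkR28_1 p (by omega) (by omega)
  by_cases g2 : p < 113699
  · exact chkFix_spec chkR28_2 p (by omega) (by omega)
  by_cases g3 : p < 163699
  · exact chkFix_spec chkR28_3 p (by omega) (by omega)
  exact chkFix_spec chkR28_4 p (by omega) (by omega)

theorem hfixw_28 (p : ℕ) : wapp px (base.getD 28 []) p = R28 p := by
  show wapp px [4, 6, 5, 6, 5] p = _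
  simp only [wapp_cons, wapp_nil, px_c0, px_c1, px_c2, px_c3, px_c4, px_c5, px_c6]
  rfl

theorem hfixk_29 : ∀ p < N, R29 p = p := by
  intro p hp
  have hp' : p < 187425 := hp
  by_cases g0 : p < 13137
  · exact chkFix_spec chkR29_0 p (by omega) (by omega)
  by_cases g1 : p < 38137
  · exact chkFix_spec chkR29_1 p (by omega) (by omega)
  by_cases g2 : p < 63137
  · exact chkFix_spec chkR29_2 p (by omega) (by omega)
  by_cases g3 : p < 88137
  · exact chkFix_spec chkR29_3 p (by omega) (by omega)
  by_cases g4 : p < 113137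
  · exact chkFix_spec chkR29_4 p (by omega) (by omega)
  by_cases g5 : p < 138137
  · exact chkFix_spec chkR29_5 p (by omega) (by omega)
  by_cases g6 : p < 163137
  · exact chkFix_spec chkR29_6 p (by omega) (by omega)
  exact chkFix_spec chkR29_7 p (by omega) (by omega)

theorem hfixw_29 (p : ℕ) : wapp px (base.getD 29 []) p = R29 p := by
  show wapp px [4, 2, 1, 0, 2, 1, 0, 2, 1, 0] p = _
  simp only [wapp_cons, wapp_nil, px_c0, px_c1, px_c2, px_c3, px_c4, px_c5, px_c6]
  rfl

theorem hfixk_30 : ∀ p < N, R30 p = p := by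
  intro p hp
  have hp' : p < 187425 := hp
  by_cases g0 : p < 22727
  · exact chkFix_spec chkR30_0 p (by omega) (by omega)
  by_cases g1 : p < 45454
  · exact chkFix_spec chkR30_1 p (by omega) (by omega)
  by_cases g2 : p < 68181
  · exact chkFix_spec chkR30_2 p (by omega) (by omega)
  by_cases g3 : p < 90908
  · exact chkFix_spec chkR30_3 p (by omega) (by omega)
  by_cases g4 : p < 113635
  · exact chkFix_spec chkR30_4 p (by omega) (by omega)
  by_cases g5 : p < 136362
  · exact chkFix_spec chkR30_5 p (by omega) (by omega)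
  by_cases g6 : p < 159089
  · exact chkFix_spec chkR30_6 p (by omega) (by omega)
  by_cases g7 : p < 181816
  · exact chkFix_spec chkR30_7 p (by omega) (by omega)
  exact chkFix_spec chkR30_8 p (by omega) (by omega)

theorem hfixw_30 (p : ℕ) : wapp px (base.getD 30 []) p = R30 p := by
  show wapp px [0, 3, 2, 3, 2, 3, 2, 3, 2, 3, 2] p = _
  simp only [wapp_cons, wapp_nil, px_c0, px_c1, px_c2, px_c3, px_c4, px_c5, px_c6]
  rfl

theorem hfixk_31 : ∀ p < N, R31 p = p := by
  intro p hp
  have hp' : p < 187425 := hp
  by_cases g0 : p < 62500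
  · exact chkFix_spec chkR31_0 p (by omega) (by omega)
  by_cases g1 : p < 125000
  · exact chkFix_spec chkR31_1 p (by omega) (by omega)
  exact chkFix_spec chkR31_2 p (by omega) (by omega)

theorem hQU_31 : ∀ p < N, Q31 p = U31 p := by
  intro p hp
  have hp' : p < 187425 := hp
  by_cases g0 : p < 37660
  · exact chkEqF_spec chkQ31_0 p (by omega) (by omega)
  by_cases g1 : p < 87660
  · exact chkEqF_spec chkQ31_1 p (by omega) (by omega)
  by_cases g2 : p < 137660
  · exact chkEqF_spec chkQ31_2 p (by omega) (by omega)
  exact chkEqF_spec chkQ31_3 p (by omega) (by omega)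

theorem hUw_31 (p : ℕ) : wapp px [2, 3, 5, 6] p = U31 p := by
  simp only [wapp_cons, wapp_nil, px_c0, px_c1, px_c2, px_c3, px_c4, px_c5, px_c6]
  rfl

theorem hfixw_31 (p : ℕ) (hp : p < N) : wapp px (base.getD 31 []) p = R31 p := by
  have e : base.getD 31 [] = (List.replicate 4 [2, 3, 5, 6]).flatten := by decide +kernel
  rw [e, wapp_pow hP (by decide) (fun q hq => (hQU_31 q hq).trans (hUw_31 q).symm) 4 p hp]
  unfold R31
  simp only [Function.iterate_succ_apply, Function.iterate_zero_apply]

theorem hfix_k : ∀ k < 32, ∀ p < N, wapp px (base.getD k []) p = p := by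
  intro k hk
  interval_cases k
  · intro p hp
    rw [hfixw_0]
    exact hfixk_0 p hp
  · intro p hp
    rw [hfixw_1]
    exact hfixk_1 p hp
  · intro p hp
    rw [hfixw_2]
    exact hfixk_2 p hp
  · intro p hp
    rw [hfixw_3]
    exact hfixk_3 p hp
  · intro p hp
    rw [hfixw_4]
    exact hfixk_4 p hp
  · intro p hp
    rw [hfixw_5]
    exact hfixk_5 p hp
  · intro p hp
    rw [hfixw_6]
    exact hfixk_6 p hp
  · intro p hp
    rw [hfixw_7]
    exact hfixk_7 p hp
  · intro p hp
    rw [hfixw_8]
    exact hfixk_8 p hp
  · intro p hp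
    rw [hfixw_9]
    exact hfixk_9 p hp
  · intro p hp
    rw [hfixw_10]
    exact hfixk_10 p hp
  · intro p hp
    rw [hfixw_11]
    exact hfixk_11 p hp
  · intro p hp
    rw [hfixw_12]
    exact hfixk_12 p hp
  · intro p hp
    rw [hfixw_13]
    exact hfixk_13 p hp
  · intro p hp
    rw [hfixw_14]
    exact hfixk_14 p hp
  · intro p hp
    rw [hfixw_15]
    exact hfixk_15 p hp
  · intro p hp
    rw [hfixw_16]
    exact hfixk_16 p hp
  · intro p hp
    rw [hfixw_17]
    exact hfixk_17 p hp
  · intro p hp
    rw [hfixw_18 p hp]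
    exact hfixk_18 p hp
  · intro p hp
    rw [hfixw_19]
    exact hfixk_19 p hp
  · intro p hp
    rw [hfixw_20]
    exact hfixk_20 p hp
  · intro p hp
    rw [hfixw_21]
    exact hfixk_21 p hp
  · intro p hp
    rw [hfixw_22]
    exact hfixk_22 p hp
  · intro p hp
    rw [hfixw_23]
    exact hfixk_23 p hp
  · intro p hp
    rw [hfixw_24]
    exact hfixk_24 p hp
  · intro p hp
    rw [hfixw_25]
    exact hfixk_25 p hp
  · intro p hp
    rw [hfixw_26]
    exact hfixk_26 p hp
  · intro p hp
    rw [hfixw_27]
    exact hfixk_27 p hp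
  · intro p hp
    rw [hfixw_28]
    exact hfixk_28 p hp
  · intro p hp
    rw [hfixw_29]
    exact hfixk_29 p hp
  · intro p hp
    rw [hfixw_30]
    exact hfixk_30 p hp
  · intro p hp
    rw [hfixw_31 p hp]
    exact hfixk_31 p hp


theorem hfix : ∀ b ∈ base, ∀ p < N, wapp px b p = p := by
  intro b hb
  obtain ⟨k, hk, rfl⟩ := List.mem_iff_getElem.mp hb
  have hk' : k < 32 := hk
  have := hfix_k k hk'
  rw [List.getD_eq_getElem _ _ hk] at this
  exact this

theorem htree : ∀ p, 0 < p → p < N → ∃ c < 7, ∃ q < p, px c q = p := chkTree_spec chkT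

theorem hsubP : ∀ s ∈ S, ∃ w, (∀ c ∈ w, c < 7) ∧ s = wordElt gc w ∧ wapp px w 0 = 0 := by
  intro s hs
  obtain ⟨w, hw, rfl⟩ := hsw s hs
  refine ⟨w, (hsw' w hw).1, rfl, ?_⟩
  simp only [subw, List.mem_cons, List.mem_nil_iff, or_false] at hw
  rcases hw with rfl | rfl | rfl | rfl | rfl | rfl | rfl | rfl
  · exact Nat.eq_of_beq_eq_true chkH0
  · exact Nat.eq_of_beq_eq_true chkH1
  · exact Nat.eq_of_beq_eq_true chkH2
  · exact Nat.eq_of_beq_eq_true chkH3
  · exact Nat.eq_of_beq_eq_true chkH4
  · exact Nat.eq_of_beq_eq_true chkH5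
  · exact Nat.eq_of_beq_eq_true chkH6
  · exact Nat.eq_of_beq_eq_true chkH7

end helpers

end Cfsg.Agent.Lib.Helper6.HeZIdx
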