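import Mathlib
import Cfsg.Agent.Lib.Helper6.TCP.J1
import Cfsg.Agent.Lib.Helper6.TC14
import Cfsg.Agent.Lib.Helper6.TCD.J1a.All

set_option autoImplicit false

namespace Cfsg.Agent.Lib.Helper6.J1Idx
open Cfsg.Agent.Lib.Helper6.TC Cfsg.Agent.Lib.Helper6.TCP.J1 Cfsg.Agent.Lib.Helper6.TCD.J1a

/-! # The index and the suborbits of a subgroup of the group `J1` presented by words -/

section helpers
set_option maxRecDepth 100000
set_option linter.unusedSimpArgs false

/-- the words of the generators of the subgroup -/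
def subw : List (List ℕ) := [[3], [5]]

/-- the generating set of the subgroup -/
abbrev S : Set (FreeGroup (Fin 6)) := wset 6 subw

theorem hsw : ∀ s ∈ S, ∃ w ∈ subw, s = wordElt gc w := wp_hsw subw

theorem hsw' : ∀ w ∈ subw, (∀ c ∈ w, c < 6) ∧ wordElt gc w ∈ S := wp_hsw' (by decide)

theorem chkW : allB (chkWord WD WI base subw Cfsg.Agent.Lib.Helper6.TCD.J1a.INV ncol nrw) nw = true := by
  decide +kernel

theorem hS : ∀ s < n * ncol, chkSlot SH SC NH NC WD n ncol nrw nw tmax Cfsg.Agent.Lib.Helper6.TCD.J1a.INV s = true := by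
  intro s hs
  have hs' : s < 6504 := hs
  by_cases h0 : s < 6504
  · exact allR_spec chkS0 s (by omega) (by omega)
  omega

theorem hN : ∀ ν < n, chkName SH NH NC WD n ncol nrw nw tmax ν = true := by
  intro ν hν
  have hν' : ν < 1084 := hν
  by_cases h0 : ν < 1084
  · exact allR_spec chkN0 ν (by omega) (by omega)
  omega

theorem hL : ∀ ν < n, chkLive SH NH n ncol tmax ν = true := by
  intro ν hν
  have hν' : ν < 1084 := hν
  by_cases h0 : ν < 1084
  · exact allR_spec chkL0 ν (by omega) (by omega)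
  omega

theorem hwords :
    (∀ j < nrw, j < nw → PresentedGroup.mk Rels (wordElt gc (wordL WD j)) = 1) ∧
    (∀ j, nrw ≤ j → j < nw → wordElt gc (wordL WD j) ∈ Subgroup.closure S) ∧
    (∀ j < nw, ∀ c ∈ wordL WD j, c < ncol) :=
  words_ok (S := S) (nw := nw) hinvG hbl hbase
    (fun w hw => Subgroup.subset_closure (hsw' w hw).2) (fun j hj => allB_spec chkW j hj)

theorem idx_le : (subH Rels S).index ≤ N ∧ (subH Rels S).index ≠ 0 := by
  have h := index_le (rels := Rels) (S := S) (gc := gc) (n := n) (ncol := ncol) (nrw := nrw) (nw := nw)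
    (tmax := tmax) (INV := Cfsg.Agent.Lib.Helper6.TCD.J1a.INV) (SH := SH) (SC := SC) (NH := NH) (NC := NC) (WD := WD)
    (by decide) hgen hinv1 hinvG (fun j hj => hwords.1 j hj (by unfold nrw nw at *; omega)) hwords.2.1 hwords.2.2 hS hN hL
  have e : cntLive NH n tmax n = N := chkC
  rw [e] at h
  exact h

theorem hP : PHyp px N 6 Cfsg.Agent.Lib.Helper6.TCP.J1.INV where
  Npos := by decide
  hinv1 := hinv1
  hinvinv := hinvinv
  hlt := by
    intro c hc p hp
    interval_cases c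
    · exact (chkCol_spec chkP0 p hp).1
    · exact (chkCol_spec chkP1 p hp).1
    · exact (chkCol_spec chkP2 p hp).1
    · exact (chkCol_spec chkP3 p hp).1
    · exact (chkCol_spec chkP4 p hp).1
    · exact (chkCol_spec chkP5 p hp).1
  hpx := by
    intro c hc p hp
    interval_cases c
    · exact (chkCol_spec chkP0 p hp).2
    · exact (chkCol_spec chkP1 p hp).2
    · exact (chkCol_spec chkP2 p hp).2
    · exact (chkCol_spec chkP3 p hp).2
    · exact (chkCol_spec chkP4 p hp).2
    · exact (chkCol_spec chkP5 p hp).2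

theorem px_c0 (p : ℕ) : px 0 p = P0 p := rfl
theorem px_c1 (p : ℕ) : px 1 p = P1 p := rfl
theorem px_c2 (p : ℕ) : px 2 p = P2 p := rfl
theorem px_c3 (p : ℕ) : px 3 p = P3 p := rfl
theorem px_c4 (p : ℕ) : px 4 p = P4 p := rfl
theorem px_c5 (p : ℕ) : px 5 p = P5 p := rfl

theorem hfixk_0 : ∀ p < N, P0 (P0 p) = p := fun p hp => (chkCol_spec chkP0 p hp).2

theorem hfixw_0 (p : ℕ) : wapp px (base.getD 0 []) p = P0 (P0 p) := by
  show wapp px [0, 0] p = _
  simp only [wapp_cons, wapp_nil, px_c0]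

theorem hfixk_1 : ∀ p < N, R1 p = p := by
  intro p hp
  have hp' : p < 266 := hp
  exact chkFix_spec chkR1_0 p (by omega) (by omega)

theorem hfixw_1 (p : ℕ) : wapp px (base.getD 1 []) p = R1 p := by
  show wapp px [1, 1, 1] p = _
  simp only [wapp_cons, wapp_nil, px_c0, px_c1, px_c2, px_c3, px_c4, px_c5]
  rfl

theorem hfixk_2 : ∀ p < N, R2 p = p := by
  intro p hp
  have hp' : p < 266 := hp
  exact chkFix_spec chkR2_0 p (by omega) (by omega)

theorem hQU_2 : ∀ p < N, Q2 p = U2 p := by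
  intro p hp
  have hp' : p < 266 := hp
  exact chkEqF_spec chkQ2_0 p (by omega) (by omega)

theorem hUw_2 (p : ℕ) : wapp px [0, 1] p = U2 p := by
  simp only [wapp_cons, wapp_nil, px_c0, px_c1, px_c2, px_c3, px_c4, px_c5]
  rfl

theorem hfixw_2 (p : ℕ) (hp : p < N) : wapp px (base.getD 2 []) p = R2 p := by
  have e : base.getD 2 [] = (List.replicate 7 [0, 1]).flatten := by decide +kernel
  rw [e, wapp_pow hP (by decide) (fun q hq => (hQU_2 q hq).trans (hUw_2 q).symm) 7 p hp]
  unfold R2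
  simp only [Function.iterate_succ_apply, Function.iterate_zero_apply]

theorem hfixk_3 : ∀ p < N, R3 p = p := by
  intro p hp
  have hp' : p < 266 := hp
  exact chkFix_spec chkR3_0 p (by omega) (by omega)

theorem hQU_3 : ∀ p < N, Q3 p = U3 p := by
  intro p hp
  have hp' : p < 266 := hp
  exact chkEqF_spec chkQ3_0 p (by omega) (by omega)

theorem hUw_3 (p : ℕ) : wapp px [0, 1, 0, 1, 0, 2, 0, 1, 0, 2, 0, 1, 0, 2] p = U3 p := by
  simp only [wapp_cons, wapp_nil, px_c0, px_c1, px_c2, px_c3, px_c4, px_c5]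
  rfl

theorem hfixw_3 (p : ℕ) (hp : p < N) : wapp px (base.getD 3 []) p = R3 p := by
  have e : base.getD 3 [] = (List.replicate 5 [0, 1, 0, 1, 0, 2, 0, 1, 0, 2, 0, 1, 0, 2]).flatten := by decide +kernel
  rw [e, wapp_pow hP (by decide) (fun q hq => (hQU_3 q hq).trans (hUw_3 q).symm) 5 p hp]
  unfold R3
  simp only [Function.iterate_succ_apply, Function.iterate_zero_apply]

theorem hfixk_4 : ∀ p < N, R4 p = p := by
  intro p hp
  have hp' : p < 266 := hp
  exact chkFix_spec chkR4_0 p (by omega) (by omega)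

theorem hQU_4 : ∀ p < N, Q4 p = U4 p := by
  intro p hp
  have hp' : p < 266 := hp
  exact chkEqF_spec chkQ4_0 p (by omega) (by omega)

theorem hUw_4 (p : ℕ) : wapp px [0, 1, 0, 1, 0, 2, 0, 1, 0, 2, 0, 1, 0, 2, 0, 1, 0, 2, 0, 1, 0, 2, 0, 1, 0, 2, 0, 1, 0, 1, 0, 2, 0, 2] p = U4 p := by
  simp only [wapp_cons, wapp_nil, px_c0, px_c1, px_c2, px_c3, px_c4, px_c5]
  rfl

theorem hfixw_4 (p : ℕ) (hp : p < N) : wapp px (base.getD 4 []) p = R4 p := by
  have e : base.getD 4 [] = (List.replicate 2 [0, 1, 0, 1, 0, 2, 0, 1, 0, 2, 0, 1, 0, 2, 0, 1, 0, 2, 0, 1, 0, 2, 0, 1, 0, 2, 0, 1, 0, 1, 0, 2, 0, 2]).flatten := by decide +kernel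
  rw [e, wapp_pow hP (by decide) (fun q hq => (hQU_4 q hq).trans (hUw_4 q).symm) 2 p hp]
  unfold R4
  simp only [Function.iterate_succ_apply, Function.iterate_zero_apply]

theorem hfixk_5 : ∀ p < N, R5 p = p := by
  intro p hp
  have hp' : p < 266 := hp
  exact chkFix_spec chkR5_0 p (by omega) (by omega)

theorem hfixw_5 (p : ℕ) : wapp px (base.getD 5 []) p = R5 p := by
  show wapp px [4, 0, 2, 0, 1, 0, 2, 0, 1, 0, 2, 0, 1, 0, 2, 0, 1, 0, 2] p = _
  simp only [wapp_cons, wapp_nil, px_c0, px_c1, px_c2, px_c3, px_c4, px_c5]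
  rfl

theorem hfixk_6 : ∀ p < N, R6 p = p := by
  intro p hp
  have hp' : p < 266 := hp
  exact chkFix_spec chkR6_0 p (by omega) (by omega)

theorem hfixw_6 (p : ℕ) : wapp px (base.getD 6 []) p = R6 p := by
  show wapp px [5, 2, 0, 1] p = _
  simp only [wapp_cons, wapp_nil, px_c0, px_c1, px_c2, px_c3, px_c4, px_c5]
  rfl

theorem hfixk_7 : ∀ p < N, P5 (P5 p) = p := fun p hp => (chkCol_spec chkP5 p hp).2

theorem hfixw_7 (p : ℕ) : wapp px (base.getD 7 []) p = P5 (P5 p) := by
  show wapp px [5, 5] p = _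
  simp only [wapp_cons, wapp_nil, px_c5]

theorem hfixk_8 : ∀ p < N, R8 p = p := by
  intro p hp
  have hp' : p < 266 := hp
  exact chkFix_spec chkR8_0 p (by omega) (by omega)

theorem hfixw_8 (p : ℕ) : wapp px (base.getD 8 []) p = R8 p := by
  show wapp px [4, 5, 3, 5, 4, 5, 3, 5] p = _
  simp only [wapp_cons, wapp_nil, px_c0, px_c1, px_c2, px_c3, px_c4, px_c5]
  rfl

theorem hfixk_9 : ∀ p < N, R9 p = p := by
  intro p hp
  have hp' : p < 266 := hp
  exact chkFix_spec chkR9_0 p (by omega) (by omega)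

theorem hfixw_9 (p : ℕ) : wapp px (base.getD 9 []) p = R9 p := by
  show wapp px [4, 5, 4, 5, 4, 5, 4, 5, 4, 5] p = _
  simp only [wapp_cons, wapp_nil, px_c0, px_c1, px_c2, px_c3, px_c4, px_c5]
  rfl

theorem hfixk_10 : ∀ p < N, R10 p = p := by
  intro p hp
  have hp' : p < 266 := hp
  exact chkFix_spec chkR10_0 p (by omega) (by omega)

theorem hfixw_10 (p : ℕ) : wapp px (base.getD 10 []) p = R10 p := by
  show wapp px [4, 4, 4, 4, 4, 4, 4, 4, 4, 4, 4] p = _
  simp only [wapp_cons, wapp_nil, px_c0, px_c1, px_c2, px_c3, px_c4, px_c5]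
  rfl

theorem hfixk_11 : ∀ p < N, R11 p = p := by
  intro p hp
  have hp' : p < 266 := hp
  exact chkFix_spec chkR11_0 p (by omega) (by omega)

theorem hQU_11 : ∀ p < N, Q11 p = U11 p := by
  intro p hp
  have hp' : p < 266 := hp
  exact chkEqF_spec chkQ11_0 p (by omega) (by omega)

theorem hUw_11 (p : ℕ) : wapp px [4, 4, 4, 4, 5] p = U11 p := by
  simp only [wapp_cons, wapp_nil, px_c0, px_c1, px_c2, px_c3, px_c4, px_c5]
  rfl

theorem hfixw_11 (p : ℕ) (hp : p < N) : wapp px (base.getD 11 []) p = R11 p := by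
  have e : base.getD 11 [] = (List.replicate 3 [4, 4, 4, 4, 5]).flatten := by decide +kernel
  rw [e, wapp_pow hP (by decide) (fun q hq => (hQU_11 q hq).trans (hUw_11 q).symm) 3 p hp]
  unfold R11
  simp only [Function.iterate_succ_apply, Function.iterate_zero_apply]

theorem hfixk_12 : ∀ p < N, R12 p = p := by
  intro p hp
  have hp' : p < 266 := hp
  exact chkFix_spec chkR12_0 p (by omega) (by omega)

theorem hfixw_12 (p : ℕ) : wapp px (base.getD 12 []) p = R12 p := by
  show wapp px [1, 2] p = _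
  simp only [wapp_cons, wapp_nil, px_c0, px_c1, px_c2, px_c3, px_c4, px_c5]
  rfl

theorem hfixk_13 : ∀ p < N, R13 p = p := by
  intro p hp
  have hp' : p < 266 := hp
  exact chkFix_spec chkR13_0 p (by omega) (by omega)

theorem hfixw_13 (p : ℕ) : wapp px (base.getD 13 []) p = R13 p := by
  show wapp px [3, 4] p = _
  simp only [wapp_cons, wapp_nil, px_c0, px_c1, px_c2, px_c3, px_c4, px_c5]
  rfl

theorem hfix_k : ∀ k < 14, ∀ p < N, wapp px (base.getD k []) p = p := by
  intro k hk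
  interval_cases k
  · intro p hp
    rw [hfixw_0]
    exact hfixk_0 p hp
  · intro p hp
    rw [hfixw_1]
    exact hfixk_1 p hp
  · intro p hp
    rw [hfixw_2 p hp]
    exact hfixk_2 p hp
  · intro p hp
    rw [hfixw_3 p hp]
    exact hfixk_3 p hp
  · intro p hp
    rw [hfixw_4 p hp]
    exact hfixk_4 p hp
  · intro p hp
    rw [hfixw_5]
    exact hfixk_5 p hp
  · intro p hp
    rw [hfixw_6]
    exact hfixk_6 p hp
  · intro p hp
    rw [hfixw_7]
    exact hfixk_7 p hp
  · intro p hp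
    rw [hfixw_8]
    exact hfixk_8 p hp
  · intro p hp
    rw [hfixw_9]
    exact hfixk_9 p hp
  · intro p hp
    rw [hfixw_10]
    exact hfixk_10 p hp
  · intro p hp
    rw [hfixw_11 p hp]
    exact hfixk_11 p hp
  · intro p hp
    rw [hfixw_12]
    exact hfixk_12 p hp
  · intro p hp
    rw [hfixw_13]
    exact hfixk_13 p hp


theorem hfix : ∀ b ∈ base, ∀ p < N, wapp px b p = p := by
  intro b hb
  obtain ⟨k, hk, rfl⟩ := List.mem_iff_getElem.mp hb
  have hk' : k < 14 := hk
  have := hfix_k k hk'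
  rw [List.getD_eq_getElem _ _ hk] at this
  exact this

theorem htree : ∀ p, 0 < p → p < N → ∃ c < 6, ∃ q < p, px c q = p := chkTree_spec chkT

theorem hsubP : ∀ s ∈ S, ∃ w, (∀ c ∈ w, c < 6) ∧ s = wordElt gc w ∧ wapp px w 0 = 0 := by
  intro s hs
  obtain ⟨w, hw, rfl⟩ := hsw s hs
  refine ⟨w, (hsw' w hw).1, rfl, ?_⟩
  simp only [subw, List.mem_cons, List.mem_nil_iff, or_false] at hw
  rcases hw with rfl | rfl
  · exact Nat.eq_of_beq_eq_true chkH0
  · exact Nat.eq_of_beq_eq_true chkH1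

theorem hlab : ∀ w ∈ subw, ∀ p < N, lab (wapp px w p) = lab p := by
  intro w hw
  simp only [subw, List.mem_cons, List.mem_nil_iff, or_false] at hw
  rcases hw with rfl | rfl
  · exact chkLab_spec chkLab0
  · exact chkLab_spec chkLab1

theorem hsel_mem : ∀ k p, ∃ w ∈ subw, hsel k p = wapp px w p := by
  intro k p
  match k with
  | 0 => exact ⟨_, List.getElem_mem (l := subw) (n := 0) (by decide), rfl⟩
  | (k + 1) => exact ⟨_, List.getElem_mem (l := subw) (n := 1) (by decide), rfl⟩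

theorem isRoot_cases {p : ℕ} (h : isRoot p = true) : p = 0 ∨ p = 1 ∨ p = 5 ∨ p = 10 ∨ p = 35 := by
  unfold isRoot at h
  rw [brec_beq] at h
  by_cases h0 : p = 0
  · exact Or.inl h0
  · rw [if_neg h0] at h
    rw [brec_beq] at h
    by_cases h1 : p = 1
    · exact Or.inr (Or.inl h1)
    · rw [if_neg h1] at h
      rw [brec_beq] at h
      by_cases h2 : p = 5
      · exact Or.inr (Or.inr (Or.inl h2))
      · rw [if_neg h2] at h
        rw [brec_beq] at h
        by_cases h3 : p = 10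
        · exact Or.inr (Or.inr (Or.inr (Or.inl h3)))
        · rw [if_neg h3] at h
          rw [brec_beq] at h
          by_cases h4 : p = 35
          · exact Or.inr (Or.inr (Or.inr (Or.inr (h4))))
          · rw [if_neg h4] at h
            exact absurd h (by simp)

theorem lab_r0 : lab 0 = 0 := by decide +kernel
theorem lab_r1 : lab 1 = 1 := by decide +kernel
theorem lab_r2 : lab 5 = 2 := by decide +kernel
theorem lab_r3 : lab 10 = 3 := by decide +kernel
theorem lab_r4 : lab 35 = 4 := by decide +kernel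

theorem htreeH (p0 : ℕ) (hp0 : p0 = 0 ∨ p0 = 1 ∨ p0 = 5 ∨ p0 = 10 ∨ p0 = 35) :
    ∀ p < N, lab p = lab p0 → p ≠ p0 → ∃ w ∈ subw, rnk (wapp px w p) < rnk p := by
  intro p hp hl hne
  rcases chkRank_spec chkRk p hp with h | h
  · exfalso
    have := isRoot_cases h
    rcases this with rfl | rfl | rfl | rfl | rfl <;> rcases hp0 with rfl | rfl | rfl | rfl | rfl <;>
      simp only [lab_r0, lab_r1, lab_r2, lab_r3, lab_r4] at hl <;> first | exact hne rfl | omega
  · obtain ⟨w, hw, e⟩ := hsel_mem (Nat.land (Nat.shiftRight (HR p) 4) 15) p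
    refine ⟨w, hw, ?_⟩
    rw [← e]
    exact h

theorem orbits_thm : (subH Rels S).index = 266 ∧ ∃ q1 q2 q3 q4 : G ⧸ subH Rels S, (MulAction.orbit (subH Rels S) q1).ncard = 11 ∧ (MulAction.orbit (subH Rels S) q2).ncard = 12 ∧ (MulAction.orbit (subH Rels S) q3).ncard = 110 ∧ (MulAction.orbit (subH Rels S) q4).ncard = 132 := by
  obtain ⟨φ, hw, hfixH, htrans⟩ := perm_rep (rels := Rels) (S := S) hP hC (rel_cover hP hfix) hsubP htree
  obtain ⟨hidx, F, hF⟩ := index_eq hP.Npos hfixH htrans idx_le.1 idx_le.2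
  refine ⟨hidx, F.symm ⟨35, by decide⟩, F.symm ⟨5, by decide⟩, F.symm ⟨10, by decide⟩, F.symm ⟨1, by decide⟩, ?_, ?_, ?_, ?_⟩
  · have h1 := orbit_spec hF hw subw hsw hsw' lab rnk 35 (by decide) hlab (htreeH 35 (by simp))
    have h2 := orbit_ncard lab 35 (by decide) h1
    rw [lab_r4, ← cntLab_eq] at h2
    exact h2.trans chkCnt4
  · have h1 := orbit_spec hF hw subw hsw hsw' lab rnk 5 (by decide) hlab (htreeH 5 (by simp))
    have h2 := orbit_ncard lab 5 (by decide) h1
    rw [lab_r2, ← cntLab_eq] at h2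
    exact h2.trans chkCnt2
  · have h1 := orbit_spec hF hw subw hsw hsw' lab rnk 10 (by decide) hlab (htreeH 10 (by simp))
    have h2 := orbit_ncard lab 10 (by decide) h1
    rw [lab_r3, ← cntLab_eq] at h2
    exact h2.trans chkCnt3
  · have h1 := orbit_spec hF hw subw hsw hsw' lab rnk 1 (by decide) hlab (htreeH 1 (by simp))
    have h2 := orbit_ncard lab 1 (by decide) h1
    rw [lab_r1, ← cntLab_eq] at h2
    exact h2.trans chkCnt1

end helpers

end Cfsg.Agent.Lib.Helper6.J1Idx
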