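import Cfsg.Agent.Lib.Helper6.Spor.J1UB
import Cfsg.Agent.Lib.Helper6.Spor.J1Idx
import Cfsg.Agent.Lib.Helper6.TCD.J1aL.LB

set_option autoImplicit false
set_option maxRecDepth 100000

namespace Cfsg.Agent.Lib.Helper6.J1Ord

open Cfsg.Agent.Lib.Helper6.TC Cfsg.Agent.Lib.Helper6.TCD
open Cfsg.Agent.Lib.Helper6.TCP.J1

/-! # The order of the presented group `J1`, and its faithful action on 266 points -/

theorem rep : ∃ φ : G →* Equiv.Perm (Fin 266),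
    (∀ w, (∀ c ∈ w, c < 6) → ∀ p : Fin 266,
      ((φ (PresentedGroup.mk Rels (wordElt gc w)))⁻¹ p).val = wapp J1a.px w p.val) ∧
    (∃ F : (G ⧸ subH Rels J1Idx.S) ≃ Fin 266, ∀ g q, F (g • q) = φ g (F q)) ∧
    (∀ p : Fin 266, ∃ g, φ g ⟨0, by decide⟩ = p) ∧
    Function.Injective φ ∧ Nat.card G = 175560 ∧ Finite G := by
  obtain ⟨φ, hw, hfixH, htrans⟩ := perm_rep (rels := Rels) (S := J1Idx.S)
    J1Idx.hP hC (rel_cover J1Idx.hP J1Idx.hfix) J1Idx.hsubP J1Idx.htree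
  obtain ⟨_, F, hF⟩ := index_eq J1Idx.hP.Npos hfixH htrans J1Idx.idx_le.1 J1Idx.idx_le.2
  have hfin : Finite G := J1UB.card_le.1
  have hlb := J1aL.chain_lb (φ := φ) hw
  obtain ⟨hinj, hcard⟩ := faithful_of_card hlb J1UB.card_le.2 (by norm_num)
  exact ⟨φ, hw, ⟨F, hF⟩, htrans, hinj, hcard, hfin⟩

end Cfsg.Agent.Lib.Helper6.J1Ord
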