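import Cfsg.Agent.Lib.Helper6.Spor.J1Ord
import Cfsg.Agent.Lib.Helper6.Simp6
import Cfsg.Agent.Lib.Helper6.Simp3
import Cfsg.Agent.Lib.Helper6.Simp4
import Cfsg.Agent.Lib.Helper6.TCD.J1X.All
import Cfsg.Agent.Lib.Helper6.TCD.J1C.Idx

set_option autoImplicit false

namespace Cfsg.Agent.Lib.Helper6.J1Simple

open Cfsg.Agent.Lib.Helper6.TC Cfsg.Agent.Lib.Helper6.TCD Cfsg.Agent.Lib.Helper6.Simp
open Cfsg.Agent.Lib.Helper6.TCP.J1 Cfsg.Agent.Lib.Helper6.TCD.J1a Cfsg.Agent.Lib.Helper6.TCD.J1X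
open Cfsg.Agent.Lib.Helper6

/-! # The presented group `J1` is simple -/

section helpers
set_option maxRecDepth 100000
set_option linter.unusedSimpArgs false

/-- an element of order 19 -/
def wx : List ℕ := [0, 1, 0, 2]

theorem hQX : ∀ q < 266, QX q = wapp px wx q := by
  intro q hq
  have e : wapp px wx q = XW q := by
    simp only [wx, wapp_cons, wapp_nil, J1Idx.px_c0, J1Idx.px_c1, J1Idx.px_c2, J1Idx.px_c3, J1Idx.px_c4, J1Idx.px_c5]
    rfl
  rw [e]
  exact chkEqF_spec chkQX0 q (by omega) (by omega)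

theorem hXP : ∀ q < 266, wapp px (List.replicate 19 wx).flatten q = q := by
  intro q hq
  rw [wapp_pow J1Idx.hP (by decide) hQX 19 q hq]
  have e : QX^[19] q = XP q := by
    unfold XP
    simp only [Function.iterate_succ_apply, Function.iterate_zero_apply]
  rw [e]
  exact chkFix_spec chkXP0 q (by omega) (by omega)

theorem hmove : wapp px wx 0 ≠ 0 := by decide +kernel

/-- the sizes of the orbits -/
def sz : Fin 4 → ℕ := ![11, 12, 110, 132]

theorem hdvd : ∀ T : Finset (Fin 4), (1 + ∑ i ∈ T, sz i) ∣ 266 → T = ∅ ∨ 19 ^ 1 ∣ (1 + ∑ i ∈ T, sz i) := by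
  decide

theorem hpair : ∀ i j : Fin 4, i ≠ j → sz i ≠ sz j := by
  decide

/-- the presentation with the element `x` killed is trivial -/
theorem htriv : Finite (WG 6 J1C.base) ∧ Nat.card (WG 6 J1C.base) ≤ 1 :=
  wp_bottom J1C.idx

theorem hCbase : ∀ b ∈ J1C.base, b ∈ base ∨ b = wx := by
  decide +kernel

end helpers

/-- the presented group is simple of order 175560 -/
theorem simple : IsSimpleGroup G ∧ Nat.card G = 175560 := by
  obtain ⟨φ, hw, ⟨F, hF⟩, _, hinj, hcard, hfin⟩ := J1Ord.rep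
  refine ⟨?_, hcard⟩
  have hnt : Nontrivial G := by
    rw [← Finite.one_lt_card_iff_nontrivial, hcard]
    norm_num
  obtain ⟨hidx, q1, q2, q3, q4, h1, h2, h3, h4⟩ := J1Idx.orbits_thm
  have hsz : ∀ i, (MulAction.orbit (subH Rels J1Idx.S) (![q1, q2, q3, q4] i)).ncard = sz i := by
    intro i
    fin_cases i
    · exact h1
    · exact h2
    · exact h3
    · exact h4
  have : Fact (Nat.Prime 19) := ⟨by norm_num⟩
  refine simple_of_orbits (subH Rels J1Idx.S) hidx ![q1, q2, q3, q4] sz hsz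
    (by
      intro i j hij heq
      have hc : sz i = sz j := by rw [← hsz i, ← hsz j, heq]
      exact hpair i j hij hc)
    (by decide) (by decide) (core_eq_bot hinj F hF) (p := 19) (k := 1) hdvd
    (by rw [hcard]; norm_num)
    (x := PresentedGroup.mk Rels (wordElt gc wx))
    (orderOf_word hinj hw (by decide) hXP (q0 := 0) (by decide) hmove) ?_
  intro K hK hxK
  refine eq_top_of_trivial_wp htriv hgen J1C.hbl ?_
  intro b hb
  rcases hCbase b hb with h | h
  · rw [hbase b h]
    exact K.one_mem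
  · rw [h]
    exact hxK

end Cfsg.Agent.Lib.Helper6.J1Simple
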