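import Cfsg.Agent.Lib.Helper6.WP3
import Cfsg.Agent.Lib.Helper6.Spor.J1Idx
import Cfsg.Agent.Lib.Helper6.TCD.J1HU.Idx

set_option autoImplicit false
set_option maxRecDepth 100000

namespace Cfsg.Agent.Lib.Helper6.J1UB

open Cfsg.Agent.Lib.Helper6.TC Cfsg.Agent.Lib.Helper6.TCD

/-! # The order of the group `J1` presented by words is at most 175560 -/

theorem sub_le : Finite (WG 3 J1HU.base) ∧ Nat.card (WG 3 J1HU.base) ≤ 660 :=
  wp_bottom J1HU.idx

theorem card_le : Finite TCP.J1.G ∧ Nat.card TCP.J1.G ≤ 175560 := by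
  have h := wp_step (k := 6) (k' := 3) (base := TCP.J1.base) (subw := J1Idx.subw)
    (fun i => [3, 4, 5].getD i 0) J1Idx.idx_le (by decide) J1HU.hbl
    (by decide +kernel) sub_le
  exact ⟨h.1, h.2.trans (by norm_num [TCD.J1a.N])⟩

end Cfsg.Agent.Lib.Helper6.J1UB
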