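import Cfsg.Agent.Lib.Helper6.WP3
import Cfsg.Agent.Lib.Helper6.TCP.J2
import Cfsg.Agent.Lib.Helper6.TCD.SuzU2.Idx
import Cfsg.Agent.Lib.Helper6.TCD.SuzU3.Idx
import Cfsg.Agent.Lib.Helper6.TCD.SuzU4.Idx

set_option autoImplicit false
set_option maxRecDepth 100000

namespace Cfsg.Agent.Lib.Helper6.J2UB

open Cfsg.Agent.Lib.Helper6.TC Cfsg.Agent.Lib.Helper6.TCD

/-! # The order of the group J2 presented on five involutions is at most 604800 -/

theorem v4 : Finite (WG 3 SuzU4.base) ∧ Nat.card (WG 3 SuzU4.base) ≤ 20 :=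
  wp_bottom SuzU4.idx

theorem v3 : Finite (WG 4 SuzU3.base) ∧ Nat.card (WG 4 SuzU3.base) ≤ 108 * 20 :=
  wp_step (k := 4) (k' := 3) (fun i => [0, 1, 3].getD i 0) SuzU3.idx (by decide) SuzU4.hbl
    (by decide +kernel) v4

theorem v2 : Finite (WG 5 SuzU2.base) ∧ Nat.card (WG 5 SuzU2.base) ≤ 280 * (108 * 20) :=
  wp_step (k := 5) (k' := 4) (fun i => i) SuzU2.idx (by decide) SuzU3.hbl
    (by decide +kernel) v3

theorem base_eq : TCP.J2.base = SuzU2.base := by decide +kernel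

theorem card_le : Finite TCP.J2.G ∧ Nat.card TCP.J2.G ≤ 604800 := by
  show Finite (WG 5 TCP.J2.base) ∧ Nat.card (WG 5 TCP.J2.base) ≤ 604800
  rw [base_eq]
  exact ⟨v2.1, v2.2.trans (by norm_num)⟩

end Cfsg.Agent.Lib.Helper6.J2UB
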