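import Cfsg.Agent.Lib.Helper6.Spor.J3GL

set_option autoImplicit false

namespace Cfsg.Agent.Lib.Helper6.J3GL

open Matrix Cfsg.Spor Cfsg.Agent.Lib.Helper1.Hexa

/-! # The matrix group `3·J₃` of the definitions, over any field with four elements -/

section good
variable {A B : Type*} [Group A] [Group B]

/-- the order, the centre and the central quotient of the triple cover of `J₃` -/
def Good (A : Type*) [Group A] : Prop :=
  Nat.card (Subgroup.center A) = 3 ∧ Nat.card A = 150698880 ∧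
    Nat.card (A ⧸ Subgroup.center A) = 50232960 ∧ IsSimpleGroup (A ⧸ Subgroup.center A)

theorem map_center (e : A ≃* B) : (Subgroup.center A).map e.toMonoidHom = Subgroup.center B := by
  ext b
  rw [Subgroup.mem_map]
  constructor
  · rintro ⟨a, ha, rfl⟩
    rw [Subgroup.mem_center_iff] at ha ⊢
    intro b'
    have h := ha (e.symm b')
    have h2 := congrArg e h
    rw [map_mul, map_mul, MulEquiv.apply_symm_apply] at h2
    exact h2
  · intro hb
    refine ⟨e.symm b, ?_, MulEquiv.apply_symm_apply e b⟩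
    rw [Subgroup.mem_center_iff] at hb ⊢
    intro a
    apply e.injective
    rw [map_mul, map_mul, MulEquiv.apply_symm_apply]
    exact hb (e a)

theorem good_of_equiv (e : A ≃* B) (h : Good A) : Good B := by
  obtain ⟨h1, h2, h3, h4⟩ := h
  have eq : A ⧸ Subgroup.center A ≃* B ⧸ Subgroup.center B :=
    QuotientGroup.congr (Subgroup.center A) (Subgroup.center B) e (map_center e)
  refine ⟨?_, ?_, ?_, ?_⟩
  · rw [← h1]
    exact Nat.card_congr (Subgroup.centerCongr e).symm.toEquiv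
  · rw [← h2]
    exact Nat.card_congr e.symm.toEquiv
  · rw [← h3]
    exact Nat.card_congr eq.symm.toEquiv
  · exact eq.symm.isSimpleGroup

end good

theorem good_M4 : Good M4 := main

section transfer
variable {F : Type} [Field F]

theorem two_eq_zero [Fintype F] (hF : Fintype.card F = 4) : (2 : F) = 0 := by
  have h4 : ((Fintype.card F : ℕ) : F) = 0 := Nat.cast_card_eq_zero F
  rw [hF] at h4
  have h : (2 : F) * 2 = 0 := by
    rw [← h4]
    norm_num
  exact mul_self_eq_zero.mp h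

/-- the map `x ↦ x ^ 2` of the field with four elements, as an isomorphism -/
noncomputable def frobEquiv : F4 ≃+* F4 :=
  RingEquiv.ofBijective J3SU.frob (by decide)

theorem frobEquiv_w : frobEquiv F4.w = F4.w2 := rfl

theorem frobEquiv_w2 : frobEquiv F4.w2 = F4.w := rfl

theorem exists_sigma [Fintype F] (hF : Fintype.card F = 4) (ω : F) (hω : ω ^ 2 + ω + 1 = 0) :
    ∃ σ : F4 ≃+* F, σ F4.w = ω := by
  have h2 := two_eq_zero hF
  let τ : F4 ≃+* F := FiniteField.ringEquivOfCardEq (by rw [hF]; rfl)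
  have hx : (τ F4.w) ^ 2 + τ F4.w + 1 = 0 := by
    rw [← map_pow, ← map_add, ← map_one τ, ← map_add, F4.w_root, map_zero]
  have hprod : (τ F4.w - ω) * (τ F4.w - ω - 1) = 0 := by
    linear_combination hx + hω - (τ F4.w + ω * τ F4.w + 1) * h2
  rcases mul_eq_zero.mp hprod with h | h
  · exact ⟨τ, sub_eq_zero.mp h⟩
  · refine ⟨frobEquiv.trans τ, ?_⟩
    have hτ : τ F4.w = ω + 1 := by linear_combination h
    have hw2 : (F4.w2 : F4) = F4.w ^ 2 := by decide
    show τ (frobEquiv F4.w) = ω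
    rw [frobEquiv_w, hw2, map_pow, hτ]
    linear_combination hω

variable (σ : F4 ≃+* F) (ω : F)

theorem map_A (hσ : σ F4.w = ω) (Z : F9) : (j3A F4 F4.w Z).map σ = j3A F ω Z := by
  unfold j3A
  rw [Matrix.diagonal_map (map_zero σ)]
  congr 1
  funext z
  unfold omegaPow
  rw [map_pow, hσ]

theorem map_E (hσ : σ F4.w = ω) (Z : F9) : (j3E F4 F4.w Z).map σ = j3E F ω Z := by
  unfold j3E
  rw [Matrix.diagonal_map (map_zero σ)]
  congr 1
  funext z
  unfold omegaPow
  rw [map_pow, hσ]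

theorem map_lam (hσ : σ F4.w = ω) (Z z : F9) : σ (j3Lam F4 F4.w Z z) = j3Lam F ω Z z := by
  unfold j3Lam
  split_ifs
  · exact map_one σ
  · exact hσ
  · rw [map_pow, hσ]
  · exact map_one σ

theorem map_D (hσ : σ F4.w = ω) (Z : F9) : (j3D F4 F4.w Z).map σ = j3D F ω Z := by
  ext i j
  simp only [j3D, Matrix.map_apply, Matrix.of_apply]
  split_ifs
  · exact map_lam σ ω hσ Z j
  · exact map_zero σ

theorem map_B (Z : F9) : (j3B F4 Z).map σ = j3B F Z := by
  ext i j
  simp only [j3B, Matrix.map_apply, Matrix.of_apply]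
  split_ifs
  · exact map_one σ
  · exact map_zero σ

theorem map_C (Z : F9) : (j3C F4 Z).map σ = j3C F Z := by
  ext i j
  simp only [j3C, Matrix.map_apply, Matrix.of_apply]
  split_ifs <;> first | exact map_one σ | exact map_zero σ

theorem mem_gens_iff (hσ : σ F4.w = ω) (M : Matrix F9 F9 F4) :
    M ∈ j3Gens F4 F4.w ↔ M.map σ ∈ j3Gens F ω := by
  have hinj : Function.Injective (fun M : Matrix F9 F9 F4 => M.map σ) :=
    Matrix.map_injective σ.injective
  constructor
  · rintro ((((⟨Z, rfl⟩ | ⟨Z, rfl⟩) | ⟨Z, rfl⟩) | ⟨Z, hZ0, rfl⟩) | ⟨Z, hZ0, rfl⟩)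
    · exact Or.inl (Or.inl (Or.inl (Or.inl ⟨Z, (map_A σ ω hσ Z).symm⟩)))
    · exact Or.inl (Or.inl (Or.inl (Or.inr ⟨Z, (map_E σ ω hσ Z).symm⟩)))
    · exact Or.inl (Or.inl (Or.inr ⟨Z, (map_D σ ω hσ Z).symm⟩))
    · exact Or.inl (Or.inr ⟨Z, hZ0, map_B σ Z⟩)
    · exact Or.inr ⟨Z, hZ0, map_C σ Z⟩
  · rintro ((((⟨Z, hZ⟩ | ⟨Z, hZ⟩) | ⟨Z, hZ⟩) | ⟨Z, hZ0, hZ⟩) | ⟨Z, hZ0, hZ⟩)
    · exact Or.inl (Or.inl (Or.inl (Or.inl ⟨Z, hinj (by
        show (j3A F4 F4.w Z).map σ = M.map σ
        rw [map_A σ ω hσ Z]; exact hZ)⟩)))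
    · exact Or.inl (Or.inl (Or.inl (Or.inr ⟨Z, hinj (by
        show (j3E F4 F4.w Z).map σ = M.map σ
        rw [map_E σ ω hσ Z]; exact hZ)⟩)))
    · exact Or.inl (Or.inl (Or.inr ⟨Z, hinj (by
        show (j3D F4 F4.w Z).map σ = M.map σ
        rw [map_D σ ω hσ Z]; exact hZ)⟩))
    · exact Or.inl (Or.inr ⟨Z, hZ0, hinj (by
        show M.map σ = (j3B F4 Z).map σ
        rw [map_B σ Z]; exact hZ)⟩)
    · exact Or.inr ⟨Z, hZ0, hinj (by
        show M.map σ = (j3C F4 Z).map σ
        rw [map_C σ Z]; exact hZ)⟩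

/-- the isomorphism of the general linear groups -/
def theta : GL F9 F4 ≃* GL F9 F := Units.mapEquiv (σ.mapMatrix (m := F9)).toMulEquiv

theorem theta_val (g : GL F9 F4) : (theta σ g).val = g.val.map σ := rfl

theorem map_threeJ3 (hσ : σ F4.w = ω) :
    (threeJ3 F4 F4.w).map (theta σ).toMonoidHom = threeJ3 F ω := by
  unfold threeJ3
  rw [MonoidHom.map_closure]
  congr 1
  ext h
  constructor
  · rintro ⟨g, hg, rfl⟩
    show (theta σ g).val ∈ j3Gens F ω
    rw [theta_val]
    exact (mem_gens_iff σ ω hσ g.val).1 hg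
  · intro hh
    refine ⟨(theta σ).symm h, ?_, MulEquiv.apply_symm_apply (theta σ) h⟩
    show ((theta σ).symm h).val ∈ j3Gens F4 F4.w
    rw [mem_gens_iff σ ω hσ, ← theta_val, MulEquiv.apply_symm_apply]
    exact hh

/-- the order, the centre and the central quotient of the matrix group of the definitions -/
theorem good_threeJ3 [Fintype F] (hF : Fintype.card F = 4) (hω : ω ^ 2 + ω + 1 = 0) : Good (threeJ3 F ω) := by
  obtain ⟨σ, hσ⟩ := exists_sigma hF ω hω
  have e1 : M4 ≃* M4.map (theta σ).toMonoidHom := (theta σ).subgroupMap M4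
  have e2 : M4.map (theta σ).toMonoidHom ≃* threeJ3 F ω :=
    MulEquiv.subgroupCongr (map_threeJ3 σ ω hσ)
  exact good_of_equiv (e1.trans e2) good_M4

end transfer

end Cfsg.Agent.Lib.Helper6.J3GL
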