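import Cfsg.Agent.Lib.Helper6.Spor.J3GL2

set_option autoImplicit false

namespace Cfsg.Agent.Lib.Helper6.J3Orb

open Matrix Cfsg.Spor Cfsg.Agent.Lib.Helper1.Hexa
open Cfsg.Agent.Lib.Helper6.TC Cfsg.Agent.Lib.Helper6.F4Mat Cfsg.Agent.Lib.Helper6.J3GL

/-! # Vectors of the 9-space over the field with four elements, as numbers of 18 bits -/

/-- the bits of a number, as a vector over the prime field -/
def bvec (x : ℕ) : Fin 18 → ZMod 2 := fun i => if x.testBit i.val then 1 else 0

/-- the column `j` of a packed matrix -/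
def colOf (C j : ℕ) : ℕ := Nat.land (Nat.shiftRight C (Nat.mul 18 j)) 262143

/-- the product of the first `n` columns of a packed matrix with the bits of `x` -/
noncomputable def actC (C n x : ℕ) : ℕ :=
  Nat.rec (motive := fun _ => ℕ) 0
    (fun k ih => Nat.xor ih (Nat.mul (Nat.land (Nat.shiftRight x k) 1) (colOf C k))) n

theorem actC_zero (C x : ℕ) : actC C 0 x = 0 := rfl

theorem actC_succ (C n x : ℕ) :
    actC C (n + 1) x = Nat.xor (actC C n x) (Nat.mul (Nat.land (Nat.shiftRight x n) 1) (colOf C n)) := rfl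

/-- the matrix of a packed matrix -/
def matOf (C : ℕ) : Matrix (Fin 18) (Fin 18) (ZMod 2) := Matrix.of fun i j => bvec (colOf C j.val) i

theorem land_one (x k : ℕ) : Nat.land (Nat.shiftRight x k) 1 = if x.testBit k then 1 else 0 := by
  show (x >>> k) &&& 1 = _
  rw [Nat.and_one_is_mod, Nat.shiftRight_eq_div_pow, Nat.testBit_eq_decide_div_mod_eq]
  rcases Nat.mod_two_eq_zero_or_one (x / 2 ^ k) with h | h <;> simp [h]

theorem bvec_xor (a b : ℕ) (i : Fin 18) : bvec (Nat.xor a b) i = bvec a i + bvec b i := by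
  show (if (a ^^^ b).testBit i.val then (1 : ZMod 2) else 0) = _
  rw [Nat.testBit_xor]
  unfold bvec
  cases a.testBit i.val <;> cases b.testBit i.val <;> decide

theorem bvec_bit_mul (t : Bool) (c : ℕ) (i : Fin 18) :
    bvec (Nat.mul (if t then 1 else 0) c) i = bvec c i * (if t then 1 else 0) := by
  cases t
  · show bvec (0 * c) i = _
    simp [bvec]
  · show bvec (1 * c) i = _
    simp

theorem bvec_actC_aux (C x : ℕ) (i : Fin 18) (n : ℕ) :
    bvec (actC C n x) i =
      ∑ j ∈ Finset.range n, bvec (colOf C j) i * (if x.testBit j then 1 else 0) := by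
  induction n with
  | zero => simp [actC_zero, bvec]
  | succ n ih =>
    rw [actC_succ, bvec_xor, ih, land_one, bvec_bit_mul, Finset.sum_range_succ]

theorem bvec_actC (C x : ℕ) : bvec (actC C 18 x) = matOf C *ᵥ bvec x := by
  funext i
  rw [bvec_actC_aux]
  show _ = ∑ j : Fin 18, matOf C i j * bvec x j
  rw [← Fin.sum_univ_eq_sum_range (fun j => bvec (colOf C j) i * (if x.testBit j then 1 else 0)) 18]
  rfl

/-! ## The coordinates over the prime field -/

/-- the coordinates of an element of the field with four elements on `1` and `w` -/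
def coord (k : Fin 2) (a : F4) : ZMod 2 :=
  if k = 0 then (match a with | .z => 0 | .o => 1 | .w => 0 | .w2 => 1)
  else (match a with | .z => 0 | .o => 0 | .w => 1 | .w2 => 1)

/-- the element with given coordinates -/
def ofBits (a b : Bool) : F4 :=
  match a, b with
  | false, false => .z
  | true, false => .o
  | false, true => .w
  | true, true => .w2

/-- the vector over the prime field of a vector -/
def toB (v : F9 → F4) : Fin 18 → ZMod 2 := fun i => coord (e18.symm i).2 (v (e18.symm i).1)

/-- the vector of a number -/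
def vecOf (x : ℕ) : F9 → F4 := fun z =>
  ofBits (x.testBit (2 * (e9 z).val)) (x.testBit (2 * (e9 z).val + 1))

theorem e18_val (z : F9) (k : Fin 2) : (e18 (z, k)).val = 2 * (e9 z).val + k.val := by
  show (finProdFinEquiv (m := 9) (n := 2) (e9 z, k)).val = _
  rw [finProdFinEquiv_apply_val]
  show k.val + 2 * (e9 z).val = _
  omega

theorem toB_vecOf (x : ℕ) : toB (vecOf x) = bvec x := by
  funext i
  obtain ⟨⟨z, k⟩, rfl⟩ := e18.surjective i
  simp only [toB, Equiv.symm_apply_apply, bvec, e18_val, vecOf]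
  fin_cases k
  · show coord 0 _ = if x.testBit (2 * (e9 z).val + 0) then 1 else 0
    rw [Nat.add_zero]
    cases x.testBit (2 * (e9 z).val) <;> cases x.testBit (2 * (e9 z).val + 1) <;> rfl
  · show coord 1 _ = if x.testBit (2 * (e9 z).val + 1) then 1 else 0
    cases x.testBit (2 * (e9 z).val) <;> cases x.testBit (2 * (e9 z).val + 1) <;> rfl

theorem coord_inj : ∀ a b : F4, coord 0 a = coord 0 b → coord 1 a = coord 1 b → a = b := by decide

theorem toB_injective : Function.Injective toB := by
  intro v v' h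
  funext z
  have h0 := congrFun h (e18 (z, 0))
  have h1 := congrFun h (e18 (z, 1))
  simp only [toB, Equiv.symm_apply_apply] at h0 h1
  exact coord_inj _ _ h0 h1

theorem coord_add : ∀ (k : Fin 2) (a b : F4), coord k (a + b) = coord k a + coord k b := by decide

theorem coord_zero : ∀ k : Fin 2, coord k 0 = 0 := by decide

theorem coord_sum {ι : Type*} (s : Finset ι) (f : ι → F4) (k : Fin 2) :
    coord k (∑ i ∈ s, f i) = ∑ i ∈ s, coord k (f i) := by
  classical
  induction s using Finset.induction_on with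
  | empty => simp [coord_zero]
  | insert a s ha ih => rw [Finset.sum_insert ha, Finset.sum_insert ha, coord_add, ih]

theorem coord_mul : ∀ (r : Fin 2) (a b : F4),
    ∑ k : Fin 2, rfun a r k * coord k b = coord r (a * b) := by decide

theorem toB_mulVec (A : Matrix F9 F9 F4) (v : F9 → F4) : toB (A *ᵥ v) = rho e18 A *ᵥ toB v := by
  funext i
  show coord (e18.symm i).2 (∑ z, A (e18.symm i).1 z * v z) = ∑ j, rho e18 A i j * toB v j
  rw [coord_sum]
  have hR : ∑ j, rho e18 A i j * toB v j =
      ∑ z : F9, ∑ k : Fin 2, rho e18 A i (e18 (z, k)) * toB v (e18 (z, k)) := by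
    rw [← Equiv.sum_comp e18 (fun j => rho e18 A i j * toB v j)]
    exact Fintype.sum_prod_type _
  rw [hR]
  apply Finset.sum_congr rfl
  intro z _
  rw [← coord_mul]
  apply Finset.sum_congr rfl
  intro k _
  simp only [rho_apply, toB, Equiv.symm_apply_apply]

/-- the action of a matrix on the vectors of numbers -/
theorem vecOf_actC (g : GL9) (C : ℕ) (hC : glCoe g = matOf C) (x : ℕ) :
    vecOf (actC C 18 x) = g.val *ᵥ vecOf x := by
  apply toB_injective
  rw [toB_vecOf, bvec_actC, toB_mulVec, toB_vecOf, ← hC]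
  rfl

theorem bvec_inj {x y : ℕ} (hx : x < 262144) (hy : y < 262144) (h : bvec x = bvec y) : x = y := by
  apply Nat.eq_of_testBit_eq
  intro i
  by_cases hi : i < 18
  · have := congrFun h ⟨i, hi⟩
    simp only [bvec] at this
    cases hxi : x.testBit i <;> cases hyi : y.testBit i <;> simp [hxi, hyi] at this <;> rfl
  · have h18 : (262144 : ℕ) = 2 ^ 18 := by norm_num
    have hle : 2 ^ 18 ≤ 2 ^ i := Nat.pow_le_pow_right (by norm_num) (by omega)
    rw [Nat.testBit_lt_two_pow (by omega), Nat.testBit_lt_two_pow (by omega)]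

theorem vecOf_inj {x y : ℕ} (hx : x < 262144) (hy : y < 262144) (h : vecOf x = vecOf y) : x = y := by
  apply bvec_inj hx hy
  rw [← toB_vecOf, ← toB_vecOf, h]

theorem exists_code (v : F9 → F4) : ∃ x < 262144, vecOf x = v := by
  let f : Fin 262144 → (F9 → F4) := fun x => vecOf x.val
  have hinj : Function.Injective f := by
    intro x y h
    exact Fin.ext (vecOf_inj x.isLt y.isLt h)
  have hcard : Fintype.card (Fin 262144) = Fintype.card (F9 → F4) := by
    rw [Fintype.card_fun, F4.card, Fintype.card_prod, ZMod.card, Fintype.card_fin]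
    norm_num
  obtain ⟨x, hx⟩ := ((Fintype.bijective_iff_injective_and_card f).2 ⟨hinj, hcard⟩).2 v
  exact ⟨x.val, x.isLt, hx⟩

theorem vecOf_zero : vecOf 0 = 0 := by
  funext z
  simp [vecOf, ofBits]
  rfl

theorem vecOf_one : vecOf 1 = Pi.single (0 : F9) (1 : F4) := by decide +kernel

/-! ## Isotropic vectors -/

/-- the number of the coordinates of a vector that are not zero, among the first `n` -/
noncomputable def wt (x n : ℕ) : ℕ :=
  Nat.rec (motive := fun _ => ℕ) 0
    (fun i ih => Nat.add ih (Nat.lor (Nat.land (Nat.shiftRight x (Nat.mul 2 i)) 1)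
      (Nat.land (Nat.shiftRight x (Nat.succ (Nat.mul 2 i))) 1))) n

/-- the test that a vector is isotropic -/
noncomputable def isoN (x : ℕ) : Bool := Nat.beq (Nat.land (wt x 9) 1) 0

theorem wt_succ (x n : ℕ) : wt x (n + 1) = wt x n +
    (if (x.testBit (2 * n) || x.testBit (2 * n + 1)) then 1 else 0) := by
  show Nat.add (wt x n) (Nat.lor (Nat.land (Nat.shiftRight x (Nat.mul 2 n)) 1)
      (Nat.land (Nat.shiftRight x (Nat.succ (Nat.mul 2 n))) 1)) = _
  rw [land_one, land_one]
  show wt x n + _ = _
  congr 1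
  show (if x.testBit (2 * n) then 1 else 0) ||| (if x.testBit (2 * n + 1) then 1 else 0) = _
  cases x.testBit (2 * n) <;> cases x.testBit (2 * n + 1) <;> rfl

theorem ofBits_cube : ∀ a b : Bool, (ofBits a b) ^ 3 = if (a || b) then (1 : F4) else 0 := by decide

theorem sum_cube_aux (x n : ℕ) :
    (∑ i ∈ Finset.range n, (ofBits (x.testBit (2 * i)) (x.testBit (2 * i + 1))) ^ 3 : F4) =
      if wt x n % 2 = 0 then 0 else 1 := by
  induction n with
  | zero => rfl
  | succ n ih =>
    rw [Finset.sum_range_succ, ih, wt_succ, ofBits_cube]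
    have h11 : (1 : F4) + 1 = 0 := by decide
    cases (x.testBit (2 * n) || x.testBit (2 * n + 1))
    · simp
    · rcases Nat.mod_two_eq_zero_or_one (wt x n) with h | h
      · have h' : (wt x n + 1) % 2 = 1 := by omega
        simp [h, h']
      · have h' : (wt x n + 1) % 2 = 0 := by omega
        simp [h, h', h11]

theorem sum_cube (x : ℕ) : (∑ z, (vecOf x z) ^ 3 = 0) ↔ isoN x = true := by
  have h1 : (∑ z, (vecOf x z) ^ 3) =
      ∑ i ∈ Finset.range 9, (ofBits (x.testBit (2 * i)) (x.testBit (2 * i + 1))) ^ 3 := by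
    rw [← Fin.sum_univ_eq_sum_range
      (fun i => (ofBits (x.testBit (2 * i)) (x.testBit (2 * i + 1))) ^ 3) 9]
    exact Fintype.sum_equiv e9 _ _ (fun z => rfl)
  rw [h1, sum_cube_aux]
  have h2 : isoN x = Nat.beq (wt x 9 % 2) 0 := by
    show Nat.beq ((wt x 9) &&& 1) 0 = _
    rw [Nat.and_one_is_mod]
  rw [h2]
  rcases Nat.mod_two_eq_zero_or_one (wt x 9) with h | h
  · simp [h]
  · have h10 : (1 : F4) ≠ 0 := by decide
    simp [h, h10]

end Cfsg.Agent.Lib.Helper6.J3Orb
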