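import Cfsg.Agent.Lib.Helper6.Spor.J3Orb1

set_option autoImplicit false

namespace Cfsg.Agent.Lib.Helper6.J3Orb

open Matrix Cfsg.Spor Cfsg.Agent.Lib.Helper1.Hexa
open Cfsg.Agent.Lib.Helper6.TC Cfsg.Agent.Lib.Helper6.F4Mat Cfsg.Agent.Lib.Helper6.J3GL

/-! # The checks of the orbits of `3·J₃` on the vectors of its 9-space -/

theorem colOf_lt (C j : ℕ) : colOf C j < 262144 := by
  have h : (262143 : ℕ) < 2 ^ 18 := by norm_num
  have := Nat.and_lt_two_pow (Nat.shiftRight C (Nat.mul 18 j)) h
  exact this

theorem actC_lt (C n x : ℕ) : actC C n x < 262144 := by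
  induction n with
  | zero => rw [actC_zero]; norm_num
  | succ n ih =>
    rw [actC_succ, land_one]
    have h2 : Nat.mul (if x.testBit n then 1 else 0) (colOf C n) < 2 ^ 18 := by
      have := colOf_lt C n
      split_ifs
      · show 1 * colOf C n < _
        omega
      · show 0 * colOf C n < _
        omega
    have h1 : actC C n x < 2 ^ 18 := by omega
    have := Nat.xor_lt_two_pow h1 h2
    exact this

section checker
variable (T : ℕ → ℕ) (GC : ℕ)

/-- the packed matrix of the generator `k` -/
def genC (k : ℕ) : ℕ := Nat.shiftRight GC (Nat.mul 324 k)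

/-- the product of the generator `k` with the vector of `x` -/
noncomputable def actG (k x : ℕ) : ℕ := actC (genC GC k) 18 x

/-- the first class -/
noncomputable def inX (x : ℕ) : Bool := Nat.beq (Nat.land (T x) 1) 1

/-- the representatives of the lines of the first class -/
noncomputable def inN (x : ℕ) : Bool := band (inX T x) (Nat.beq (Nat.land (Nat.shiftRight (T x) 1) 1) 1)

/-- the generator that leads to the parent -/
noncomputable def genIx (x : ℕ) : ℕ := Nat.land (Nat.shiftRight (T x) 2) 7

/-- the depth in the tree -/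
noncomputable def dep (x : ℕ) : ℕ := Nat.shiftRight (T x) 5

/-- the parent -/
noncomputable def par (x : ℕ) : ℕ := actG GC (genIx T x) x

/-- the class of the isotropic vectors -/
noncomputable def cls3 (x : ℕ) : Bool := band (isoN x) (Bool.rec true false (Nat.beq x 0))

/-- the check of the parent of `x` in the tree of a class with root `r` -/
noncomputable def chkR (cls : ℕ → Bool) (r x : ℕ) : Bool :=
  Bool.rec true
    (bor (Nat.beq x r)
      (band (Nat.blt (genIx T x) 6)
        (band (cls (par T GC x)) (Nat.blt (dep T (par T GC x)) (dep T x)))))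
    (cls x)

/-- the first class is closed under the six generators -/
noncomputable def chkCl (x : ℕ) : Bool :=
  Bool.rec true (allB (fun k => inX T (actG GC k x)) 6) (inX T x)

/-- negation -/
noncomputable def bnot (a : Bool) : Bool := Bool.rec true false a

@[simp] theorem bnot_eq_true (a : Bool) : bnot a = true ↔ a = false := by
  cases a <;> simp [bnot]

/-- the representatives of the lines of the first class: one on each line -/
noncomputable def chkRep (x : ℕ) : Bool :=
  Bool.rec true
    (band
      (bor (inN T x) (bor (inN T (actG GC 5 x)) (inN T (actG GC 5 (actG GC 5 x)))))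
      (Bool.rec true
        (band (bnot (inN T (actG GC 5 x))) (bnot (inN T (actG GC 5 (actG GC 5 x)))))
        (inN T x)))
    (inX T x)

/-- all the checks -/
noncomputable def chkAll (r3 x : ℕ) : Bool :=
  band (chkR T GC (inX T) 1 x)
    (band (chkR T GC cls3 r3 x) (band (chkCl T GC x) (chkRep T GC x)))

/-- counting -/
noncomputable def cntB (f : ℕ → Bool) (n : ℕ) : ℕ :=
  Nat.rec (motive := fun _ => ℕ) 0 (fun k ih => Bool.rec ih (Nat.succ ih) (f k)) n

/-- counting on an interval -/
noncomputable def cntR (f : ℕ → Bool) (lo len : ℕ) : ℕ := cntB (fun k => f (Nat.add lo k)) len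

theorem cntB_succ (f : ℕ → Bool) (n : ℕ) :
    cntB f (n + 1) = cntB f n + if f n = true then 1 else 0 := by
  show (Bool.rec (cntB f n) (Nat.succ (cntB f n)) (f n) : ℕ) = _
  cases f n <;> rfl

theorem cntB_add (f : ℕ → Bool) (a b : ℕ) : cntB f (a + b) = cntB f a + cntR f a b := by
  induction b with
  | zero => rfl
  | succ b ih =>
    rw [← Nat.add_assoc, cntB_succ, ih]
    unfold cntR
    rw [cntB_succ]
    show _ = cntB f a + (_ + if f (a + b) = true then 1 else 0)
    omega

theorem card_filter_eq_cntB (f : ℕ → Bool) (n : ℕ) :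
    ((Finset.range n).filter (fun x => f x = true)).card = cntB f n := by
  induction n with
  | zero => rfl
  | succ n ih =>
    rw [Finset.range_add_one, Finset.filter_insert, cntB_succ]
    split_ifs with h
    · rw [Finset.card_insert_of_notMem (by simp), ih]
    · rw [ih]; rfl

variable {T GC}

theorem reach_of_chk {cls : ℕ → Bool} {r : ℕ} (K : Subgroup GL9)
    (hgen : ∀ k < 6, ∃ g ∈ K, glCoe g = matOf (genC GC k))
    (hall : ∀ x < 262144, chkR T GC cls r x = true) :
    ∀ x < 262144, cls x = true → ∃ g ∈ K, g.val *ᵥ vecOf r = vecOf x := by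
  have key : ∀ d, ∀ x < 262144, dep T x = d → cls x = true →
      ∃ g ∈ K, g.val *ᵥ vecOf r = vecOf x := by
    intro d
    induction d using Nat.strong_induction_on with
    | _ d ih =>
      intro x hx hd hc
      have h := hall x hx
      unfold chkR at h
      rw [hc] at h
      have h' : bor (Nat.beq x r)
        (band (Nat.blt (genIx T x) 6)
          (band (cls (par T GC x)) (Nat.blt (dep T (par T GC x)) (dep T x)))) = true := h
      simp only [bor_eq_true, band_eq_true] at h'
      rcases h' with h1 | ⟨hk, hcp, hdp⟩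
      · have : x = r := Nat.eq_of_beq_eq_true h1
        subst this
        exact ⟨1, K.one_mem, by simp⟩
      · have hk' : genIx T x < 6 := by
          have := hk
          simp only [Nat.blt_eq] at this
          exact this
        have hdp' : dep T (par T GC x) < d := by
          have := hdp
          simp only [Nat.blt_eq] at this
          omega
        obtain ⟨t, ht, htC⟩ := hgen _ hk'
        obtain ⟨g, hg, hgv⟩ := ih _ hdp' (par T GC x)
          (show actC (genC GC (genIx T x)) 18 x < 262144 from actC_lt _ _ _) rfl hcp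
        refine ⟨t⁻¹ * g, K.mul_mem (K.inv_mem ht) hg, ?_⟩
        have e1 : vecOf (par T GC x) = t.val *ᵥ vecOf x := vecOf_actC t _ htC x
        rw [Units.val_mul, ← Matrix.mulVec_mulVec, hgv, e1, Matrix.mulVec_mulVec]
        have : (t⁻¹ : GL9).val * t.val = 1 := by
          rw [← Units.val_mul, inv_mul_cancel]; rfl
        rw [this, Matrix.one_mulVec]
  intro x hx hc
  exact key _ x hx rfl hc

/-- the set of the vectors of the first class -/
def XS (T : ℕ → ℕ) : Set (F9 → F4) := {v | ∃ x < 262144, inX T x = true ∧ vecOf x = v}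

theorem XS_finite : (XS T).Finite := by
  have : XS T ⊆ (fun x => vecOf x) '' {x | x < 262144} := by
    rintro v ⟨x, hx, _, rfl⟩
    exact ⟨x, hx, rfl⟩
  exact ((Set.finite_lt_nat 262144).image _).subset this

theorem gl_mulVec_injective (g : GL9) : Function.Injective (fun v : F9 → F4 => g.val *ᵥ v) := by
  intro v v' h
  have h2 := congrArg (fun u => (g⁻¹ : GL9).val *ᵥ u) h
  simp only [Matrix.mulVec_mulVec] at h2
  have : (g⁻¹ : GL9).val * g.val = 1 := by
    rw [← Units.val_mul, inv_mul_cancel]; rfl
  rw [this, Matrix.one_mulVec, Matrix.one_mulVec] at h2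
  exact h2

theorem closed_of_chk (S : Set GL9)
    (hgen : ∀ g ∈ S, ∃ k < 6, glCoe g = matOf (genC GC k))
    (hall : ∀ x < 262144, chkCl T GC x = true) :
    ∀ g ∈ Subgroup.closure S, ∀ v ∈ XS T, g.val *ᵥ v ∈ XS T := by
  intro g hg
  induction hg using Subgroup.closure_induction with
  | mem g hgS =>
    obtain ⟨k, hk, hC⟩ := hgen g hgS
    rintro v ⟨x, hx, hxX, rfl⟩
    have h := hall x hx
    unfold chkCl at h
    rw [hxX] at h
    have h' := allB_spec (show allB (fun k => inX T (actG GC k x)) 6 = true from h) k hk
    refine ⟨actG GC k x, (show actC (genC GC k) 18 x < 262144 from actC_lt _ _ _), h', ?_⟩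
    exact vecOf_actC g _ hC x
  | one =>
    intro v hv
    simpa using hv
  | mul g h _ _ ihg ihh =>
    intro v hv
    rw [Units.val_mul, ← Matrix.mulVec_mulVec]
    exact ihg _ (ihh _ hv)
  | inv g _ ih =>
    intro v hv
    have hmaps : Set.MapsTo (fun v : F9 → F4 => g.val *ᵥ v) (XS T) (XS T) := ih
    have hinj : Set.InjOn (fun v : F9 → F4 => g.val *ᵥ v) (XS T) :=
      (gl_mulVec_injective g).injOn
    have hbij := (XS_finite.injOn_iff_bijOn_of_mapsTo hmaps).1 hinj
    obtain ⟨u, hu, huv⟩ := hbij.surjOn hv
    have : (g⁻¹ : GL9).val *ᵥ v = u := by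
      rw [← huv]
      show (g⁻¹ : GL9).val *ᵥ (g.val *ᵥ u) = u
      rw [Matrix.mulVec_mulVec]
      have : (g⁻¹ : GL9).val * g.val = 1 := by
        rw [← Units.val_mul, inv_mul_cancel]; rfl
      rw [this, Matrix.one_mulVec]
    rw [this]
    exact hu

end checker

end Cfsg.Agent.Lib.Helper6.J3Orb
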