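import Cfsg.Agent.Lib.Helper6.Spor.J3Orb.Chk0
import Cfsg.Agent.Lib.Helper6.Spor.J3Orb.Chk1
import Cfsg.Agent.Lib.Helper6.Spor.J3Orb.Chk2
import Cfsg.Agent.Lib.Helper6.Spor.J3Orb.Chk3
import Cfsg.Agent.Lib.Helper6.Spor.J3Orb.Chk4
import Cfsg.Agent.Lib.Helper6.Spor.J3Orb.Chk5
import Cfsg.Agent.Lib.Helper6.Spor.J3Orb.Chk6
import Cfsg.Agent.Lib.Helper6.Spor.J3Orb.Chk7

set_option autoImplicit false

namespace Cfsg.Agent.Lib.Helper6.J3Orb

open Matrix Cfsg.Spor Cfsg.Agent.Lib.Helper1.Hexa Cfsg.Agent.Lib.Helper1.MatCode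
open Cfsg.Agent.Lib.Helper6.TC Cfsg.Agent.Lib.Helper6.F4Mat Cfsg.Agent.Lib.Helper6.J3GL
open Cfsg.Agent.Lib.Helper6.Simp
open D

/-! # The orbits of `3·J₃` on the vectors of its 9-space over the field with four elements -/

theorem chk_all : ∀ x < 262144, chkAll T GC r3 x = true := by
  intro x hx
  by_cases h1 : x < 32768
  · exact chk0 x (by omega) (by omega)
  by_cases h2 : x < 65536
  · exact chk1 x (by omega) (by omega)
  by_cases h3 : x < 98304
  · exact chk2 x (by omega) (by omega)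
  by_cases h4 : x < 131072
  · exact chk3 x (by omega) (by omega)
  by_cases h5 : x < 163840
  · exact chk4 x (by omega) (by omega)
  by_cases h6 : x < 196608
  · exact chk5 x (by omega) (by omega)
  by_cases h7 : x < 229376
  · exact chk6 x (by omega) (by omega)
  · exact chk7 x (by omega) (by omega)

theorem chk_R1 (x : ℕ) (hx : x < 262144) : chkR T GC (inX T) 1 x = true := by
  have h := chk_all x hx
  unfold chkAll at h
  simp only [band_eq_true] at h
  exact h.1

theorem chk_R3 (x : ℕ) (hx : x < 262144) : chkR T GC cls3 r3 x = true := by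
  have h := chk_all x hx
  unfold chkAll at h
  simp only [band_eq_true] at h
  exact h.2.1

theorem chk_Cl (x : ℕ) (hx : x < 262144) : chkCl T GC x = true := by
  have h := chk_all x hx
  unfold chkAll at h
  simp only [band_eq_true] at h
  exact h.2.2.1

theorem chk_Rep (x : ℕ) (hx : x < 262144) : chkRep T GC x = true := by
  have h := chk_all x hx
  unfold chkAll at h
  simp only [band_eq_true] at h
  exact h.2.2.2

theorem cnt_all : cntB (inN T) 262144 = 23256 := by
  have s0 : cntB (inN T) 0 = 0 := rfl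
  have s1 : cntB (inN T) 32768 = _ := (cntB_add (inN T) 0 32768).trans (by rw [s0, cnt0])
  have s2 : cntB (inN T) 65536 = _ := (cntB_add (inN T) 32768 32768).trans (by rw [s1, cnt1])
  have s3 : cntB (inN T) 98304 = _ := (cntB_add (inN T) 65536 32768).trans (by rw [s2, cnt2])
  have s4 : cntB (inN T) 131072 = _ := (cntB_add (inN T) 98304 32768).trans (by rw [s3, cnt3])
  have s5 : cntB (inN T) 163840 = _ := (cntB_add (inN T) 131072 32768).trans (by rw [s4, cnt4])
  have s6 : cntB (inN T) 196608 = _ := (cntB_add (inN T) 163840 32768).trans (by rw [s5, cnt5])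
  have s7 : cntB (inN T) 229376 = _ := (cntB_add (inN T) 196608 32768).trans (by rw [s6, cnt6])
  have s8 : cntB (inN T) 262144 = _ := (cntB_add (inN T) 229376 32768).trans (by rw [s7, cnt7])
  rw [s8]

/-! ## The generators -/

/-- the generators -/
def SG : Set GL9 := {g | g ∈ G5} ∪ {gZ}

theorem preim_le_of (K : Subgroup GL9) (h5 : ∀ g ∈ G5, g ∈ K) (hZ : Z0 ≤ K) :
    preim Z0 beta ≤ K := by
  intro x hx
  have hr : beta.range ≤ K.map (QuotientGroup.mk' Z0) := by
    rw [MonoidHom.range_eq_map, ← PresentedGroup.closure_range_of, MonoidHom.map_closure,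
      Subgroup.closure_le]
    rintro _ ⟨_, ⟨i, rfl⟩, rfl⟩
    have : beta (PresentedGroup.of i) = fcol i.val := beta_of i
    rw [this]
    exact Subgroup.mem_map_of_mem _ (getD_mem G5 K h5 _)
  obtain ⟨m, hm, hmx⟩ := hr hx
  have h1 : m⁻¹ * x ∈ Z0 := QuotientGroup.eq.1 hmx
  have h2 : x = m * (m⁻¹ * x) := by rw [mul_inv_cancel_left]
  rw [h2]
  exact K.mul_mem hm (hZ h1)

theorem M4_le_closure : M4 ≤ Subgroup.closure SG := by
  rw [M4_eq]
  apply preim_le_of
  · intro g hg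
    exact Subgroup.subset_closure (Or.inl hg)
  · exact Subgroup.zpowers_le.2 (Subgroup.subset_closure (Or.inr rfl))

theorem glCoe_G5 (k : ℕ) (hk : k < 5) : glCoe (G5.getD k 1) = matOf (genC GC k) := by
  have h1 : k < G5.length := hk
  have h2 : k < codes5.length := hk
  rw [List.getD_eq_getElem _ _ h1, ← hmat5 k hk, List.getD_eq_getElem _ _ h2]
  exact hG5 k h1 h2

theorem glCoe_gZ' : glCoe gZ = matOf (genC GC 5) := by
  have := glCoe_gZ_pow 1 (by norm_num)
  rw [pow_one] at this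
  rw [this, hmatZ]

theorem hgenS : ∀ g ∈ SG, ∃ k < 6, glCoe g = matOf (genC GC k) := by
  rintro g (hg | hg)
  · obtain ⟨i, hi, rfl⟩ := List.getElem_of_mem hg
    have hi5 : i < 5 := hi
    refine ⟨i, by omega, ?_⟩
    rw [← glCoe_G5 i hi5, List.getD_eq_getElem _ _ hi]
  · rw [Set.mem_singleton_iff] at hg
    subst hg
    exact ⟨5, by norm_num, glCoe_gZ'⟩

theorem gZ_mem_M4 : gZ ∈ M4 := Z0_le_M4 (Subgroup.mem_zpowers gZ)

theorem hgenK : ∀ k < 6, ∃ g ∈ M4, glCoe g = matOf (genC GC k) := by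
  intro k hk
  by_cases h5 : k < 5
  · exact ⟨G5.getD k 1, getD_mem G5 M4 G5_mem k, glCoe_G5 k h5⟩
  · have : k = 5 := by omega
    subst this
    exact ⟨gZ, gZ_mem_M4, glCoe_gZ'⟩

theorem reach1 : ∀ x < 262144, inX T x = true → ∃ g ∈ M4, g.val *ᵥ vecOf 1 = vecOf x :=
  reach_of_chk M4 hgenK chk_R1

theorem reach3 : ∀ x < 262144, cls3 x = true → ∃ g ∈ M4, g.val *ᵥ vecOf r3 = vecOf x :=
  reach_of_chk M4 hgenK chk_R3

theorem closed1 : ∀ g ∈ M4, ∀ v ∈ XS T, g.val *ᵥ v ∈ XS T := by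
  intro g hg
  exact closed_of_chk SG hgenS chk_Cl g (M4_le_closure hg)

/-! ## The isotropic vectors -/

theorem cls3_of (x : ℕ) (h0 : vecOf x ≠ 0) (h3 : ∑ z, (vecOf x z) ^ 3 = 0) : cls3 x = true := by
  unfold cls3
  rw [band_eq_true]
  refine ⟨(sum_cube x).1 h3, ?_⟩
  cases h : Nat.beq x 0
  · rfl
  · exfalso
    apply h0
    rw [Nat.eq_of_beq_eq_true h, vecOf_zero]

theorem inv_mulVec_cancel (g : GL9) (v : F9 → F4) : (g⁻¹ : GL9).val *ᵥ (g.val *ᵥ v) = v := by
  rw [Matrix.mulVec_mulVec]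
  have : (g⁻¹ : GL9).val * g.val = 1 := by
    rw [← Units.val_mul, inv_mul_cancel]; rfl
  rw [this, Matrix.one_mulVec]

/-- the group is transitive on the isotropic vectors that are not zero -/
theorem iso_transitive (v w : F9 → F4) (hv : v ≠ 0) (hw : w ≠ 0)
    (hv3 : ∑ z, (v z) ^ 3 = 0) (hw3 : ∑ z, (w z) ^ 3 = 0) : ∃ g ∈ M4, g.val *ᵥ v = w := by
  obtain ⟨x, hx, rfl⟩ := exists_code v
  obtain ⟨y, hy, rfl⟩ := exists_code w
  obtain ⟨g1, hg1, e1⟩ := reach3 x hx (cls3_of x hv hv3)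
  obtain ⟨g2, hg2, e2⟩ := reach3 y hy (cls3_of y hw hw3)
  refine ⟨g2 * g1⁻¹, M4.mul_mem hg2 (M4.inv_mem hg1), ?_⟩
  rw [Units.val_mul, ← Matrix.mulVec_mulVec, ← e1, inv_mulVec_cancel, e2]

/-! ## The lines of the first orbit -/

/-- the representatives of the lines of the first orbit -/
noncomputable def NF : Finset ℕ := (Finset.range 262144).filter (fun x => inN T x = true)

theorem card_NF : NF.card = 23256 := by
  unfold NF
  rw [card_filter_eq_cntB, cnt_all]

theorem mem_NF {x : ℕ} : x ∈ NF ↔ x < 262144 ∧ inN T x = true := by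
  unfold NF
  rw [Finset.mem_filter, Finset.mem_range]

theorem inX_of_inN {x : ℕ} (h : inN T x = true) : inX T x = true := by
  unfold inN at h
  rw [band_eq_true] at h
  exact h.1

/-- the product by the scalar -/
noncomputable def zmul (x : ℕ) : ℕ := actG GC 5 x

theorem zmul_lt (x : ℕ) : zmul x < 262144 :=
  show actC (genC GC 5) 18 x < 262144 from actC_lt _ _ _

theorem vecOf_zmul (x : ℕ) : vecOf (zmul x) = F4.w • vecOf x := by
  have h := vecOf_actC gZ _ glCoe_gZ' x
  rw [gZ_val, Matrix.smul_mulVec, Matrix.one_mulVec] at h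
  exact h

theorem rep_cases (x : ℕ) (hx : x < 262144) (hX : inX T x = true) :
    (inN T x = true ∨ inN T (zmul x) = true ∨ inN T (zmul (zmul x)) = true) ∧
      (inN T x = true → inN T (zmul x) = false ∧ inN T (zmul (zmul x)) = false) := by
  have h := chk_Rep x hx
  unfold chkRep at h
  rw [hX] at h
  have h' : band
      (bor (inN T x) (bor (inN T (actG GC 5 x)) (inN T (actG GC 5 (actG GC 5 x)))))
      (Bool.rec true
        (band (bnot (inN T (actG GC 5 x))) (bnot (inN T (actG GC 5 (actG GC 5 x)))))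
        (inN T x)) = true := h
  rw [band_eq_true] at h'
  obtain ⟨ha, hb⟩ := h'
  simp only [bor_eq_true] at ha
  refine ⟨ha, ?_⟩
  intro hN
  rw [hN] at hb
  have hb' : band (bnot (inN T (actG GC 5 x))) (bnot (inN T (actG GC 5 (actG GC 5 x)))) = true := hb
  simp only [band_eq_true, bnot_eq_true] at hb'
  exact hb'

theorem w_cube : (F4.w : F4) * F4.w * F4.w = 1 := by decide

theorem hroot : inX T 1 = true := by decide +kernel

theorem root_mem : vecOf 1 ∈ XS T := ⟨1, by norm_num, hroot, rfl⟩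

/-- every image of the first basis vector is on the line of a representative -/
theorem line_rep (g : GL9) (hg : g ∈ M4) :
    ∃ x ∈ NF, ∃ c : F4, c ≠ 0 ∧ g.val *ᵥ (Pi.single (0 : F9) (1 : F4)) = c • vecOf x := by
  rw [← vecOf_one]
  obtain ⟨y, hy, hyX, hyv⟩ := closed1 g hg _ root_mem
  rw [← hyv]
  rcases (rep_cases y hy hyX).1 with h | h | h
  · exact ⟨y, mem_NF.2 ⟨hy, h⟩, 1, one_ne_zero, (one_smul _ _).symm⟩
  · refine ⟨zmul y, mem_NF.2 ⟨zmul_lt y, h⟩, F4.w * F4.w, by decide, ?_⟩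
    rw [vecOf_zmul, smul_smul, w_cube, one_smul]
  · refine ⟨zmul (zmul y), mem_NF.2 ⟨zmul_lt _, h⟩, F4.w, by decide, ?_⟩
    rw [vecOf_zmul, vecOf_zmul, smul_smul, smul_smul, w_cube, one_smul]

/-- every representative is an image of the first basis vector -/
theorem rep_reach (x : ℕ) (hx : x ∈ NF) :
    ∃ g ∈ M4, g.val *ᵥ (Pi.single (0 : F9) (1 : F4)) = vecOf x := by
  rw [← vecOf_one]
  obtain ⟨h1, h2⟩ := mem_NF.1 hx
  exact reach1 x h1 (inX_of_inN h2)

theorem F4_cases : ∀ c : F4, c ≠ 0 → c = 1 ∨ c = F4.w ∨ c = F4.w * F4.w := by decide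

/-- two representatives are not on the same line -/
theorem rep_inj (x y : ℕ) (hx : x ∈ NF) (hy : y ∈ NF) (c : F4) (hc : c ≠ 0)
    (h : vecOf y = c • vecOf x) : x = y := by
  obtain ⟨hx1, hx2⟩ := mem_NF.1 hx
  obtain ⟨hy1, hy2⟩ := mem_NF.1 hy
  have hr := (rep_cases x hx1 (inX_of_inN hx2)).2 hx2
  rcases F4_cases c hc with rfl | rfl | rfl
  · rw [one_smul] at h
    exact (vecOf_inj hy1 hx1 h).symm
  · rw [← vecOf_zmul] at h
    have := vecOf_inj hy1 (zmul_lt x) h
    rw [this, hr.1] at hy2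
    exact absurd hy2 (by simp)
  · rw [← smul_smul, ← vecOf_zmul, ← vecOf_zmul] at h
    have := vecOf_inj hy1 (zmul_lt _) h
    rw [this, hr.2] at hy2
    exact absurd hy2 (by simp)

end Cfsg.Agent.Lib.Helper6.J3Orb
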