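import Cfsg.Agent.Lib.Helper6.Spor.J3Ord
import Cfsg.Agent.Lib.Helper6.Simp3
import Cfsg.Agent.Lib.Helper6.Simp4
import Cfsg.Agent.Lib.Helper6.TCD.J3X.All
import Cfsg.Agent.Lib.Helper6.TCD.J3C.Idx

set_option autoImplicit false

namespace Cfsg.Agent.Lib.Helper6.J3Simple

open Cfsg.Agent.Lib.Helper6.TC Cfsg.Agent.Lib.Helper6.TCD Cfsg.Agent.Lib.Helper6.Simp
open Cfsg.Agent.Lib.Helper6.TCP.J3 Cfsg.Agent.Lib.Helper6.TCD.J3a Cfsg.Agent.Lib.Helper6.TCD.J3X
open Cfsg.Agent.Lib.Helper6

/-! # The presented group `J3` is simple -/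

section helpers
set_option maxRecDepth 100000
set_option linter.unusedSimpArgs false

/-- an element of order 19 -/
def wx : List ℕ := [0, 1]

theorem hQX : ∀ q < 6156, QX q = wapp px wx q := by
  intro q hq
  have e : wapp px wx q = XW q := by
    simp only [wx, wapp_cons, wapp_nil, J3Idx.px_c0, J3Idx.px_c1, J3Idx.px_c2, J3Idx.px_c3, J3Idx.px_c4]
    rfl
  rw [e]
  exact chkEqF_spec chkQX0 q (by omega) (by omega)

theorem hXP : ∀ q < 6156, wapp px (List.replicate 19 wx).flatten q = q := by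
  intro q hq
  rw [wapp_pow J3Idx.hP (by decide) hQX 19 q hq]
  have e : QX^[19] q = XP q := by
    unfold XP
    simp only [Function.iterate_succ_apply, Function.iterate_zero_apply]
  rw [e]
  exact chkFix_spec chkXP0 q (by omega) (by omega)

theorem hmove : wapp px wx 0 ≠ 0 := by decide +kernel

/-- the sizes of the orbits -/
def sz : Fin 7 → ℕ := ![85, 120, 510, 680, 1360, 1360, 2040]

theorem hdvd : ∀ T : Finset (Fin 7), (1 + ∑ i ∈ T, sz i) ∣ 6156 → T = ∅ ∨ T = Finset.univ := by
  decide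

theorem hpair : ∀ i j : Fin 7, i ≠ j → sz i ≠ sz j ∨ (i = 4 ∧ j = 5) ∨ (i = 5 ∧ j = 4) := by
  decide

/-- the presentation with the element `x` killed is trivial -/
theorem htriv : Finite (WG 5 J3C.base) ∧ Nat.card (WG 5 J3C.base) ≤ 1 :=
  wp_bottom J3C.idx

theorem hCbase : ∀ b ∈ J3C.base, b ∈ base ∨ b = wx := by
  decide +kernel

end helpers

/-- the presented group is simple of order 50232960 -/
theorem simple : IsSimpleGroup G ∧ Nat.card G = 50232960 := by
  obtain ⟨φ, hw, ⟨F, hF⟩, _, hinj, hcard, hfin⟩ := J3Ord.rep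
  refine ⟨?_, hcard⟩
  have hnt : Nontrivial G := by
    rw [← Finite.one_lt_card_iff_nontrivial, hcard]
    norm_num
  obtain ⟨hidx, q1, q2, q3, q4, q5, q6, q7, h1, h2, h3, h4, h5, h6, h7, d5_6⟩ := J3Idx.orbits_thm
  have hsz : ∀ i, (MulAction.orbit (subH Rels J3Idx.S) (![q1, q2, q3, q4, q5, q6, q7] i)).ncard = sz i := by
    intro i
    fin_cases i
    · exact h1
    · exact h2
    · exact h3
    · exact h4
    · exact h5
    · exact h6
    · exact h7
  have hmax := coatom_of_orbits (subH Rels J3Idx.S) hidx ![q1, q2, q3, q4, q5, q6, q7] sz hsz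
    (by
      intro i j hij heq
      rcases hpair i j hij with hc | hc | hc
      · exact hc (by rw [← hsz i, ← hsz j, heq])
      · obtain ⟨rfl, rfl⟩ := hc
        exact d5_6 heq
      · obtain ⟨rfl, rfl⟩ := hc
        exact d5_6 heq.symm
      )
    (by decide) (by decide) hdvd
  have : Fact (Nat.Prime 19) := ⟨by norm_num⟩
  refine simple_of_max' (subH Rels J3Idx.S) hmax (core_eq_bot hinj F hF) (p := 19) (k := 1)
    (by rw [hidx]; norm_num) (by rw [hcard]; norm_num)
    (x := PresentedGroup.mk Rels (wordElt gc wx))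
    (orderOf_word hinj hw (by decide) hXP (q0 := 0) (by decide) hmove) ?_
  intro K hK hxK
  refine eq_top_of_trivial_wp htriv hgen J3C.hbl ?_
  intro b hb
  rcases hCbase b hb with h | h
  · rw [hbase b h]
    exact K.one_mem
  · rw [h]
    exact hxK

end Cfsg.Agent.Lib.Helper6.J3Simple
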