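import Cfsg.Agent.Lib.Helper6.WP3
import Cfsg.Agent.Lib.Helper6.Spor.J3Idx
import Cfsg.Agent.Lib.Helper6.TCD.J3HU.Idx

set_option autoImplicit false
set_option maxRecDepth 100000

namespace Cfsg.Agent.Lib.Helper6.J3UB

open Cfsg.Agent.Lib.Helper6.TC Cfsg.Agent.Lib.Helper6.TCD

/-! # The order of the group `J3` presented by words is at most 50232960 -/

theorem sub_le : Finite (WG 3 J3HU.base) ∧ Nat.card (WG 3 J3HU.base) ≤ 8160 :=
  wp_bottom J3HU.idx

theorem card_le : Finite TCP.J3.G ∧ Nat.card TCP.J3.G ≤ 50232960 := by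
  have h := wp_step (k := 5) (k' := 3) (base := TCP.J3.base) (subw := J3Idx.subw)
    (fun i => [0, 3, 4].getD i 0) J3Idx.idx_le (by decide) J3HU.hbl
    (by decide +kernel) sub_le
  exact ⟨h.1, h.2.trans (by norm_num [TCD.J3a.N])⟩

end Cfsg.Agent.Lib.Helper6.J3UB
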