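import Cfsg.Agent.Lib.Helper6.Spor.L37Simple
import Cfsg.Agent.Lib.Helper6.WP10
import Cfsg.Agent.Lib.Helper6.Simp7
import Cfsg.Agent.Lib.Helper1.MatCode3
import Cfsg.Agent.Lib.Helper1.SLCard

set_option autoImplicit false
set_option maxRecDepth 100000

namespace Cfsg.Agent.Lib.Helper6.L37Mat

open Matrix Cfsg.Agent.Lib.Helper1.MatCode Cfsg.Agent.Lib.Helper6.TC Cfsg.Agent.Lib.Helper6.Simp

/-! # The presented group `L37` is isomorphic to `PSL(3, 7)` -/

instance : Fact (Nat.Prime 7) := ⟨by norm_num⟩

/-- the codes of the matrices of the columns -/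
def codes : List ℕ := [2041694201684090732696917316957338861569, 2041694201684091941622736650111536857089, 680575118514829412743422303068311519235, 1020857485594219365513601508996666294272, 2041704586515488663006827800951641145345]

/-- the code of the identity -/
def c1 : ℕ := 340282366920938463481821351505477763073

/-- the codes of the scalar matrices of determinant 1 -/
def scals : List ℕ := [340282366920938463481821351505477763073, 680564733841876926963642703010955526146, 1361129467683753853927285406021911052292]

theorem hchk : ∀ b ∈ TCP.L37.base, evalW (mulN 3 7) codes c1 b ∈ scals := by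
  decide +kernel

/-- the special linear group -/
abbrev SL37 : Type := Matrix.SpecialLinearGroup (Fin 3) (ZMod 7)

/-- the projective special linear group -/
abbrev PSL37 : Type := Matrix.ProjectiveSpecialLinearGroup (Fin 3) (ZMod 7)

theorem hmu : ∀ a b, Canon 3 7 b → dec 3 7 (mulN 3 7 a b) = dec 3 7 a * dec 3 7 b :=
  fun a b hb => dec_mulN 3 7 (by norm_num) (by decide) (by decide) a b hb

theorem hcan : ∀ c ∈ codes, Canon 3 7 c := canon_of_all 3 7 (by decide +kernel)

theorem hc1 : Canon 3 7 c1 := canon_of_canonB 3 7 (by decide +kernel)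

theorem hone : dec 3 7 c1 = 1 := by decide +kernel

/-- the matrix of the column 0 -/
def a0 : SL37 := ⟨dec 3 7 2041694201684090732696917316957338861569, by rw [Matrix.det_fin_three]; decide +kernel⟩

/-- the matrix of the column 1 -/
def a1 : SL37 := ⟨dec 3 7 2041694201684091941622736650111536857089, by rw [Matrix.det_fin_three]; decide +kernel⟩

/-- the matrix of the column 2 -/
def a2 : SL37 := ⟨dec 3 7 680575118514829412743422303068311519235, by rw [Matrix.det_fin_three]; decide +kernel⟩

/-- the matrix of the column 3 -/
def a3 : SL37 := ⟨dec 3 7 1020857485594219365513601508996666294272, by rw [Matrix.det_fin_three]; decide +kernel⟩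

/-- the matrix of the column 4 -/
def a4 : SL37 := ⟨dec 3 7 2041704586515488663006827800951641145345, by rw [Matrix.det_fin_three]; decide +kernel⟩

/-- the matrices of the columns -/
def G : List SL37 := [a0, a1, a2, a3, a4]

/-- the matrix of an element of the special linear group -/
def slCoe : SL37 →* Matrix (Fin 3) (Fin 3) (ZMod 7) where
  toFun A := A.val
  map_one' := Matrix.SpecialLinearGroup.coe_one
  map_mul' := Matrix.SpecialLinearGroup.coe_mul

theorem hG : ∀ i, ∀ (h : i < G.length) (h' : i < codes.length), slCoe G[i] = dec 3 7 codes[i] := by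
  intro i h h'
  have h5 : i < 5 := h
  interval_cases i <;> rfl

theorem hs1 : Matrix.scalar (Fin 3) (1 : ZMod 7) = dec 3 7 340282366920938463481821351505477763073 := by decide +kernel

theorem hs2 : Matrix.scalar (Fin 3) (2 : ZMod 7) = dec 3 7 680564733841876926963642703010955526146 := by decide +kernel

theorem hs4 : Matrix.scalar (Fin 3) (4 : ZMod 7) = dec 3 7 1361129467683753853927285406021911052292 := by decide +kernel

/-- the relators are central -/
theorem word_center (b : List ℕ) (hb : b ∈ TCP.L37.base) :
    wordProd G b ∈ Subgroup.center SL37 := by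
  have h1 : slCoe (wordProd G b) = dec 3 7 (evalW (mulN 3 7) codes c1 b) :=
    dec_evalW (dec 3 7) (mulN 3 7) (Canon 3 7) hmu slCoe hone hc1 G codes rfl hG hcan b
  have h2 := hchk b hb
  rw [Matrix.SpecialLinearGroup.mem_center_iff]
  simp only [scals, List.mem_cons, List.not_mem_nil, or_false] at h2
  rcases h2 with h2 | h2 | h2
  · refine ⟨1, by decide, ?_⟩
    rw [hs1, ← h2, ← h1]
    rfl
  · refine ⟨2, by decide, ?_⟩
    rw [hs2, ← h2, ← h1]
    rfl
  · refine ⟨4, by decide, ?_⟩
    rw [hs4, ← h2, ← h1]
    rfl

/-- the images of the columns in the projective group -/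
noncomputable def fcol (i : ℕ) : PSL37 := QuotientGroup.mk (G.getD i 1)

theorem hrel : ∀ b ∈ TCP.L37.base, (b.map fcol).prod = 1 := by
  intro b hb
  have e : (b.map fcol).prod = QuotientGroup.mk (wordProd G b) := by
    unfold wordProd
    have : b.map fcol = (b.map (fun i => G.getD i 1)).map
        (QuotientGroup.mk' (Subgroup.center SL37)) := by
      rw [List.map_map]
      rfl
    rw [this, ← map_list_prod]
    rfl
  rw [e, QuotientGroup.eq_one_iff]
  exact word_center b hb

/-- the homomorphism from the presented group to the projective special linear group -/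
noncomputable def beta : TCP.L37.G →* PSL37 := wgHom fcol TCP.L37.hbl hrel

theorem card_PSL37 : Nat.card PSL37 = 1876896 := by
  have h := Cfsg.Agent.Lib.Helper1.card_PSL_field (F := ZMod 7) 3 (by norm_num)
  rw [ZMod.card, Fin.prod_univ_three] at h
  generalize Nat.card PSL37 = x at h ⊢
  norm_num at h
  omega

theorem a3_not_center : a3 ∉ Subgroup.center SL37 := by
  rw [Matrix.SpecialLinearGroup.mem_center_iff]
  rintro ⟨r, _, hr⟩
  have h01 := congrFun (congrFun hr 0) 1
  have e1 : Matrix.scalar (Fin 3) r 0 1 = 0 := by
    rw [Matrix.scalar_apply, Matrix.diagonal_apply_ne _ (by decide)]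
  have e2 : (a3 : Matrix (Fin 3) (Fin 3) (ZMod 7)) 0 1 ≠ 0 := by decide +kernel
  exact e2 (by rw [← h01, e1])

theorem beta_bijective : Function.Bijective beta := by
  have hinj : Function.Injective beta := by
    refine injective_of_simple beta L37Simple.simple.1
      (x := PresentedGroup.mk (wrels 5 TCP.L37.base) (FreeGroup.of ⟨3, by decide⟩)) ?_
    unfold beta
    rw [wgHom_of]
    show (QuotientGroup.mk a3 : PSL37) ≠ 1
    rw [Ne, QuotientGroup.eq_one_iff]
    exact a3_not_center
  have hfin : Finite TCP.L37.G := Nat.finite_of_card_ne_zero (by rw [L37Simple.simple.2]; norm_num)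
  have hfin2 : Finite PSL37 := Nat.finite_of_card_ne_zero (by rw [card_PSL37]; norm_num)
  rw [Nat.bijective_iff_injective_and_card]
  exact ⟨hinj, by rw [L37Simple.simple.2, card_PSL37]⟩

/-- the presented group is the projective special linear group -/
noncomputable def iso : TCP.L37.G ≃* PSL37 := MulEquiv.ofBijective beta beta_bijective

end Cfsg.Agent.Lib.Helper6.L37Mat
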