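import Cfsg.Agent.Lib.Helper6.Spor.M11Ord
import Cfsg.Agent.Lib.Helper6.Simp3
import Cfsg.Agent.Lib.Helper6.Simp4
import Cfsg.Agent.Lib.Helper6.TCD.M11X.All
import Cfsg.Agent.Lib.Helper6.TCD.M11C.Idx

set_option autoImplicit false

namespace Cfsg.Agent.Lib.Helper6.M11Simple

open Cfsg.Agent.Lib.Helper6.TC Cfsg.Agent.Lib.Helper6.TCD Cfsg.Agent.Lib.Helper6.Simp
open Cfsg.Agent.Lib.Helper6.TCP.M11 Cfsg.Agent.Lib.Helper6.TCD.M11a Cfsg.Agent.Lib.Helper6.TCD.M11X
open Cfsg.Agent.Lib.Helper6

/-! # The presented group `M11` is simple -/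

section helpers
set_option maxRecDepth 100000
set_option linter.unusedSimpArgs false

/-- an element of order 11 -/
def wx : List ℕ := [0, 1]

theorem hQX : ∀ q < 11, QX q = wapp px wx q := by
  intro q hq
  have e : wapp px wx q = XW q := by
    simp only [wx, wapp_cons, wapp_nil, M11Idx.px_c0, M11Idx.px_c1, M11Idx.px_c2, M11Idx.px_c3, M11Idx.px_c4]
    rfl
  rw [e]
  exact chkEqF_spec chkQX0 q (by omega) (by omega)

theorem hXP : ∀ q < 11, wapp px (List.replicate 11 wx).flatten q = q := by
  intro q hq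
  rw [wapp_pow M11Idx.hP (by decide) hQX 11 q hq]
  have e : QX^[11] q = XP q := by
    unfold XP
    simp only [Function.iterate_succ_apply, Function.iterate_zero_apply]
  rw [e]
  exact chkFix_spec chkXP0 q (by omega) (by omega)

theorem hmove : wapp px wx 0 ≠ 0 := by decide +kernel

/-- the sizes of the orbits -/
def sz : Fin 1 → ℕ := ![10]

theorem hdvd : ∀ T : Finset (Fin 1), (1 + ∑ i ∈ T, sz i) ∣ 11 → T = ∅ ∨ T = Finset.univ := by
  decide

theorem hpair : ∀ i j : Fin 1, i ≠ j → sz i ≠ sz j := by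
  decide

/-- the presentation with the element `x` killed is trivial -/
theorem htriv : Finite (WG 5 M11C.base) ∧ Nat.card (WG 5 M11C.base) ≤ 1 :=
  wp_bottom M11C.idx

theorem hCbase : ∀ b ∈ M11C.base, b ∈ base ∨ b = wx := by
  decide +kernel

end helpers

/-- the presented group is simple of order 7920 -/
theorem simple : IsSimpleGroup G ∧ Nat.card G = 7920 := by
  obtain ⟨φ, hw, ⟨F, hF⟩, _, hinj, hcard, hfin⟩ := M11Ord.rep
  refine ⟨?_, hcard⟩
  have hnt : Nontrivial G := by
    rw [← Finite.one_lt_card_iff_nontrivial, hcard]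
    norm_num
  obtain ⟨hidx, q1, h1⟩ := M11Idx.orbits_thm
  have hsz : ∀ i, (MulAction.orbit (subH Rels M11Idx.S) (![q1] i)).ncard = sz i := by
    intro i
    fin_cases i
    · exact h1
  have hmax := coatom_of_orbits (subH Rels M11Idx.S) hidx ![q1] sz hsz
    (by
      intro i j hij heq
      have hc : sz i = sz j := by rw [← hsz i, ← hsz j, heq]
      exact hpair i j hij hc)
    (by decide) (by decide) hdvd
  have : Fact (Nat.Prime 11) := ⟨by norm_num⟩
  refine simple_of_max' (subH Rels M11Idx.S) hmax (core_eq_bot hinj F hF) (p := 11) (k := 1)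
    (by rw [hidx]; norm_num) (by rw [hcard]; norm_num)
    (x := PresentedGroup.mk Rels (wordElt gc wx))
    (orderOf_word hinj hw (by decide) hXP (q0 := 0) (by decide) hmove) ?_
  intro K hK hxK
  refine eq_top_of_trivial_wp htriv hgen M11C.hbl ?_
  intro b hb
  rcases hCbase b hb with h | h
  · rw [hbase b h]
    exact K.one_mem
  · rw [h]
    exact hxK

end Cfsg.Agent.Lib.Helper6.M11Simple
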