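import Cfsg.Agent.Lib.Helper6.WP3
import Cfsg.Agent.Lib.Helper6.Spor.M11Idx
import Cfsg.Agent.Lib.Helper6.TCD.M11HU.Idx

set_option autoImplicit false
set_option maxRecDepth 100000

namespace Cfsg.Agent.Lib.Helper6.M11UB

open Cfsg.Agent.Lib.Helper6.TC Cfsg.Agent.Lib.Helper6.TCD

/-! # The order of the group `M11` presented by words is at most 7920 -/

theorem sub_le : Finite (WG 4 M11HU.base) ∧ Nat.card (WG 4 M11HU.base) ≤ 720 :=
  wp_bottom M11HU.idx

theorem card_le : Finite TCP.M11.G ∧ Nat.card TCP.M11.G ≤ 7920 := by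
  have h := wp_step (k := 5) (k' := 4) (base := TCP.M11.base) (subw := M11Idx.subw)
    (fun i => [1, 2, 3, 4].getD i 0) M11Idx.idx_le (by decide) M11HU.hbl
    (by decide +kernel) sub_le
  exact ⟨h.1, h.2.trans (by norm_num [TCD.M11a.N])⟩

end Cfsg.Agent.Lib.Helper6.M11UB
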