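import Mathlib
import Cfsg.Agent.Lib.Helper6.TCP.O733
import Cfsg.Agent.Lib.Helper6.TC11
import Cfsg.Agent.Lib.Helper6.TCD.O733a.All

set_option autoImplicit false

namespace Cfsg.Agent.Lib.Helper6.O733Rep
open Cfsg.Agent.Lib.Helper6.TC Cfsg.Agent.Lib.Helper6.TCP.O733 Cfsg.Agent.Lib.Helper6.TCD.O733a

/-! # The relators of the central extension hold on a set of 1134 points -/

set_option maxRecDepth 100000
set_option linter.unusedSimpArgs false

theorem hP : PHyp px N 10 Cfsg.Agent.Lib.Helper6.TCP.O733.INV where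
  Npos := by decide
  hinv1 := hinv1
  hinvinv := hinvinv
  hlt := by
    intro c hc p hp
    interval_cases c
    · exact (chkCol_spec chkP0 p hp).1
    · exact (chkCol_spec chkP1 p hp).1
    · exact (chkCol_spec chkP2 p hp).1
    · exact (chkCol_spec chkP3 p hp).1
    · exact (chkCol_spec chkP4 p hp).1
    · exact (chkCol_spec chkP5 p hp).1
    · exact (chkCol_spec chkP6 p hp).1
    · exact (chkCol_spec chkP7 p hp).1
    · exact (chkCol_spec chkP8 p hp).1
    · exact (chkCol_spec chkP9 p hp).1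
  hpx := by
    intro c hc p hp
    interval_cases c
    · exact (chkCol_spec chkP0 p hp).2
    · exact (chkCol_spec chkP1 p hp).2
    · exact (chkCol_spec chkP2 p hp).2
    · exact (chkCol_spec chkP3 p hp).2
    · exact (chkCol_spec chkP4 p hp).2
    · exact (chkCol_spec chkP5 p hp).2
    · exact (chkCol_spec chkP6 p hp).2
    · exact (chkCol_spec chkP7 p hp).2
    · exact (chkCol_spec chkP8 p hp).2
    · exact (chkCol_spec chkP9 p hp).2

theorem px_c0 (p : ℕ) : px 0 p = P0 p := rfl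
theorem px_c1 (p : ℕ) : px 1 p = P1 p := rfl
theorem px_c2 (p : ℕ) : px 2 p = P2 p := rfl
theorem px_c3 (p : ℕ) : px 3 p = P3 p := rfl
theorem px_c4 (p : ℕ) : px 4 p = P4 p := rfl
theorem px_c5 (p : ℕ) : px 5 p = P5 p := rfl
theorem px_c6 (p : ℕ) : px 6 p = P6 p := rfl
theorem px_c7 (p : ℕ) : px 7 p = P7 p := rfl
theorem px_c8 (p : ℕ) : px 8 p = P8 p := rfl
theorem px_c9 (p : ℕ) : px 9 p = P9 p := rfl

theorem hfixk_0 : ∀ p < N, P0 (P0 p) = p := fun p hp => (chkCol_spec chkP0 p hp).2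

theorem hfixw_0 (p : ℕ) : wapp px (base.getD 0 []) p = P0 (P0 p) := by
  show wapp px [0, 0] p = _
  simp only [wapp_cons, wapp_nil, px_c0, px_c1, px_c2, px_c3, px_c4, px_c5, px_c6, px_c7, px_c8, px_c9]

theorem hfixk_1 : ∀ p < N, P1 (P1 p) = p := fun p hp => (chkCol_spec chkP1 p hp).2

theorem hfixw_1 (p : ℕ) : wapp px (base.getD 1 []) p = P1 (P1 p) := by
  show wapp px [1, 1] p = _
  simp only [wapp_cons, wapp_nil, px_c0, px_c1, px_c2, px_c3, px_c4, px_c5, px_c6, px_c7, px_c8, px_c9]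

theorem hfixk_2 : ∀ p < N, P2 (P2 p) = p := fun p hp => (chkCol_spec chkP2 p hp).2

theorem hfixw_2 (p : ℕ) : wapp px (base.getD 2 []) p = P2 (P2 p) := by
  show wapp px [2, 2] p = _
  simp only [wapp_cons, wapp_nil, px_c0, px_c1, px_c2, px_c3, px_c4, px_c5, px_c6, px_c7, px_c8, px_c9]

theorem hfixk_3 : ∀ p < N, P3 (P3 p) = p := fun p hp => (chkCol_spec chkP3 p hp).2

theorem hfixw_3 (p : ℕ) : wapp px (base.getD 3 []) p = P3 (P3 p) := by
  show wapp px [3, 3] p = _
  simp only [wapp_cons, wapp_nil, px_c0, px_c1, px_c2, px_c3, px_c4, px_c5, px_c6, px_c7, px_c8, px_c9]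

theorem hfixk_4 : ∀ p < N, P4 (P4 p) = p := fun p hp => (chkCol_spec chkP4 p hp).2

theorem hfixw_4 (p : ℕ) : wapp px (base.getD 4 []) p = P4 (P4 p) := by
  show wapp px [4, 4] p = _
  simp only [wapp_cons, wapp_nil, px_c0, px_c1, px_c2, px_c3, px_c4, px_c5, px_c6, px_c7, px_c8, px_c9]

theorem hfixk_5 : ∀ p < N, P5 (P5 p) = p := fun p hp => (chkCol_spec chkP5 p hp).2

theorem hfixw_5 (p : ℕ) : wapp px (base.getD 5 []) p = P5 (P5 p) := by
  show wapp px [5, 5] p = _
  simp only [wapp_cons, wapp_nil, px_c0, px_c1, px_c2, px_c3, px_c4, px_c5, px_c6, px_c7, px_c8, px_c9]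

theorem hfixk_6 : ∀ p < N, P6 (P6 p) = p := fun p hp => (chkCol_spec chkP6 p hp).2

theorem hfixw_6 (p : ℕ) : wapp px (base.getD 6 []) p = P6 (P6 p) := by
  show wapp px [6, 6] p = _
  simp only [wapp_cons, wapp_nil, px_c0, px_c1, px_c2, px_c3, px_c4, px_c5, px_c6, px_c7, px_c8, px_c9]

theorem hfixk_7 : ∀ p < N, P7 (P7 p) = p := fun p hp => (chkCol_spec chkP7 p hp).2

theorem hfixw_7 (p : ℕ) : wapp px (base.getD 7 []) p = P7 (P7 p) := by
  show wapp px [7, 7] p = _
  simp only [wapp_cons, wapp_nil, px_c0, px_c1, px_c2, px_c3, px_c4, px_c5, px_c6, px_c7, px_c8, px_c9]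

theorem hfixk_8 : ∀ p < N, P9 (P8 p) = p := fun p hp => (chkCol_spec chkP8 p hp).2

theorem hfixw_8 (p : ℕ) : wapp px (base.getD 8 []) p = P9 (P8 p) := by
  show wapp px [8, 9] p = _
  simp only [wapp_cons, wapp_nil, px_c0, px_c1, px_c2, px_c3, px_c4, px_c5, px_c6, px_c7, px_c8, px_c9]

theorem hfixk_9 : ∀ p < N, R9 p = p := by
  intro p hp
  have hp' : p < 1134 := hp
  exact chkFix_spec chkR9_0 p (by omega) (by omega)

theorem hfixw_9 (p : ℕ) : wapp px (base.getD 9 []) p = R9 p := by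
  show wapp px [8, 8, 8] p = _
  simp only [wapp_cons, wapp_nil, px_c0, px_c1, px_c2, px_c3, px_c4, px_c5, px_c6, px_c7, px_c8, px_c9]
  rfl

theorem hfixk_10 : ∀ p < N, R10 p = p := by
  intro p hp
  have hp' : p < 1134 := hp
  exact chkFix_spec chkR10_0 p (by omega) (by omega)

theorem hfixw_10 (p : ℕ) : wapp px (base.getD 10 []) p = R10 p := by
  show wapp px [0, 8, 0, 9] p = _
  simp only [wapp_cons, wapp_nil, px_c0, px_c1, px_c2, px_c3, px_c4, px_c5, px_c6, px_c7, px_c8, px_c9]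
  rfl

theorem hfixk_11 : ∀ p < N, R11 p = p := by
  intro p hp
  have hp' : p < 1134 := hp
  exact chkFix_spec chkR11_0 p (by omega) (by omega)

theorem hfixw_11 (p : ℕ) : wapp px (base.getD 11 []) p = R11 p := by
  show wapp px [1, 8, 1, 9] p = _
  simp only [wapp_cons, wapp_nil, px_c0, px_c1, px_c2, px_c3, px_c4, px_c5, px_c6, px_c7, px_c8, px_c9]
  rfl

theorem hfixk_12 : ∀ p < N, R12 p = p := by
  intro p hp
  have hp' : p < 1134 := hp
  exact chkFix_spec chkR12_0 p (by omega) (by omega)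

theorem hfixw_12 (p : ℕ) : wapp px (base.getD 12 []) p = R12 p := by
  show wapp px [2, 8, 2, 9] p = _
  simp only [wapp_cons, wapp_nil, px_c0, px_c1, px_c2, px_c3, px_c4, px_c5, px_c6, px_c7, px_c8, px_c9]
  rfl

theorem hfixk_13 : ∀ p < N, R13 p = p := by
  intro p hp
  have hp' : p < 1134 := hp
  exact chkFix_spec chkR13_0 p (by omega) (by omega)

theorem hfixw_13 (p : ℕ) : wapp px (base.getD 13 []) p = R13 p := by
  show wapp px [3, 8, 3, 9] p = _
  simp only [wapp_cons, wapp_nil, px_c0, px_c1, px_c2, px_c3, px_c4, px_c5, px_c6, px_c7, px_c8, px_c9]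
  rfl

theorem hfixk_14 : ∀ p < N, R14 p = p := by
  intro p hp
  have hp' : p < 1134 := hp
  exact chkFix_spec chkR14_0 p (by omega) (by omega)

theorem hfixw_14 (p : ℕ) : wapp px (base.getD 14 []) p = R14 p := by
  show wapp px [4, 8, 4, 9] p = _
  simp only [wapp_cons, wapp_nil, px_c0, px_c1, px_c2, px_c3, px_c4, px_c5, px_c6, px_c7, px_c8, px_c9]
  rfl

theorem hfixk_15 : ∀ p < N, R15 p = p := by
  intro p hp
  have hp' : p < 1134 := hp
  exact chkFix_spec chkR15_0 p (by omega) (by omega)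

theorem hfixw_15 (p : ℕ) : wapp px (base.getD 15 []) p = R15 p := by
  show wapp px [5, 8, 5, 9] p = _
  simp only [wapp_cons, wapp_nil, px_c0, px_c1, px_c2, px_c3, px_c4, px_c5, px_c6, px_c7, px_c8, px_c9]
  rfl

theorem hfixk_16 : ∀ p < N, R16 p = p := by
  intro p hp
  have hp' : p < 1134 := hp
  exact chkFix_spec chkR16_0 p (by omega) (by omega)

theorem hfixw_16 (p : ℕ) : wapp px (base.getD 16 []) p = R16 p := by
  show wapp px [6, 8, 6, 9] p = _
  simp only [wapp_cons, wapp_nil, px_c0, px_c1, px_c2, px_c3, px_c4, px_c5, px_c6, px_c7, px_c8, px_c9]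
  rfl

theorem hfixk_17 : ∀ p < N, R17 p = p := by
  intro p hp
  have hp' : p < 1134 := hp
  exact chkFix_spec chkR17_0 p (by omega) (by omega)

theorem hfixw_17 (p : ℕ) : wapp px (base.getD 17 []) p = R17 p := by
  show wapp px [7, 8, 7, 9] p = _
  simp only [wapp_cons, wapp_nil, px_c0, px_c1, px_c2, px_c3, px_c4, px_c5, px_c6, px_c7, px_c8, px_c9]
  rfl

theorem hfixk_18 : ∀ p < N, R18 p = p := by
  intro p hp
  have hp' : p < 1134 := hp
  exact chkFix_spec chkR18_0 p (by omega) (by omega)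

theorem hfixw_18 (p : ℕ) : wapp px (base.getD 18 []) p = R18 p := by
  show wapp px [0, 1, 0, 1, 0, 1] p = _
  simp only [wapp_cons, wapp_nil, px_c0, px_c1, px_c2, px_c3, px_c4, px_c5, px_c6, px_c7, px_c8, px_c9]
  rfl

theorem hfixk_19 : ∀ p < N, R19 p = p := by
  intro p hp
  have hp' : p < 1134 := hp
  exact chkFix_spec chkR19_0 p (by omega) (by omega)

theorem hfixw_19 (p : ℕ) : wapp px (base.getD 19 []) p = R19 p := by
  show wapp px [0, 2, 0, 2] p = _
  simp only [wapp_cons, wapp_nil, px_c0, px_c1, px_c2, px_c3, px_c4, px_c5, px_c6, px_c7, px_c8, px_c9]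
  rfl

theorem hfixk_20 : ∀ p < N, R20 p = p := by
  intro p hp
  have hp' : p < 1134 := hp
  exact chkFix_spec chkR20_0 p (by omega) (by omega)

theorem hfixw_20 (p : ℕ) : wapp px (base.getD 20 []) p = R20 p := by
  show wapp px [0, 3, 0, 3] p = _
  simp only [wapp_cons, wapp_nil, px_c0, px_c1, px_c2, px_c3, px_c4, px_c5, px_c6, px_c7, px_c8, px_c9]
  rfl

theorem hfixk_21 : ∀ p < N, R21 p = p := by
  intro p hp
  have hp' : p < 1134 := hp
  exact chkFix_spec chkR21_0 p (by omega) (by omega)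

theorem hfixw_21 (p : ℕ) : wapp px (base.getD 21 []) p = R21 p := by
  show wapp px [0, 4, 0, 4] p = _
  simp only [wapp_cons, wapp_nil, px_c0, px_c1, px_c2, px_c3, px_c4, px_c5, px_c6, px_c7, px_c8, px_c9]
  rfl

theorem hfixk_22 : ∀ p < N, R22 p = p := by
  intro p hp
  have hp' : p < 1134 := hp
  exact chkFix_spec chkR22_0 p (by omega) (by omega)

theorem hfixw_22 (p : ℕ) : wapp px (base.getD 22 []) p = R22 p := by
  show wapp px [0, 5, 0, 5] p = _
  simp only [wapp_cons, wapp_nil, px_c0, px_c1, px_c2, px_c3, px_c4, px_c5, px_c6, px_c7, px_c8, px_c9]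
  rfl

theorem hfixk_23 : ∀ p < N, R23 p = p := by
  intro p hp
  have hp' : p < 1134 := hp
  exact chkFix_spec chkR23_0 p (by omega) (by omega)

theorem hfixw_23 (p : ℕ) : wapp px (base.getD 23 []) p = R23 p := by
  show wapp px [0, 6, 0, 6] p = _
  simp only [wapp_cons, wapp_nil, px_c0, px_c1, px_c2, px_c3, px_c4, px_c5, px_c6, px_c7, px_c8, px_c9]
  rfl

theorem hfixk_24 : ∀ p < N, R24 p = p := by
  intro p hp
  have hp' : p < 1134 := hp
  exact chkFix_spec chkR24_0 p (by omega) (by omega)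

theorem hfixw_24 (p : ℕ) : wapp px (base.getD 24 []) p = R24 p := by
  show wapp px [0, 7, 0, 7] p = _
  simp only [wapp_cons, wapp_nil, px_c0, px_c1, px_c2, px_c3, px_c4, px_c5, px_c6, px_c7, px_c8, px_c9]
  rfl

theorem hfixk_25 : ∀ p < N, R25 p = p := by
  intro p hp
  have hp' : p < 1134 := hp
  exact chkFix_spec chkR25_0 p (by omega) (by omega)

theorem hfixw_25 (p : ℕ) : wapp px (base.getD 25 []) p = R25 p := by
  show wapp px [1, 2, 1, 2, 1, 2] p = _
  simp only [wapp_cons, wapp_nil, px_c0, px_c1, px_c2, px_c3, px_c4, px_c5, px_c6, px_c7, px_c8, px_c9]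
  rfl

theorem hfixk_26 : ∀ p < N, R26 p = p := by
  intro p hp
  have hp' : p < 1134 := hp
  exact chkFix_spec chkR26_0 p (by omega) (by omega)

theorem hfixw_26 (p : ℕ) : wapp px (base.getD 26 []) p = R26 p := by
  show wapp px [1, 3, 1, 3] p = _
  simp only [wapp_cons, wapp_nil, px_c0, px_c1, px_c2, px_c3, px_c4, px_c5, px_c6, px_c7, px_c8, px_c9]
  rfl

theorem hfixk_27 : ∀ p < N, R27 p = p := by
  intro p hp
  have hp' : p < 1134 := hp
  exact chkFix_spec chkR27_0 p (by omega) (by omega)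

theorem hfixw_27 (p : ℕ) : wapp px (base.getD 27 []) p = R27 p := by
  show wapp px [1, 4, 1, 4] p = _
  simp only [wapp_cons, wapp_nil, px_c0, px_c1, px_c2, px_c3, px_c4, px_c5, px_c6, px_c7, px_c8, px_c9]
  rfl

theorem hfixk_28 : ∀ p < N, R28 p = p := by
  intro p hp
  have hp' : p < 1134 := hp
  exact chkFix_spec chkR28_0 p (by omega) (by omega)

theorem hfixw_28 (p : ℕ) : wapp px (base.getD 28 []) p = R28 p := by
  show wapp px [1, 5, 1, 5] p = _
  simp only [wapp_cons, wapp_nil, px_c0, px_c1, px_c2, px_c3, px_c4, px_c5, px_c6, px_c7, px_c8, px_c9]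
  rfl

theorem hfixk_29 : ∀ p < N, R29 p = p := by
  intro p hp
  have hp' : p < 1134 := hp
  exact chkFix_spec chkR29_0 p (by omega) (by omega)

theorem hfixw_29 (p : ℕ) : wapp px (base.getD 29 []) p = R29 p := by
  show wapp px [1, 6, 1, 6] p = _
  simp only [wapp_cons, wapp_nil, px_c0, px_c1, px_c2, px_c3, px_c4, px_c5, px_c6, px_c7, px_c8, px_c9]
  rfl

theorem hfixk_30 : ∀ p < N, R30 p = p := by
  intro p hp
  have hp' : p < 1134 := hp
  exact chkFix_spec chkR30_0 p (by omega) (by omega)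

theorem hfixw_30 (p : ℕ) : wapp px (base.getD 30 []) p = R30 p := by
  show wapp px [1, 7, 1, 7] p = _
  simp only [wapp_cons, wapp_nil, px_c0, px_c1, px_c2, px_c3, px_c4, px_c5, px_c6, px_c7, px_c8, px_c9]
  rfl

theorem hfixk_31 : ∀ p < N, R31 p = p := by
  intro p hp
  have hp' : p < 1134 := hp
  exact chkFix_spec chkR31_0 p (by omega) (by omega)

theorem hfixw_31 (p : ℕ) : wapp px (base.getD 31 []) p = R31 p := by
  show wapp px [2, 3, 2, 3, 2, 3] p = _
  simp only [wapp_cons, wapp_nil, px_c0, px_c1, px_c2, px_c3, px_c4, px_c5, px_c6, px_c7, px_c8, px_c9]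
  rfl

theorem hfixk_32 : ∀ p < N, R32 p = p := by
  intro p hp
  have hp' : p < 1134 := hp
  exact chkFix_spec chkR32_0 p (by omega) (by omega)

theorem hfixw_32 (p : ℕ) : wapp px (base.getD 32 []) p = R32 p := by
  show wapp px [2, 4, 2, 4] p = _
  simp only [wapp_cons, wapp_nil, px_c0, px_c1, px_c2, px_c3, px_c4, px_c5, px_c6, px_c7, px_c8, px_c9]
  rfl

theorem hfixk_33 : ∀ p < N, R33 p = p := by
  intro p hp
  have hp' : p < 1134 := hp
  exact chkFix_spec chkR33_0 p (by omega) (by omega)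

theorem hfixw_33 (p : ℕ) : wapp px (base.getD 33 []) p = R33 p := by
  show wapp px [2, 5, 2, 5] p = _
  simp only [wapp_cons, wapp_nil, px_c0, px_c1, px_c2, px_c3, px_c4, px_c5, px_c6, px_c7, px_c8, px_c9]
  rfl

theorem hfixk_34 : ∀ p < N, R34 p = p := by
  intro p hp
  have hp' : p < 1134 := hp
  exact chkFix_spec chkR34_0 p (by omega) (by omega)

theorem hfixw_34 (p : ℕ) : wapp px (base.getD 34 []) p = R34 p := by
  show wapp px [2, 6, 2, 6, 2, 6] p = _
  simp only [wapp_cons, wapp_nil, px_c0, px_c1, px_c2, px_c3, px_c4, px_c5, px_c6, px_c7, px_c8, px_c9]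
  rfl

theorem hfixk_35 : ∀ p < N, R35 p = p := by
  intro p hp
  have hp' : p < 1134 := hp
  exact chkFix_spec chkR35_0 p (by omega) (by omega)

theorem hfixw_35 (p : ℕ) : wapp px (base.getD 35 []) p = R35 p := by
  show wapp px [2, 7, 2, 7] p = _
  simp only [wapp_cons, wapp_nil, px_c0, px_c1, px_c2, px_c3, px_c4, px_c5, px_c6, px_c7, px_c8, px_c9]
  rfl

theorem hfixk_36 : ∀ p < N, R36 p = p := by
  intro p hp
  have hp' : p < 1134 := hp
  exact chkFix_spec chkR36_0 p (by omega) (by omega)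

theorem hfixw_36 (p : ℕ) : wapp px (base.getD 36 []) p = R36 p := by
  show wapp px [3, 4, 3, 4, 3, 4] p = _
  simp only [wapp_cons, wapp_nil, px_c0, px_c1, px_c2, px_c3, px_c4, px_c5, px_c6, px_c7, px_c8, px_c9]
  rfl

theorem hfixk_37 : ∀ p < N, R37 p = p := by
  intro p hp
  have hp' : p < 1134 := hp
  exact chkFix_spec chkR37_0 p (by omega) (by omega)

theorem hfixw_37 (p : ℕ) : wapp px (base.getD 37 []) p = R37 p := by
  show wapp px [3, 5, 3, 5] p = _
  simp only [wapp_cons, wapp_nil, px_c0, px_c1, px_c2, px_c3, px_c4, px_c5, px_c6, px_c7, px_c8, px_c9]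
  rfl

theorem hfixk_38 : ∀ p < N, R38 p = p := by
  intro p hp
  have hp' : p < 1134 := hp
  exact chkFix_spec chkR38_0 p (by omega) (by omega)

theorem hfixw_38 (p : ℕ) : wapp px (base.getD 38 []) p = R38 p := by
  show wapp px [3, 6, 3, 6] p = _
  simp only [wapp_cons, wapp_nil, px_c0, px_c1, px_c2, px_c3, px_c4, px_c5, px_c6, px_c7, px_c8, px_c9]
  rfl

theorem hfixk_39 : ∀ p < N, R39 p = p := by
  intro p hp
  have hp' : p < 1134 := hp
  exact chkFix_spec chkR39_0 p (by omega) (by omega)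

theorem hfixw_39 (p : ℕ) : wapp px (base.getD 39 []) p = R39 p := by
  show wapp px [3, 7, 3, 7] p = _
  simp only [wapp_cons, wapp_nil, px_c0, px_c1, px_c2, px_c3, px_c4, px_c5, px_c6, px_c7, px_c8, px_c9]
  rfl

theorem hfixk_40 : ∀ p < N, R40 p = p := by
  intro p hp
  have hp' : p < 1134 := hp
  exact chkFix_spec chkR40_0 p (by omega) (by omega)

theorem hfixw_40 (p : ℕ) : wapp px (base.getD 40 []) p = R40 p := by
  show wapp px [4, 5, 4, 5, 4, 5] p = _
  simp only [wapp_cons, wapp_nil, px_c0, px_c1, px_c2, px_c3, px_c4, px_c5, px_c6, px_c7, px_c8, px_c9]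
  rfl

theorem hfixk_41 : ∀ p < N, R41 p = p := by
  intro p hp
  have hp' : p < 1134 := hp
  exact chkFix_spec chkR41_0 p (by omega) (by omega)

theorem hfixw_41 (p : ℕ) : wapp px (base.getD 41 []) p = R41 p := by
  show wapp px [4, 6, 4, 6] p = _
  simp only [wapp_cons, wapp_nil, px_c0, px_c1, px_c2, px_c3, px_c4, px_c5, px_c6, px_c7, px_c8, px_c9]
  rfl

theorem hfixk_42 : ∀ p < N, R42 p = p := by
  intro p hp
  have hp' : p < 1134 := hp
  exact chkFix_spec chkR42_0 p (by omega) (by omega)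

theorem hfixw_42 (p : ℕ) : wapp px (base.getD 42 []) p = R42 p := by
  show wapp px [4, 7, 4, 7] p = _
  simp only [wapp_cons, wapp_nil, px_c0, px_c1, px_c2, px_c3, px_c4, px_c5, px_c6, px_c7, px_c8, px_c9]
  rfl

theorem hfixk_43 : ∀ p < N, R43 p = p := by
  intro p hp
  have hp' : p < 1134 := hp
  exact chkFix_spec chkR43_0 p (by omega) (by omega)

theorem hfixw_43 (p : ℕ) : wapp px (base.getD 43 []) p = R43 p := by
  show wapp px [5, 6, 5, 6] p = _
  simp only [wapp_cons, wapp_nil, px_c0, px_c1, px_c2, px_c3, px_c4, px_c5, px_c6, px_c7, px_c8, px_c9]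
  rfl

theorem hfixk_44 : ∀ p < N, R44 p = p := by
  intro p hp
  have hp' : p < 1134 := hp
  exact chkFix_spec chkR44_0 p (by omega) (by omega)

theorem hfixw_44 (p : ℕ) : wapp px (base.getD 44 []) p = R44 p := by
  show wapp px [5, 7, 5, 7] p = _
  simp only [wapp_cons, wapp_nil, px_c0, px_c1, px_c2, px_c3, px_c4, px_c5, px_c6, px_c7, px_c8, px_c9]
  rfl

theorem hfixk_45 : ∀ p < N, R45 p = p := by
  intro p hp
  have hp' : p < 1134 := hp
  exact chkFix_spec chkR45_0 p (by omega) (by omega)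

theorem hfixw_45 (p : ℕ) : wapp px (base.getD 45 []) p = R45 p := by
  show wapp px [6, 7, 6, 7, 6, 7] p = _
  simp only [wapp_cons, wapp_nil, px_c0, px_c1, px_c2, px_c3, px_c4, px_c5, px_c6, px_c7, px_c8, px_c9]
  rfl

theorem hfixk_46 : ∀ p < N, R46 p = p := by
  intro p hp
  have hp' : p < 1134 := hp
  exact chkFix_spec chkR46_0 p (by omega) (by omega)

theorem hfixw_46 (p : ℕ) : wapp px (base.getD 46 []) p = R46 p := by
  show wapp px [2, 1, 0, 2, 3, 4, 2, 6, 7, 2, 1, 0, 2, 3, 4, 2, 6, 7, 2, 1, 0, 2, 3, 4, 2, 6, 7, 2, 1, 0, 2, 3, 4, 2, 6, 7, 2, 1, 0, 2, 3, 4, 2, 6, 7, 2, 1, 0, 2, 3, 4, 2, 6, 7, 2, 1, 0, 2, 3, 4, 2, 6, 7, 2, 1, 0, 2, 3, 4, 2, 6, 7, 2, 1, 0, 2, 3, 4, 2, 6, 7, 2, 1, 0, 2, 3, 4, 2, 6, 7, 9] p = _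
  simp only [wapp_cons, wapp_nil, px_c0, px_c1, px_c2, px_c3, px_c4, px_c5, px_c6, px_c7, px_c8, px_c9]
  rfl

theorem hfixk_47 : ∀ p < N, R47 p = p := by
  intro p hp
  have hp' : p < 1134 := hp
  exact chkFix_spec chkR47_0 p (by omega) (by omega)

theorem hfixw_47 (p : ℕ) : wapp px (base.getD 47 []) p = R47 p := by
  show wapp px [0, 1, 2, 3, 4, 5, 6, 0, 1, 2, 3, 4, 5, 6, 0, 1, 2, 3, 4, 5, 6, 0, 1, 2, 3, 4, 5, 6, 0, 1, 2, 3, 4, 5, 6, 0, 1, 2, 3, 4, 5, 6, 0, 1, 2, 3, 4, 5, 6, 0, 1, 2, 3, 4, 5, 6, 0, 1, 2, 3, 4, 5, 6] p = _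
  simp only [wapp_cons, wapp_nil, px_c0, px_c1, px_c2, px_c3, px_c4, px_c5, px_c6, px_c7, px_c8, px_c9]
  rfl

theorem hfix_k : ∀ k < 48, ∀ p < N, wapp px (base.getD k []) p = p := by
  intro k hk
  interval_cases k
  · intro p hp
    rw [hfixw_0]
    exact hfixk_0 p hp
  · intro p hp
    rw [hfixw_1]
    exact hfixk_1 p hp
  · intro p hp
    rw [hfixw_2]
    exact hfixk_2 p hp
  · intro p hp
    rw [hfixw_3]
    exact hfixk_3 p hp
  · intro p hp
    rw [hfixw_4]
    exact hfixk_4 p hp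
  · intro p hp
    rw [hfixw_5]
    exact hfixk_5 p hp
  · intro p hp
    rw [hfixw_6]
    exact hfixk_6 p hp
  · intro p hp
    rw [hfixw_7]
    exact hfixk_7 p hp
  · intro p hp
    rw [hfixw_8]
    exact hfixk_8 p hp
  · intro p hp
    rw [hfixw_9]
    exact hfixk_9 p hp
  · intro p hp
    rw [hfixw_10]
    exact hfixk_10 p hp
  · intro p hp
    rw [hfixw_11]
    exact hfixk_11 p hp
  · intro p hp
    rw [hfixw_12]
    exact hfixk_12 p hp
  · intro p hp
    rw [hfixw_13]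
    exact hfixk_13 p hp
  · intro p hp
    rw [hfixw_14]
    exact hfixk_14 p hp
  · intro p hp
    rw [hfixw_15]
    exact hfixk_15 p hp
  · intro p hp
    rw [hfixw_16]
    exact hfixk_16 p hp
  · intro p hp
    rw [hfixw_17]
    exact hfixk_17 p hp
  · intro p hp
    rw [hfixw_18]
    exact hfixk_18 p hp
  · intro p hp
    rw [hfixw_19]
    exact hfixk_19 p hp
  · intro p hp
    rw [hfixw_20]
    exact hfixk_20 p hp
  · intro p hp
    rw [hfixw_21]
    exact hfixk_21 p hp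
  · intro p hp
    rw [hfixw_22]
    exact hfixk_22 p hp
  · intro p hp
    rw [hfixw_23]
    exact hfixk_23 p hp
  · intro p hp
    rw [hfixw_24]
    exact hfixk_24 p hp
  · intro p hp
    rw [hfixw_25]
    exact hfixk_25 p hp
  · intro p hp
    rw [hfixw_26]
    exact hfixk_26 p hp
  · intro p hp
    rw [hfixw_27]
    exact hfixk_27 p hp
  · intro p hp
    rw [hfixw_28]
    exact hfixk_28 p hp
  · intro p hp
    rw [hfixw_29]
    exact hfixk_29 p hp
  · intro p hp
    rw [hfixw_30]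
    exact hfixk_30 p hp
  · intro p hp
    rw [hfixw_31]
    exact hfixk_31 p hp
  · intro p hp
    rw [hfixw_32]
    exact hfixk_32 p hp
  · intro p hp
    rw [hfixw_33]
    exact hfixk_33 p hp
  · intro p hp
    rw [hfixw_34]
    exact hfixk_34 p hp
  · intro p hp
    rw [hfixw_35]
    exact hfixk_35 p hp
  · intro p hp
    rw [hfixw_36]
    exact hfixk_36 p hp
  · intro p hp
    rw [hfixw_37]
    exact hfixk_37 p hp
  · intro p hp
    rw [hfixw_38]
    exact hfixk_38 p hp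
  · intro p hp
    rw [hfixw_39]
    exact hfixk_39 p hp
  · intro p hp
    rw [hfixw_40]
    exact hfixk_40 p hp
  · intro p hp
    rw [hfixw_41]
    exact hfixk_41 p hp
  · intro p hp
    rw [hfixw_42]
    exact hfixk_42 p hp
  · intro p hp
    rw [hfixw_43]
    exact hfixk_43 p hp
  · intro p hp
    rw [hfixw_44]
    exact hfixk_44 p hp
  · intro p hp
    rw [hfixw_45]
    exact hfixk_45 p hp
  · intro p hp
    rw [hfixw_46]
    exact hfixk_46 p hp
  · intro p hp
    rw [hfixw_47]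
    exact hfixk_47 p hp

theorem hfix : ∀ b ∈ base, ∀ p < N, wapp px b p = p := by
  intro b hb
  obtain ⟨k, hk, rfl⟩ := List.mem_iff_getElem.mp hb
  have hk' : k < 48 := hk
  have := hfix_k k hk'
  rw [List.getD_eq_getElem _ _ hk] at this
  exact this

end Cfsg.Agent.Lib.Helper6.O733Rep
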