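import Cfsg.Agent.Lib.Helper6.Spor.Fi22UB
import Cfsg.Agent.Lib.Helper6.TCP.O73

set_option autoImplicit false
set_option maxRecDepth 100000

namespace Cfsg.Agent.Lib.Helper6.O73UB

open Cfsg.Agent.Lib.Helper6.TC Cfsg.Agent.Lib.Helper6.TCD

/-! # The order of the group `O73` presented by words is at most 4585351680 -/

theorem base_eq : TCP.O73.base = Fi22U1.base := rfl

theorem card_le : Finite TCP.O73.G ∧ Nat.card TCP.O73.G ≤ 4585351680 := by
  have h := Fi22UB.u1
  rw [← base_eq] at h
  exact ⟨h.1, h.2.trans (by norm_num)⟩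

end Cfsg.Agent.Lib.Helper6.O73UB
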