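import Cfsg.Agent.Lib.Helper6.Spor.ONOrd2
import Cfsg.Agent.Lib.Helper6.Spor.L37Simple
import Cfsg.Agent.Lib.Helper6.Simp7
import Cfsg.Agent.Lib.Helper6.WP10

set_option autoImplicit false
set_option maxRecDepth 100000

namespace Cfsg.Agent.Lib.Helper6.ONL37

open Cfsg.Spor Cfsg.Agent.Lib.Helper6.TC Cfsg.Agent.Lib.Helper6.TCD Cfsg.Agent.Lib.Helper6.Simp

/-! # The group PSL(3, 7) inside the O'Nan group, as the even words in a, …, f -/

/-- the word of the column 0 -/
def w0 : List ℕ := [4, 5, 6, 3]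

/-- the word of the column 1 -/
def w1 : List ℕ := [3, 6, 5, 4]

/-- the word of the column 2 -/
def w2 : List ℕ := [7, 3]

/-- the word of the column 3 -/
def w3 : List ℕ := [2, 3]

/-- the word of the column 4 -/
def w4 : List ℕ := [3, 2]

/-- the words of the columns -/
def cw (i : ℕ) : List ℕ := [w0, w1, w2, w3, w4].getD i []

theorem hcl : ∀ b ∈ TCP.L37.base, ∀ c ∈ b.flatMap cw, c < 8 := by
  decide +kernel

theorem hchk : ∀ b ∈ TCP.L37.base, wappS ONa.px (b.flatMap cw) 35 = 35 ∧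
    wappS ONa.px (b.flatMap cw) 45 = 45 ∧ wappS ONa.px (b.flatMap cw) 0 = 0 := by
  decide +kernel

theorem hmove : wapp ONa.px w3 1 ≠ 1 := by
  decide +kernel

theorem hrel : ∀ b ∈ TCP.L37.base,
    PresentedGroup.mk TCP.ON.Rels (wordElt TCP.ON.gc (b.flatMap cw)) = 1 := by
  intro b hb
  obtain ⟨h1, h2, h3⟩ := hchk b hb
  exact ONOrd.base_trivial _ (hcl b hb) h1 h2 h3

/-- the homomorphism from the presented group `L37` to the presented group O'N -/
noncomputable def psi : TCP.L37.G →* ON := wpHomW cw TCP.L37.hbl hrel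

theorem psi_injective : Function.Injective psi := by
  refine injective_of_simple _ L37Simple.simple.1
    (x := PresentedGroup.mk (wrels 5 TCP.L37.base) (FreeGroup.of ⟨3, by decide⟩)) ?_
  unfold psi
  rw [wpHomW_of]
  exact ONOrd.ne_one_of_move w3 (by decide) (by decide) hmove

theorem hcolS : ∀ c, 2 ≤ c → c < 8 → ceOf TCP.ON.gc c ∈ Cfsg.Agent.S1692.S := by
  intro c h2 h8
  interval_cases c
  · exact Or.inl rfl
  · exact Or.inr (Or.inl rfl)
  · exact Or.inr (Or.inr (Or.inl rfl))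
  · exact Or.inr (Or.inr (Or.inr (Or.inl rfl)))
  · exact Or.inr (Or.inr (Or.inr (Or.inr (Or.inl rfl))))
  · exact Or.inr (Or.inr (Or.inr (Or.inr (Or.inr rfl))))

theorem hcw : ∀ i < 5, ∀ c ∈ cw i, 2 ≤ c ∧ c < 8 := by
  decide

/-- the image lies in the subgroup generated by `a, …, f` -/
theorem psi_range_le : psi.range ≤ subH TCP.ON.Rels Cfsg.Agent.S1692.S := by
  rw [MonoidHom.range_eq_map, ← PresentedGroup.closure_range_of, MonoidHom.map_closure,
    Subgroup.closure_le]
  rintro _ ⟨_, ⟨i, rfl⟩, rfl⟩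
  have : psi (PresentedGroup.of i) =
      PresentedGroup.mk TCP.ON.Rels (wordElt TCP.ON.gc (cw i.val)) := wpHomW_of cw _ _ i
  rw [this]
  refine mk_wordElt_mem_subH _ ?_
  intro c hc
  obtain ⟨h2, h8⟩ := hcw i.val i.isLt c hc
  exact hcolS c h2 h8

end Cfsg.Agent.Lib.Helper6.ONL37
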