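import Cfsg.Agent.Lib.Helper6.Spor.ONOrd2
import Cfsg.Agent.Lib.Helper6.Spor.M11Simple
import Cfsg.Agent.Lib.Helper6.Simp7

set_option autoImplicit false
set_option maxRecDepth 100000

namespace Cfsg.Agent.Lib.Helper6.ONM11

open Cfsg.Spor Cfsg.Agent.Lib.Helper6.TC Cfsg.Agent.Lib.Helper6.TCD Cfsg.Agent.Lib.Helper6.Simp

/-! # The Mathieu group of degree 11 inside the O'Nan group -/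

/-- the word of the column 0 -/
def w0 : List ℕ := [2]

/-- the word of the column 1 -/
def w1 : List ℕ := [3, 4, 3, 1, 5, 3, 2, 6, 1, 4, 5, 3, 1, 4, 3, 4, 6, 4, 0, 3, 6, 0, 7, 4, 7, 1, 6, 0, 4, 6, 0, 6, 4, 1, 6, 0, 7, 4, 7, 1, 6, 3, 1, 4, 6, 4, 3, 4, 0, 3, 5, 4, 0, 6, 2, 3, 5, 0, 3, 4, 3]

/-- the word of the column 2 -/
def w2 : List ℕ := [3, 4, 3, 1, 5, 3, 2, 6, 1, 4, 5, 3, 1, 4, 3, 4, 6, 4, 0, 3, 6, 0, 7, 4, 7, 1, 6, 0, 4, 6, 1, 6, 4, 1, 6, 0, 7, 4, 7, 1, 6, 3, 1, 4, 6, 4, 3, 4, 0, 3, 5, 4, 0, 6, 2, 3, 5, 0, 3, 4, 3]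

/-- the word of the column 3 -/
def w3 : List ℕ := [2, 3, 4, 3, 1, 5, 3, 2, 6, 1, 4, 5, 3, 1, 4, 3, 4, 6, 4, 0, 3, 6, 0, 7, 4, 7, 1, 6, 0, 4, 6, 0, 6, 4, 1, 6, 0, 7, 4, 7, 1, 6, 3, 1, 4, 6, 4, 3, 4, 0, 3, 5, 4, 0, 6, 2, 3, 5, 0, 3, 4, 3, 2, 3, 4, 3, 1, 5, 3, 2, 6, 1, 4, 5, 3, 1, 4, 3, 4, 6, 4, 0, 3, 6, 0, 7, 4, 7, 1, 6, 0, 4, 6, 0, 6, 4, 1, 6, 0, 7, 4, 7, 1, 6, 3, 1, 4, 6, 4, 3, 4, 0, 3, 5, 4, 0, 6, 2, 3, 5, 0, 3, 4, 3, 2, 3, 4, 3, 1, 5, 3, 2, 6, 1, 4, 5, 3, 1, 4, 3, 4, 6, 4, 0, 3, 6, 0, 7, 4, 7, 1, 6, 0, 4, 6, 1, 6, 4, 1, 6, 0, 7, 4, 7, 1, 6, 3, 1, 4, 6, 4, 3, 4, 0, 3, 5, 4, 0, 6, 2, 3, 5, 0, 3, 4, 3, 2]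

/-- the word of the column 4 -/
def w4 : List ℕ := [2, 3, 4, 3, 1, 5, 3, 2, 6, 1, 4, 5, 3, 1, 4, 3, 4, 6, 4, 0, 3, 6, 0, 7, 4, 7, 1, 6, 0, 4, 6, 0, 6, 4, 1, 6, 0, 7, 4, 7, 1, 6, 3, 1, 4, 6, 4, 3, 4, 0, 3, 5, 4, 0, 6, 2, 3, 5, 0, 3, 4, 3, 2, 3, 4, 3, 1, 5, 3, 2, 6, 1, 4, 5, 3, 1, 4, 3, 4, 6, 4, 0, 3, 6, 0, 7, 4, 7, 1, 6, 0, 4, 6, 1, 6, 4, 1, 6, 0, 7, 4, 7, 1, 6, 3, 1, 4, 6, 4, 3, 4, 0, 3, 5, 4, 0, 6, 2, 3, 5, 0, 3, 4, 3, 2, 3, 4, 3, 1, 5, 3, 2, 6, 1, 4, 5, 3, 1, 4, 3, 4, 6, 4, 0, 3, 6, 0, 7, 4, 7, 1, 6, 0, 4, 6, 1, 6, 4, 1, 6, 0, 7, 4, 7, 1, 6, 3, 1, 4, 6, 4, 3, 4, 0, 3, 5, 4, 0, 6, 2, 3, 5, 0, 3, 4, 3, 2]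

/-- the words of the columns -/
def cw (i : ℕ) : List ℕ := [w0, w1, w2, w3, w4].getD i []

theorem hcl : ∀ b ∈ TCP.M11.base, ∀ c ∈ b.flatMap cw, c < 8 := by
  decide +kernel

theorem hchk : ∀ b ∈ TCP.M11.base, wappS ONa.px (b.flatMap cw) 35 = 35 ∧
    wappS ONa.px (b.flatMap cw) 45 = 45 ∧ wappS ONa.px (b.flatMap cw) 0 = 0 := by
  decide +kernel

theorem hmove : wapp ONa.px w0 2 ≠ 2 := by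
  decide +kernel

theorem hrel : ∀ b ∈ TCP.M11.base,
    PresentedGroup.mk TCP.ON.Rels (wordElt TCP.ON.gc (b.flatMap cw)) = 1 := by
  intro b hb
  obtain ⟨h1, h2, h3⟩ := hchk b hb
  exact ONOrd.base_trivial _ (hcl b hb) h1 h2 h3

/-- the presented group `M11` embeds in the presented group O'N -/
theorem exists_hom : ∃ ψ : TCP.M11.G →* ON, Function.Injective ψ := by
  refine ⟨wpHomW cw TCP.M11.hbl hrel, ?_⟩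
  refine injective_of_simple _ M11Simple.simple.1
    (x := PresentedGroup.mk (wrels 5 TCP.M11.base) (FreeGroup.of ⟨0, by decide⟩)) ?_
  rw [wpHomW_of]
  exact ONOrd.ne_one_of_move w0 (by decide) (by decide) hmove

end Cfsg.Agent.Lib.Helper6.ONM11
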