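import Cfsg.Agent.Lib.Helper6.Spor.ONOrd
import Cfsg.Agent.Lib.Helper6.LB3
import Cfsg.Agent.Lib.Helper6.WP9

set_option autoImplicit false
set_option maxRecDepth 100000

namespace Cfsg.Agent.Lib.Helper6.ONOrd

open Cfsg.Spor Cfsg.Agent.Lib.Helper6.TC Cfsg.Agent.Lib.Helper6.TCD
open Cfsg.Agent.Lib.Helper6.TCP.ON

/-! # In the presented group O'N, a word fixing three points of the 122760 is trivial -/

theorem base_trivial (w : List ℕ) (hwl : ∀ c ∈ w, c < 8)
    (h35 : wappS ONa.px w 35 = 35) (h45 : wappS ONa.px w 45 = 45) (h0 : wappS ONa.px w 0 = 0) :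
    PresentedGroup.mk Rels (wordElt gc w) = 1 := by
  obtain ⟨φ, hw, _, _⟩ := perm_rep (rels := Rels) (S := Cfsg.Agent.S1692.S)
    Cfsg.Agent.S1692.hP hC (rel_cover Cfsg.Agent.S1692.hP Cfsg.Agent.S1692.hfix)
    Cfsg.Agent.S1692.hsubP Cfsg.Agent.S1692.htree
  have hfin : Finite ON := ONUB.card_le.1
  have hlb := ONaL.chain_lb (φ := φ) hw
  have hbot := ptFix_eq_bot_of_card hlb ONUB.card_le.2 (by norm_num)
  rw [wappS_eq] at h35 h45 h0
  refine mk_eq_one_of_fix_base hw hbot w hwl ?_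
  intro b hb
  cases hb with
  | head => exact h35
  | tail _ hb =>
    cases hb with
    | head => exact h45
    | tail _ hb =>
      cases hb with
      | head => exact h0
      | tail _ hb => cases hb

/-- a word moving a point is not trivial -/
theorem ne_one_of_move (w : List ℕ) (hwl : ∀ c ∈ w, c < 8) {q : ℕ} (hq : q < 122760)
    (hm : wapp ONa.px w q ≠ q) : PresentedGroup.mk Rels (wordElt gc w) ≠ 1 := by
  obtain ⟨φ, hw, _, _⟩ := perm_rep (rels := Rels) (S := Cfsg.Agent.S1692.S)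
    Cfsg.Agent.S1692.hP hC (rel_cover Cfsg.Agent.S1692.hP Cfsg.Agent.S1692.hfix)
    Cfsg.Agent.S1692.hsubP Cfsg.Agent.S1692.htree
  intro h
  have h1 := hw w hwl ⟨q, hq⟩
  rw [h, map_one, inv_one] at h1
  exact hm h1.symm

end Cfsg.Agent.Lib.Helper6.ONOrd
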