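import Cfsg.Agent.S1692
import Cfsg.Agent.Lib.Helper6.WP3
import Cfsg.Agent.Lib.Helper6.TCD.ONU1.Idx
import Cfsg.Agent.Lib.Helper6.TCD.ONU2.Idx

set_option autoImplicit false
set_option maxRecDepth 100000

namespace Cfsg.Agent.Lib.Helper6.ONUB

open Cfsg.Spor Cfsg.Agent.Lib.Helper6.TC Cfsg.Agent.Lib.Helper6.TCD

/-! # The order of the presented group O'N is at most 460815505920 -/

theorem u2 : Finite (WG 5 ONU2.base) ∧ Nat.card (WG 5 ONU2.base) ≤ 672 :=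
  wp_bottom ONU2.idx

theorem u1 : Finite (WG 6 ONU1.base) ∧ Nat.card (WG 6 ONU1.base) ≤ 5586 * 672 :=
  wp_step (k := 6) (k' := 5) (fun i => [0, 2, 3, 4, 5].getD i 0) ONU1.idx (by decide) ONU2.hbl
    (by decide +kernel) u2

/-- the columns of the generators `a, …, f` -/
def cm (i : ℕ) : ℕ := [2, 3, 4, 5, 6, 7].getD i 0

theorem hS : ∀ s ∈ Cfsg.Agent.S1692.S, ∃ i < 6, s = ceOf TCP.ON.gc (cm i) := by
  intro s hs
  simp only [Cfsg.Agent.S1692.S, Set.mem_insert_iff, Set.mem_singleton_iff] at hs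
  rcases hs with rfl | rfl | rfl | rfl | rfl | rfl
  · exact ⟨0, by decide, rfl⟩
  · exact ⟨1, by decide, rfl⟩
  · exact ⟨2, by decide, rfl⟩
  · exact ⟨3, by decide, rfl⟩
  · exact ⟨4, by decide, rfl⟩
  · exact ⟨5, by decide, rfl⟩

theorem card_le : Finite ON ∧ Nat.card ON ≤ 460815505920 := by
  have h := top_step (rels := TCP.ON.Rels) (gc := TCP.ON.gc) (S := Cfsg.Agent.S1692.S) (k' := 6)
    (base := TCP.ON.base) (base' := ONU1.base) cm
    Cfsg.Agent.S1692.idx_le TCP.ON.hbase hS ONU1.hbl (by decide +kernel) u1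
  exact ⟨h.1, h.2.trans (by norm_num [Cfsg.Agent.Lib.Helper6.TCD.ONa.N])⟩

end Cfsg.Agent.Lib.Helper6.ONUB
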