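import Cfsg.Agent.Lib.Helper6.Spor.S44UB
import Cfsg.Agent.Lib.Helper6.Spor.S44Idx
import Cfsg.Agent.Lib.Helper6.TCD.S44aL.LB

set_option autoImplicit false
set_option maxRecDepth 100000

namespace Cfsg.Agent.Lib.Helper6.S44Ord

open Cfsg.Agent.Lib.Helper6.TC Cfsg.Agent.Lib.Helper6.TCD
open Cfsg.Agent.Lib.Helper6.TCP.S44

/-! # The order of the presented group `S44`, and its faithful action on 85 points -/

theorem rep : ∃ φ : G →* Equiv.Perm (Fin 85),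
    (∀ w, (∀ c ∈ w, c < 8) → ∀ p : Fin 85,
      ((φ (PresentedGroup.mk Rels (wordElt gc w)))⁻¹ p).val = wapp S44a.px w p.val) ∧
    (∃ F : (G ⧸ subH Rels S44Idx.S) ≃ Fin 85, ∀ g q, F (g • q) = φ g (F q)) ∧
    (∀ p : Fin 85, ∃ g, φ g ⟨0, by decide⟩ = p) ∧
    Function.Injective φ ∧ Nat.card G = 979200 ∧ Finite G := by
  obtain ⟨φ, hw, hfixH, htrans⟩ := perm_rep (rels := Rels) (S := S44Idx.S)
    S44Idx.hP hC (rel_cover S44Idx.hP S44Idx.hfix) S44Idx.hsubP S44Idx.htree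
  obtain ⟨_, F, hF⟩ := index_eq S44Idx.hP.Npos hfixH htrans S44Idx.idx_le.1 S44Idx.idx_le.2
  have hfin : Finite G := S44UB.card_le.1
  have hlb := S44aL.chain_lb (φ := φ) hw
  obtain ⟨hinj, hcard⟩ := faithful_of_card hlb S44UB.card_le.2 (by norm_num)
  exact ⟨φ, hw, ⟨F, hF⟩, htrans, hinj, hcard, hfin⟩

end Cfsg.Agent.Lib.Helper6.S44Ord
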