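import Cfsg.Agent.Lib.Helper6.WP3
import Cfsg.Agent.Lib.Helper6.Spor.S44Idx
import Cfsg.Agent.Lib.Helper6.TCD.S44KU.Idx

set_option autoImplicit false
set_option maxRecDepth 100000

namespace Cfsg.Agent.Lib.Helper6.S44UB

open Cfsg.Agent.Lib.Helper6.TC Cfsg.Agent.Lib.Helper6.TCD

/-! # The order of the group `S44` presented by words is at most 979200 -/

theorem sub_le : Finite (WG 7 S44KU.base) ∧ Nat.card (WG 7 S44KU.base) ≤ 11520 :=
  wp_bottom S44KU.idx

theorem card_le : Finite TCP.S44.G ∧ Nat.card TCP.S44.G ≤ 979200 := by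
  have h := wp_step (k := 8) (k' := 7) (base := TCP.S44.base) (subw := S44Idx.subw)
    (fun i => [0, 1, 2, 3, 4, 6, 7].getD i 0) S44Idx.idx_le (by decide) S44KU.hbl
    (by decide +kernel) sub_le
  exact ⟨h.1, h.2.trans (by norm_num [TCD.S44a.N])⟩

end Cfsg.Agent.Lib.Helper6.S44UB
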