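import Cfsg.Agent.Lib.Helper6.WP3
import Cfsg.Agent.Lib.Helper6.Spor.S82Idx
import Cfsg.Agent.Lib.Helper6.TCD.S82H.Idx
import Cfsg.Agent.Lib.Helper6.TCD.S82E7.Idx
import Cfsg.Agent.Lib.Helper6.TCD.S82E6.Idx
import Cfsg.Agent.Lib.Helper6.TCD.S82D5.Idx
import Cfsg.Agent.Lib.Helper6.TCD.S82A4.Idx

set_option autoImplicit false
set_option maxRecDepth 100000

namespace Cfsg.Agent.Lib.Helper6.S82UB

open Cfsg.Agent.Lib.Helper6.TC Cfsg.Agent.Lib.Helper6.TCD

/-! # The order of the group `S82` presented by words is at most 47377612800 -/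

/-- the symmetric group of degree five -/
theorem uA4 : Finite (WG 4 S82A4.base) ∧ Nat.card (WG 4 S82A4.base) ≤ 120 :=
  wp_bottom S82A4.idx

/-- the Weyl group of type `D₅` -/
theorem uD5 : Finite (WG 5 S82D5.base) ∧ Nat.card (WG 5 S82D5.base) ≤ 16 * 120 :=
  wp_step (k := 5) (k' := 4) (fun i => [0, 2, 3, 4].getD i 0) S82D5.idx (by decide)
    S82A4.hbl (by decide +kernel) uA4

/-- the Weyl group of type `E₆` -/
theorem uE6 : Finite (WG 6 S82E6.base) ∧ Nat.card (WG 6 S82E6.base) ≤ 27 * (16 * 120) :=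
  wp_step (k := 6) (k' := 5) (fun i => i) S82E6.idx (by decide)
    S82D5.hbl (by decide +kernel) uD5

/-- the Weyl group of type `E₇` -/
theorem uE7 : Finite (WG 7 S82E7.base) ∧ Nat.card (WG 7 S82E7.base) ≤ 56 * (27 * (16 * 120)) :=
  wp_step (k := 7) (k' := 6) (fun i => i) S82E7.idx (by decide)
    S82E6.hbl (by decide +kernel) uE6

/-- the Weyl group of type `E₈` modulo its centre -/
theorem uH : Finite (WG 8 S82H.base) ∧
    Nat.card (WG 8 S82H.base) ≤ 120 * (56 * (27 * (16 * 120))) :=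
  wp_step (k := 8) (k' := 7) (fun i => i) S82H.idx (by decide)
    S82E7.hbl (by decide +kernel) uE7

theorem card_le : Finite TCP.S82.G ∧ Nat.card TCP.S82.G ≤ 47377612800 := by
  have h := wp_step (k := 9) (k' := 8) (base := TCP.S82.base) (subw := S82Idx.subw)
    (fun i => i) S82Idx.idx_le (by decide) S82H.hbl (by decide +kernel) uH
  exact ⟨h.1, h.2.trans (by norm_num [TCD.S82a.N])⟩

end Cfsg.Agent.Lib.Helper6.S82UB
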