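import Mathlib
import Cfsg.Agent.Lib.Helper6.TCP.Suz6
import Cfsg.Agent.Lib.Helper6.TC11
import Cfsg.Agent.Lib.Helper6.TCD.Suz6a.All

set_option autoImplicit false

namespace Cfsg.Agent.Lib.Helper6.Suz6Rep
open Cfsg.Agent.Lib.Helper6.TC Cfsg.Agent.Lib.Helper6.TCP.Suz6 Cfsg.Agent.Lib.Helper6.TCD.Suz6a

/-! # The relators of the central extension hold on a set of 70866 points -/

set_option maxRecDepth 100000
set_option linter.unusedSimpArgs false

theorem hP : PHyp px N 11 Cfsg.Agent.Lib.Helper6.TCP.Suz6.INV where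
  Npos := by decide
  hinv1 := hinv1
  hinvinv := hinvinv
  hlt := by
    intro c hc p hp
    interval_cases c
    · exact (chkCol_spec chkP0 p hp).1
    · exact (chkCol_spec chkP1 p hp).1
    · exact (chkCol_spec chkP2 p hp).1
    · exact (chkCol_spec chkP3 p hp).1
    · exact (chkCol_spec chkP4 p hp).1
    · exact (chkCol_spec chkP5 p hp).1
    · exact (chkCol_spec chkP6 p hp).1
    · exact (chkCol_spec chkP7 p hp).1
    · exact (chkCol_spec chkP8 p hp).1
    · exact (chkCol_spec chkP9 p hp).1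
    · exact (chkCol_spec chkP10 p hp).1
  hpx := by
    intro c hc p hp
    interval_cases c
    · exact (chkCol_spec chkP0 p hp).2
    · exact (chkCol_spec chkP1 p hp).2
    · exact (chkCol_spec chkP2 p hp).2
    · exact (chkCol_spec chkP3 p hp).2
    · exact (chkCol_spec chkP4 p hp).2
    · exact (chkCol_spec chkP5 p hp).2
    · exact (chkCol_spec chkP6 p hp).2
    · exact (chkCol_spec chkP7 p hp).2
    · exact (chkCol_spec chkP8 p hp).2
    · exact (chkCol_spec chkP9 p hp).2
    · exact (chkCol_spec chkP10 p hp).2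

theorem px_c0 (p : ℕ) : px 0 p = P0 p := rfl
theorem px_c1 (p : ℕ) : px 1 p = P1 p := rfl
theorem px_c2 (p : ℕ) : px 2 p = P2 p := rfl
theorem px_c3 (p : ℕ) : px 3 p = P3 p := rfl
theorem px_c4 (p : ℕ) : px 4 p = P4 p := rfl
theorem px_c5 (p : ℕ) : px 5 p = P5 p := rfl
theorem px_c6 (p : ℕ) : px 6 p = P6 p := rfl
theorem px_c7 (p : ℕ) : px 7 p = P7 p := rfl
theorem px_c8 (p : ℕ) : px 8 p = P8 p := rfl
theorem px_c9 (p : ℕ) : px 9 p = P9 p := rfl
theorem px_c10 (p : ℕ) : px 10 p = P10 p := rfl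

theorem hfixk_0 : ∀ p < N, P8 (P3 p) = p := fun p hp => (chkCol_spec chkP3 p hp).2

theorem hfixw_0 (p : ℕ) : wapp px (base.getD 0 []) p = P8 (P3 p) := by
  show wapp px [3, 8] p = _
  simp only [wapp_cons, wapp_nil, px_c0, px_c1, px_c2, px_c3, px_c4, px_c5, px_c6, px_c7, px_c8, px_c9, px_c10]

theorem hfixk_1 : ∀ p < N, P9 (P4 p) = p := fun p hp => (chkCol_spec chkP4 p hp).2

theorem hfixw_1 (p : ℕ) : wapp px (base.getD 1 []) p = P9 (P4 p) := by
  show wapp px [4, 9] p = _
  simp only [wapp_cons, wapp_nil, px_c0, px_c1, px_c2, px_c3, px_c4, px_c5, px_c6, px_c7, px_c8, px_c9, px_c10]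

theorem hfixk_2 : ∀ p < N, P10 (P7 p) = p := fun p hp => (chkCol_spec chkP7 p hp).2

theorem hfixw_2 (p : ℕ) : wapp px (base.getD 2 []) p = P10 (P7 p) := by
  show wapp px [7, 10] p = _
  simp only [wapp_cons, wapp_nil, px_c0, px_c1, px_c2, px_c3, px_c4, px_c5, px_c6, px_c7, px_c8, px_c9, px_c10]

theorem hfixk_3 : ∀ p < N, P0 (P0 p) = p := fun p hp => (chkCol_spec chkP0 p hp).2

theorem hfixw_3 (p : ℕ) : wapp px (base.getD 3 []) p = P0 (P0 p) := by
  show wapp px [0, 0] p = _
  simp only [wapp_cons, wapp_nil, px_c0, px_c1, px_c2, px_c3, px_c4, px_c5, px_c6, px_c7, px_c8, px_c9, px_c10]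

theorem hfixk_4 : ∀ p < N, P1 (P1 p) = p := fun p hp => (chkCol_spec chkP1 p hp).2

theorem hfixw_4 (p : ℕ) : wapp px (base.getD 4 []) p = P1 (P1 p) := by
  show wapp px [1, 1] p = _
  simp only [wapp_cons, wapp_nil, px_c0, px_c1, px_c2, px_c3, px_c4, px_c5, px_c6, px_c7, px_c8, px_c9, px_c10]

theorem hfixk_5 : ∀ p < N, P2 (P2 p) = p := fun p hp => (chkCol_spec chkP2 p hp).2

theorem hfixw_5 (p : ℕ) : wapp px (base.getD 5 []) p = P2 (P2 p) := by
  show wapp px [2, 2] p = _
  simp only [wapp_cons, wapp_nil, px_c0, px_c1, px_c2, px_c3, px_c4, px_c5, px_c6, px_c7, px_c8, px_c9, px_c10]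

theorem hfixk_6 : ∀ p < N, R6 p = p := by
  intro p hp
  have hp' : p < 70866 := hp
  by_cases g0 : p < 50000
  · exact chkFix_spec chkR6_0 p (by omega) (by omega)
  exact chkFix_spec chkR6_1 p (by omega) (by omega)

theorem hfixw_6 (p : ℕ) : wapp px (base.getD 6 []) p = R6 p := by
  show wapp px [3, 3, 10, 10, 10] p = _
  simp only [wapp_cons, wapp_nil, px_c0, px_c1, px_c2, px_c3, px_c4, px_c5, px_c6, px_c7, px_c8, px_c9, px_c10]
  rfl

theorem hfixk_7 : ∀ p < N, R7 p = p := by
  intro p hp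
  have hp' : p < 70866 := hp
  by_cases g0 : p < 29134
  · exact chkFix_spec chkR7_0 p (by omega) (by omega)
  exact chkFix_spec chkR7_1 p (by omega) (by omega)

theorem hfixw_7 (p : ℕ) : wapp px (base.getD 7 []) p = R7 p := by
  show wapp px [4, 4, 10, 10, 10] p = _
  simp only [wapp_cons, wapp_nil, px_c0, px_c1, px_c2, px_c3, px_c4, px_c5, px_c6, px_c7, px_c8, px_c9, px_c10]
  rfl

theorem hfixk_8 : ∀ p < N, P5 (P5 p) = p := fun p hp => (chkCol_spec chkP5 p hp).2

theorem hfixw_8 (p : ℕ) : wapp px (base.getD 8 []) p = P5 (P5 p) := by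
  show wapp px [5, 5] p = _
  simp only [wapp_cons, wapp_nil, px_c0, px_c1, px_c2, px_c3, px_c4, px_c5, px_c6, px_c7, px_c8, px_c9, px_c10]

theorem hfixk_9 : ∀ p < N, P6 (P6 p) = p := fun p hp => (chkCol_spec chkP6 p hp).2

theorem hfixw_9 (p : ℕ) : wapp px (base.getD 9 []) p = P6 (P6 p) := by
  show wapp px [6, 6] p = _
  simp only [wapp_cons, wapp_nil, px_c0, px_c1, px_c2, px_c3, px_c4, px_c5, px_c6, px_c7, px_c8, px_c9, px_c10]

theorem hfixk_10 : ∀ p < N, R10 p = p := by
  intro p hp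
  have hp' : p < 70866 := hp
  by_cases g0 : p < 6890
  · exact chkFix_spec chkR10_0 p (by omega) (by omega)
  by_cases g1 : p < 48556
  · exact chkFix_spec chkR10_1 p (by omega) (by omega)
  exact chkFix_spec chkR10_2 p (by omega) (by omega)

theorem hfixw_10 (p : ℕ) : wapp px (base.getD 10 []) p = R10 p := by
  show wapp px [7, 7, 7, 7, 7, 7] p = _
  simp only [wapp_cons, wapp_nil, px_c0, px_c1, px_c2, px_c3, px_c4, px_c5, px_c6, px_c7, px_c8, px_c9, px_c10]
  rfl

theorem hfixk_11 : ∀ p < N, R11 p = p := by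
  intro p hp
  have hp' : p < 70866 := hp
  by_cases g0 : p < 29035
  · exact chkFix_spec chkR11_0 p (by omega) (by omega)
  exact chkFix_spec chkR11_1 p (by omega) (by omega)

theorem hfixw_11 (p : ℕ) : wapp px (base.getD 11 []) p = R11 p := by
  show wapp px [0, 7, 0, 10] p = _
  simp only [wapp_cons, wapp_nil, px_c0, px_c1, px_c2, px_c3, px_c4, px_c5, px_c6, px_c7, px_c8, px_c9, px_c10]
  rfl

theorem hfixk_12 : ∀ p < N, R12 p = p := by
  intro p hp
  have hp' : p < 70866 := hp
  by_cases g0 : p < 20669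
  · exact chkFix_spec chkR12_0 p (by omega) (by omega)
  exact chkFix_spec chkR12_1 p (by omega) (by omega)

theorem hfixw_12 (p : ℕ) : wapp px (base.getD 12 []) p = R12 p := by
  show wapp px [1, 7, 1, 10] p = _
  simp only [wapp_cons, wapp_nil, px_c0, px_c1, px_c2, px_c3, px_c4, px_c5, px_c6, px_c7, px_c8, px_c9, px_c10]
  rfl

theorem hfixk_13 : ∀ p < N, R13 p = p := by
  intro p hp
  have hp' : p < 70866 := hp
  by_cases g0 : p < 12303
  · exact chkFix_spec chkR13_0 p (by omega) (by omega)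
  exact chkFix_spec chkR13_1 p (by omega) (by omega)

theorem hfixw_13 (p : ℕ) : wapp px (base.getD 13 []) p = R13 p := by
  show wapp px [2, 7, 2, 10] p = _
  simp only [wapp_cons, wapp_nil, px_c0, px_c1, px_c2, px_c3, px_c4, px_c5, px_c6, px_c7, px_c8, px_c9, px_c10]
  rfl

theorem hfixk_14 : ∀ p < N, R14 p = p := by
  intro p hp
  have hp' : p < 70866 := hp
  by_cases g0 : p < 3937
  · exact chkFix_spec chkR14_0 p (by omega) (by omega)
  by_cases g1 : p < 66437
  · exact chkFix_spec chkR14_1 p (by omega) (by omega)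
  exact chkFix_spec chkR14_2 p (by omega) (by omega)

theorem hfixw_14 (p : ℕ) : wapp px (base.getD 14 []) p = R14 p := by
  show wapp px [3, 7, 8, 10] p = _
  simp only [wapp_cons, wapp_nil, px_c0, px_c1, px_c2, px_c3, px_c4, px_c5, px_c6, px_c7, px_c8, px_c9, px_c10]
  rfl

theorem hfixk_15 : ∀ p < N, R15 p = p := by
  intro p hp
  have hp' : p < 70866 := hp
  by_cases g0 : p < 58071
  · exact chkFix_spec chkR15_0 p (by omega) (by omega)
  exact chkFix_spec chkR15_1 p (by omega) (by omega)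

theorem hfixw_15 (p : ℕ) : wapp px (base.getD 15 []) p = R15 p := by
  show wapp px [4, 7, 9, 10] p = _
  simp only [wapp_cons, wapp_nil, px_c0, px_c1, px_c2, px_c3, px_c4, px_c5, px_c6, px_c7, px_c8, px_c9, px_c10]
  rfl

theorem hfixk_16 : ∀ p < N, R16 p = p := by
  intro p hp
  have hp' : p < 70866 := hp
  by_cases g0 : p < 49705
  · exact chkFix_spec chkR16_0 p (by omega) (by omega)
  exact chkFix_spec chkR16_1 p (by omega) (by omega)

theorem hfixw_16 (p : ℕ) : wapp px (base.getD 16 []) p = R16 p := by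
  show wapp px [5, 7, 5, 10] p = _
  simp only [wapp_cons, wapp_nil, px_c0, px_c1, px_c2, px_c3, px_c4, px_c5, px_c6, px_c7, px_c8, px_c9, px_c10]
  rfl

theorem hfixk_17 : ∀ p < N, R17 p = p := by
  intro p hp
  have hp' : p < 70866 := hp
  by_cases g0 : p < 41339
  · exact chkFix_spec chkR17_0 p (by omega) (by omega)
  exact chkFix_spec chkR17_1 p (by omega) (by omega)

theorem hfixw_17 (p : ℕ) : wapp px (base.getD 17 []) p = R17 p := by
  show wapp px [6, 7, 6, 10] p = _
  simp only [wapp_cons, wapp_nil, px_c0, px_c1, px_c2, px_c3, px_c4, px_c5, px_c6, px_c7, px_c8, px_c9, px_c10]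
  rfl

theorem hfixk_18 : ∀ p < N, R18 p = p := by
  intro p hp
  have hp' : p < 70866 := hp
  by_cases g0 : p < 13189
  · exact chkFix_spec chkR18_0 p (by omega) (by omega)
  by_cases g1 : p < 38189
  · exact chkFix_spec chkR18_1 p (by omega) (by omega)
  by_cases g2 : p < 63189
  · exact chkFix_spec chkR18_2 p (by omega) (by omega)
  exact chkFix_spec chkR18_3 p (by omega) (by omega)

theorem hfixw_18 (p : ℕ) : wapp px (base.getD 18 []) p = R18 p := by
  show wapp px [0, 1, 0, 1, 0, 1, 0, 1, 0, 1] p = _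
  simp only [wapp_cons, wapp_nil, px_c0, px_c1, px_c2, px_c3, px_c4, px_c5, px_c6, px_c7, px_c8, px_c9, px_c10]
  rfl

theorem hfixk_19 : ∀ p < N, R19 p = p := by
  intro p hp
  have hp' : p < 70866 := hp
  by_cases g0 : p < 43307
  · exact chkFix_spec chkR19_0 p (by omega) (by omega)
  exact chkFix_spec chkR19_1 p (by omega) (by omega)

theorem hfixw_19 (p : ℕ) : wapp px (base.getD 19 []) p = R19 p := by
  show wapp px [0, 2, 0, 2] p = _
  simp only [wapp_cons, wapp_nil, px_c0, px_c1, px_c2, px_c3, px_c4, px_c5, px_c6, px_c7, px_c8, px_c9, px_c10]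
  rfl

theorem hfixk_20 : ∀ p < N, R20 p = p := by
  intro p hp
  have hp' : p < 70866 := hp
  by_cases g0 : p < 19966
  · exact chkFix_spec chkR20_0 p (by omega) (by omega)
  by_cases g1 : p < 55680
  · exact chkFix_spec chkR20_1 p (by omega) (by omega)
  exact chkFix_spec chkR20_2 p (by omega) (by omega)

theorem hfixw_20 (p : ℕ) : wapp px (base.getD 20 []) p = R20 p := by
  show wapp px [0, 3, 0, 3, 10, 10, 10] p = _
  simp only [wapp_cons, wapp_nil, px_c0, px_c1, px_c2, px_c3, px_c4, px_c5, px_c6, px_c7, px_c8, px_c9, px_c10]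
  rfl

theorem hfixk_21 : ∀ p < N, R21 p = p := by
  intro p hp
  have hp' : p < 70866 := hp
  by_cases g0 : p < 20528
  · exact chkFix_spec chkR21_0 p (by omega) (by omega)
  by_cases g1 : p < 56242
  · exact chkFix_spec chkR21_1 p (by omega) (by omega)
  exact chkFix_spec chkR21_2 p (by omega) (by omega)

theorem hfixw_21 (p : ℕ) : wapp px (base.getD 21 []) p = R21 p := by
  show wapp px [0, 4, 0, 4, 10, 10, 10] p = _
  simp only [wapp_cons, wapp_nil, px_c0, px_c1, px_c2, px_c3, px_c4, px_c5, px_c6, px_c7, px_c8, px_c9, px_c10]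
  rfl

theorem hfixk_22 : ∀ p < N, R22 p = p := by
  intro p hp
  have hp' : p < 70866 := hp
  by_cases g0 : p < 36908
  · exact chkFix_spec chkR22_0 p (by omega) (by omega)
  exact chkFix_spec chkR22_1 p (by omega) (by omega)

theorem hfixw_22 (p : ℕ) : wapp px (base.getD 22 []) p = R22 p := by
  show wapp px [0, 5, 0, 5] p = _
  simp only [wapp_cons, wapp_nil, px_c0, px_c1, px_c2, px_c3, px_c4, px_c5, px_c6, px_c7, px_c8, px_c9, px_c10]
  rfl

theorem hfixk_23 : ∀ p < N, R23 p = p := by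
  intro p hp
  have hp' : p < 70866 := hp
  by_cases g0 : p < 28542
  · exact chkFix_spec chkR23_0 p (by omega) (by omega)
  exact chkFix_spec chkR23_1 p (by omega) (by omega)

theorem hfixw_23 (p : ℕ) : wapp px (base.getD 23 []) p = R23 p := by
  show wapp px [0, 6, 0, 6] p = _
  simp only [wapp_cons, wapp_nil, px_c0, px_c1, px_c2, px_c3, px_c4, px_c5, px_c6, px_c7, px_c8, px_c9, px_c10]
  rfl

theorem hfixk_24 : ∀ p < N, R24 p = p := by
  intro p hp
  have hp' : p < 70866 := hp
  by_cases g0 : p < 8070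
  · exact chkFix_spec chkR24_0 p (by omega) (by omega)
  by_cases g1 : p < 33070
  · exact chkFix_spec chkR24_1 p (by omega) (by omega)
  by_cases g2 : p < 58070
  · exact chkFix_spec chkR24_2 p (by omega) (by omega)
  exact chkFix_spec chkR24_3 p (by omega) (by omega)

theorem hfixw_24 (p : ℕ) : wapp px (base.getD 24 []) p = R24 p := by
  show wapp px [1, 0, 1, 0, 1, 0, 1, 0, 1, 0] p = _
  simp only [wapp_cons, wapp_nil, px_c0, px_c1, px_c2, px_c3, px_c4, px_c5, px_c6, px_c7, px_c8, px_c9, px_c10]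
  rfl

theorem hfixk_25 : ∀ p < N, R25 p = p := by
  intro p hp
  have hp' : p < 70866 := hp
  by_cases g0 : p < 20340
  · exact chkFix_spec chkR25_0 p (by omega) (by omega)
  by_cases g1 : p < 62006
  · exact chkFix_spec chkR25_1 p (by omega) (by omega)
  exact chkFix_spec chkR25_2 p (by omega) (by omega)

theorem hfixw_25 (p : ℕ) : wapp px (base.getD 25 []) p = R25 p := by
  show wapp px [1, 2, 1, 2, 1, 2] p = _
  simp only [wapp_cons, wapp_nil, px_c0, px_c1, px_c2, px_c3, px_c4, px_c5, px_c6, px_c7, px_c8, px_c9, px_c10]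
  rfl

theorem hfixk_26 : ∀ p < N, R26 p = p := by
  intro p hp
  have hp' : p < 70866 := hp
  by_cases g0 : p < 28120
  · exact chkFix_spec chkR26_0 p (by omega) (by omega)
  by_cases g1 : p < 63834
  · exact chkFix_spec chkR26_1 p (by omega) (by omega)
  exact chkFix_spec chkR26_2 p (by omega) (by omega)

theorem hfixw_26 (p : ℕ) : wapp px (base.getD 26 []) p = R26 p := by
  show wapp px [1, 3, 1, 3, 10, 10, 10] p = _
  simp only [wapp_cons, wapp_nil, px_c0, px_c1, px_c2, px_c3, px_c4, px_c5, px_c6, px_c7, px_c8, px_c9, px_c10]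
  rfl

theorem hfixk_27 : ∀ p < N, R27 p = p := by
  intro p hp
  have hp' : p < 70866 := hp
  by_cases g0 : p < 28682
  · exact chkFix_spec chkR27_0 p (by omega) (by omega)
  by_cases g1 : p < 64396
  · exact chkFix_spec chkR27_1 p (by omega) (by omega)
  exact chkFix_spec chkR27_2 p (by omega) (by omega)

theorem hfixw_27 (p : ℕ) : wapp px (base.getD 27 []) p = R27 p := by
  show wapp px [1, 4, 1, 4, 10, 10, 10] p = _
  simp only [wapp_cons, wapp_nil, px_c0, px_c1, px_c2, px_c3, px_c4, px_c5, px_c6, px_c7, px_c8, px_c9, px_c10]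
  rfl

theorem hfixk_28 : ∀ p < N, R28 p = p := by
  intro p hp
  have hp' : p < 70866 := hp
  by_cases g0 : p < 34118
  · exact chkFix_spec chkR28_0 p (by omega) (by omega)
  exact chkFix_spec chkR28_1 p (by omega) (by omega)

theorem hfixw_28 (p : ℕ) : wapp px (base.getD 28 []) p = R28 p := by
  show wapp px [1, 5, 1, 5, 1, 5] p = _
  simp only [wapp_cons, wapp_nil, px_c0, px_c1, px_c2, px_c3, px_c4, px_c5, px_c6, px_c7, px_c8, px_c9, px_c10]
  rfl

theorem hfixk_29 : ∀ p < N, R29 p = p := by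
  intro p hp
  have hp' : p < 70866 := hp
  by_cases g0 : p < 4918
  · exact chkFix_spec chkR29_0 p (by omega) (by omega)
  by_cases g1 : p < 46584
  · exact chkFix_spec chkR29_1 p (by omega) (by omega)
  exact chkFix_spec chkR29_2 p (by omega) (by omega)

theorem hfixw_29 (p : ℕ) : wapp px (base.getD 29 []) p = R29 p := by
  show wapp px [1, 6, 1, 6, 1, 6] p = _
  simp only [wapp_cons, wapp_nil, px_c0, px_c1, px_c2, px_c3, px_c4, px_c5, px_c6, px_c7, px_c8, px_c9, px_c10]
  rfl

theorem hfixk_30 : ∀ p < N, R30 p = p := by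
  intro p hp
  have hp' : p < 70866 := hp
  by_cases g0 : p < 26077
  · exact chkFix_spec chkR30_0 p (by omega) (by omega)
  exact chkFix_spec chkR30_1 p (by omega) (by omega)

theorem hfixw_30 (p : ℕ) : wapp px (base.getD 30 []) p = R30 p := by
  show wapp px [2, 0, 2, 0] p = _
  simp only [wapp_cons, wapp_nil, px_c0, px_c1, px_c2, px_c3, px_c4, px_c5, px_c6, px_c7, px_c8, px_c9, px_c10]
  rfl

theorem hfixk_31 : ∀ p < N, R31 p = p := by
  intro p hp
  have hp' : p < 70866 := hp
  by_cases g0 : p < 11807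
  · exact chkFix_spec chkR31_0 p (by omega) (by omega)
  by_cases g1 : p < 53473
  · exact chkFix_spec chkR31_1 p (by omega) (by omega)
  exact chkFix_spec chkR31_2 p (by omega) (by omega)

theorem hfixw_31 (p : ℕ) : wapp px (base.getD 31 []) p = R31 p := by
  show wapp px [2, 1, 2, 1, 2, 1] p = _
  simp only [wapp_cons, wapp_nil, px_c0, px_c1, px_c2, px_c3, px_c4, px_c5, px_c6, px_c7, px_c8, px_c9, px_c10]
  rfl

theorem hfixk_32 : ∀ p < N, R32 p = p := by
  intro p hp
  have hp' : p < 70866 := hp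
  by_cases g0 : p < 9102
  · exact chkFix_spec chkR32_0 p (by omega) (by omega)
  by_cases g1 : p < 24727
  · exact chkFix_spec chkR32_1 p (by omega) (by omega)
  by_cases g2 : p < 40352
  · exact chkFix_spec chkR32_2 p (by omega) (by omega)
  by_cases g3 : p < 55977
  · exact chkFix_spec chkR32_3 p (by omega) (by omega)
  exact chkFix_spec chkR32_4 p (by omega) (by omega)

theorem hfixw_32 (p : ℕ) : wapp px (base.getD 32 []) p = R32 p := by
  show wapp px [2, 3, 2, 3, 2, 3, 2, 3, 2, 3, 2, 3, 2, 3, 2, 3] p = _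
  simp only [wapp_cons, wapp_nil, px_c0, px_c1, px_c2, px_c3, px_c4, px_c5, px_c6, px_c7, px_c8, px_c9, px_c10]
  rfl

theorem hfixk_33 : ∀ p < N, R33 p = p := by
  intro p hp
  have hp' : p < 70866 := hp
  by_cases g0 : p < 1682
  · exact chkFix_spec chkR33_0 p (by omega) (by omega)
  by_cases g1 : p < 37396
  · exact chkFix_spec chkR33_1 p (by omega) (by omega)
  exact chkFix_spec chkR33_2 p (by omega) (by omega)

theorem hfixw_33 (p : ℕ) : wapp px (base.getD 33 []) p = R33 p := by
  show wapp px [2, 4, 2, 4, 10, 10, 10] p = _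
  simp only [wapp_cons, wapp_nil, px_c0, px_c1, px_c2, px_c3, px_c4, px_c5, px_c6, px_c7, px_c8, px_c9, px_c10]
  rfl

theorem hfixk_34 : ∀ p < N, R34 p = p := by
  intro p hp
  have hp' : p < 70866 := hp
  by_cases g0 : p < 3927
  · exact chkFix_spec chkR34_0 p (by omega) (by omega)
  by_cases g1 : p < 66427
  · exact chkFix_spec chkR34_1 p (by omega) (by omega)
  exact chkFix_spec chkR34_2 p (by omega) (by omega)

theorem hfixw_34 (p : ℕ) : wapp px (base.getD 34 []) p = R34 p := by
  show wapp px [2, 5, 2, 5] p = _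
  simp only [wapp_cons, wapp_nil, px_c0, px_c1, px_c2, px_c3, px_c4, px_c5, px_c6, px_c7, px_c8, px_c9, px_c10]
  rfl

theorem hfixk_35 : ∀ p < N, R35 p = p := by
  intro p hp
  have hp' : p < 70866 := hp
  by_cases g0 : p < 58061
  · exact chkFix_spec chkR35_0 p (by omega) (by omega)
  exact chkFix_spec chkR35_1 p (by omega) (by omega)

theorem hfixw_35 (p : ℕ) : wapp px (base.getD 35 []) p = R35 p := by
  show wapp px [2, 6, 2, 6] p = _
  simp only [wapp_cons, wapp_nil, px_c0, px_c1, px_c2, px_c3, px_c4, px_c5, px_c6, px_c7, px_c8, px_c9, px_c10]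
  rfl

theorem hfixk_36 : ∀ p < N, R36 p = p := by
  intro p hp
  have hp' : p < 70866 := hp
  by_cases g0 : p < 28397
  · exact chkFix_spec chkR36_0 p (by omega) (by omega)
  by_cases g1 : p < 64111
  · exact chkFix_spec chkR36_1 p (by omega) (by omega)
  exact chkFix_spec chkR36_2 p (by omega) (by omega)

theorem hfixw_36 (p : ℕ) : wapp px (base.getD 36 []) p = R36 p := by
  show wapp px [3, 0, 3, 0, 10, 10, 10] p = _
  simp only [wapp_cons, wapp_nil, px_c0, px_c1, px_c2, px_c3, px_c4, px_c5, px_c6, px_c7, px_c8, px_c9, px_c10]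
  rfl

theorem hfixk_37 : ∀ p < N, R37 p = p := by
  intro p hp
  have hp' : p < 70866 := hp
  by_cases g0 : p < 28959
  · exact chkFix_spec chkR37_0 p (by omega) (by omega)
  by_cases g1 : p < 64673
  · exact chkFix_spec chkR37_1 p (by omega) (by omega)
  exact chkFix_spec chkR37_2 p (by omega) (by omega)

theorem hfixw_37 (p : ℕ) : wapp px (base.getD 37 []) p = R37 p := by
  show wapp px [3, 1, 3, 1, 10, 10, 10] p = _
  simp only [wapp_cons, wapp_nil, px_c0, px_c1, px_c2, px_c3, px_c4, px_c5, px_c6, px_c7, px_c8, px_c9, px_c10]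
  rfl

theorem hfixk_38 : ∀ p < N, R38 p = p := by
  intro p hp
  have hp' : p < 70866 := hp
  by_cases g0 : p < 12915
  · exact chkFix_spec chkR38_0 p (by omega) (by omega)
  by_cases g1 : p < 28540
  · exact chkFix_spec chkR38_1 p (by omega) (by omega)
  by_cases g2 : p < 44165
  · exact chkFix_spec chkR38_2 p (by omega) (by omega)
  by_cases g3 : p < 59790
  · exact chkFix_spec chkR38_3 p (by omega) (by omega)
  exact chkFix_spec chkR38_4 p (by omega) (by omega)

theorem hfixw_38 (p : ℕ) : wapp px (base.getD 38 []) p = R38 p := by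
  show wapp px [3, 2, 3, 2, 3, 2, 3, 2, 3, 2, 3, 2, 3, 2, 3, 2] p = _
  simp only [wapp_cons, wapp_nil, px_c0, px_c1, px_c2, px_c3, px_c4, px_c5, px_c6, px_c7, px_c8, px_c9, px_c10]
  rfl

theorem hfixk_39 : ∀ p < N, R39 p = p := by
  intro p hp
  have hp' : p < 70866 := hp
  by_cases g0 : p < 12130
  · exact chkFix_spec chkR39_0 p (by omega) (by omega)
  by_cases g1 : p < 53796
  · exact chkFix_spec chkR39_1 p (by omega) (by omega)
  exact chkFix_spec chkR39_2 p (by omega) (by omega)

theorem hfixw_39 (p : ℕ) : wapp px (base.getD 39 []) p = R39 p := by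
  show wapp px [3, 4, 3, 4, 3, 4] p = _
  simp only [wapp_cons, wapp_nil, px_c0, px_c1, px_c2, px_c3, px_c4, px_c5, px_c6, px_c7, px_c8, px_c9, px_c10]
  rfl

theorem hfixk_40 : ∀ p < N, R40 p = p := by
  intro p hp
  have hp' : p < 70866 := hp
  by_cases g0 : p < 21082
  · exact chkFix_spec chkR40_0 p (by omega) (by omega)
  by_cases g1 : p < 56796
  · exact chkFix_spec chkR40_1 p (by omega) (by omega)
  exact chkFix_spec chkR40_2 p (by omega) (by omega)

theorem hfixw_40 (p : ℕ) : wapp px (base.getD 40 []) p = R40 p := by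
  show wapp px [3, 5, 3, 5, 10, 10, 10] p = _
  simp only [wapp_cons, wapp_nil, px_c0, px_c1, px_c2, px_c3, px_c4, px_c5, px_c6, px_c7, px_c8, px_c9, px_c10]
  rfl

theorem hfixk_41 : ∀ p < N, R41 p = p := by
  intro p hp
  have hp' : p < 70866 := hp
  by_cases g0 : p < 21644
  · exact chkFix_spec chkR41_0 p (by omega) (by omega)
  by_cases g1 : p < 57358
  · exact chkFix_spec chkR41_1 p (by omega) (by omega)
  exact chkFix_spec chkR41_2 p (by omega) (by omega)

theorem hfixw_41 (p : ℕ) : wapp px (base.getD 41 []) p = R41 p := by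
  show wapp px [3, 6, 3, 6, 10, 10, 10] p = _
  simp only [wapp_cons, wapp_nil, px_c0, px_c1, px_c2, px_c3, px_c4, px_c5, px_c6, px_c7, px_c8, px_c9, px_c10]
  rfl

theorem hfixk_42 : ∀ p < N, R42 p = p := by
  intro p hp
  have hp' : p < 70866 := hp
  by_cases g0 : p < 22206
  · exact chkFix_spec chkR42_0 p (by omega) (by omega)
  by_cases g1 : p < 57920
  · exact chkFix_spec chkR42_1 p (by omega) (by omega)
  exact chkFix_spec chkR42_2 p (by omega) (by omega)

theorem hfixw_42 (p : ℕ) : wapp px (base.getD 42 []) p = R42 p := by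
  show wapp px [4, 0, 4, 0, 10, 10, 10] p = _
  simp only [wapp_cons, wapp_nil, px_c0, px_c1, px_c2, px_c3, px_c4, px_c5, px_c6, px_c7, px_c8, px_c9, px_c10]
  rfl

theorem hfixk_43 : ∀ p < N, R43 p = p := by
  intro p hp
  have hp' : p < 70866 := hp
  by_cases g0 : p < 22768
  · exact chkFix_spec chkR43_0 p (by omega) (by omega)
  by_cases g1 : p < 58482
  · exact chkFix_spec chkR43_1 p (by omega) (by omega)
  exact chkFix_spec chkR43_2 p (by omega) (by omega)

theorem hfixw_43 (p : ℕ) : wapp px (base.getD 43 []) p = R43 p := by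
  show wapp px [4, 1, 4, 1, 10, 10, 10] p = _
  simp only [wapp_cons, wapp_nil, px_c0, px_c1, px_c2, px_c3, px_c4, px_c5, px_c6, px_c7, px_c8, px_c9, px_c10]
  rfl

theorem hfixk_44 : ∀ p < N, R44 p = p := by
  intro p hp
  have hp' : p < 70866 := hp
  by_cases g0 : p < 23330
  · exact chkFix_spec chkR44_0 p (by omega) (by omega)
  by_cases g1 : p < 59044
  · exact chkFix_spec chkR44_1 p (by omega) (by omega)
  exact chkFix_spec chkR44_2 p (by omega) (by omega)

theorem hfixw_44 (p : ℕ) : wapp px (base.getD 44 []) p = R44 p := by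
  show wapp px [4, 2, 4, 2, 10, 10, 10] p = _
  simp only [wapp_cons, wapp_nil, px_c0, px_c1, px_c2, px_c3, px_c4, px_c5, px_c6, px_c7, px_c8, px_c9, px_c10]
  rfl

theorem hfixk_45 : ∀ p < N, R45 p = p := by
  intro p hp
  have hp' : p < 70866 := hp
  by_cases g0 : p < 27874
  · exact chkFix_spec chkR45_0 p (by omega) (by omega)
  by_cases g1 : p < 69540
  · exact chkFix_spec chkR45_1 p (by omega) (by omega)
  exact chkFix_spec chkR45_2 p (by omega) (by omega)

theorem hfixw_45 (p : ℕ) : wapp px (base.getD 45 []) p = R45 p := by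
  show wapp px [4, 3, 4, 3, 4, 3] p = _
  simp only [wapp_cons, wapp_nil, px_c0, px_c1, px_c2, px_c3, px_c4, px_c5, px_c6, px_c7, px_c8, px_c9, px_c10]
  rfl

theorem hfixk_46 : ∀ p < N, R46 p = p := by
  intro p hp
  have hp' : p < 70866 := hp
  by_cases g0 : p < 34577
  · exact chkFix_spec chkR46_0 p (by omega) (by omega)
  by_cases g1 : p < 70291
  · exact chkFix_spec chkR46_1 p (by omega) (by omega)
  exact chkFix_spec chkR46_2 p (by omega) (by omega)

theorem hfixw_46 (p : ℕ) : wapp px (base.getD 46 []) p = R46 p := by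
  show wapp px [4, 5, 4, 5, 10, 10, 10] p = _
  simp only [wapp_cons, wapp_nil, px_c0, px_c1, px_c2, px_c3, px_c4, px_c5, px_c6, px_c7, px_c8, px_c9, px_c10]
  rfl

theorem hfixk_47 : ∀ p < N, R47 p = p := by
  intro p hp
  have hp' : p < 70866 := hp
  by_cases g0 : p < 35139
  · exact chkFix_spec chkR47_0 p (by omega) (by omega)
  by_cases g1 : p < 70853
  · exact chkFix_spec chkR47_1 p (by omega) (by omega)
  exact chkFix_spec chkR47_2 p (by omega) (by omega)

theorem hfixw_47 (p : ℕ) : wapp px (base.getD 47 []) p = R47 p := by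
  show wapp px [4, 6, 4, 6, 10, 10, 10] p = _
  simp only [wapp_cons, wapp_nil, px_c0, px_c1, px_c2, px_c3, px_c4, px_c5, px_c6, px_c7, px_c8, px_c9, px_c10]
  rfl

theorem hfixk_48 : ∀ p < N, R48 p = p := by
  intro p hp
  have hp' : p < 70866 := hp
  by_cases g0 : p < 62477
  · exact chkFix_spec chkR48_0 p (by omega) (by omega)
  exact chkFix_spec chkR48_1 p (by omega) (by omega)

theorem hfixw_48 (p : ℕ) : wapp px (base.getD 48 []) p = R48 p := by
  show wapp px [5, 0, 5, 0] p = _
  simp only [wapp_cons, wapp_nil, px_c0, px_c1, px_c2, px_c3, px_c4, px_c5, px_c6, px_c7, px_c8, px_c9, px_c10]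
  rfl

theorem hfixk_49 : ∀ p < N, R49 p = p := by
  intro p hp
  have hp' : p < 70866 := hp
  by_cases g0 : p < 36074
  · exact chkFix_spec chkR49_0 p (by omega) (by omega)
  exact chkFix_spec chkR49_1 p (by omega) (by omega)

theorem hfixw_49 (p : ℕ) : wapp px (base.getD 49 []) p = R49 p := by
  show wapp px [5, 1, 5, 1, 5, 1] p = _
  simp only [wapp_cons, wapp_nil, px_c0, px_c1, px_c2, px_c3, px_c4, px_c5, px_c6, px_c7, px_c8, px_c9, px_c10]
  rfl

theorem hfixk_50 : ∀ p < N, R50 p = p := by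
  intro p hp
  have hp' : p < 70866 := hp
  by_cases g0 : p < 10312
  · exact chkFix_spec chkR50_0 p (by omega) (by omega)
  exact chkFix_spec chkR50_1 p (by omega) (by omega)

theorem hfixw_50 (p : ℕ) : wapp px (base.getD 50 []) p = R50 p := by
  show wapp px [5, 2, 5, 2] p = _
  simp only [wapp_cons, wapp_nil, px_c0, px_c1, px_c2, px_c3, px_c4, px_c5, px_c6, px_c7, px_c8, px_c9, px_c10]
  rfl

theorem hfixk_51 : ∀ p < N, R51 p = p := by
  intro p hp
  have hp' : p < 70866 := hp
  by_cases g0 : p < 1112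
  · exact chkFix_spec chkR51_0 p (by omega) (by omega)
  by_cases g1 : p < 36826
  · exact chkFix_spec chkR51_1 p (by omega) (by omega)
  exact chkFix_spec chkR51_2 p (by omega) (by omega)

theorem hfixw_51 (p : ℕ) : wapp px (base.getD 51 []) p = R51 p := by
  show wapp px [5, 3, 5, 3, 10, 10, 10] p = _
  simp only [wapp_cons, wapp_nil, px_c0, px_c1, px_c2, px_c3, px_c4, px_c5, px_c6, px_c7, px_c8, px_c9, px_c10]
  rfl

theorem hfixk_52 : ∀ p < N, R52 p = p := by
  intro p hp
  have hp' : p < 70866 := hp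
  by_cases g0 : p < 1674
  · exact chkFix_spec chkR52_0 p (by omega) (by omega)
  by_cases g1 : p < 37388
  · exact chkFix_spec chkR52_1 p (by omega) (by omega)
  exact chkFix_spec chkR52_2 p (by omega) (by omega)

theorem hfixw_52 (p : ℕ) : wapp px (base.getD 52 []) p = R52 p := by
  show wapp px [5, 4, 5, 4, 10, 10, 10] p = _
  simp only [wapp_cons, wapp_nil, px_c0, px_c1, px_c2, px_c3, px_c4, px_c5, px_c6, px_c7, px_c8, px_c9, px_c10]
  rfl

theorem hfixk_53 : ∀ p < N, R53 p = p := by
  intro p hp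
  have hp' : p < 70866 := hp
  by_cases g0 : p < 1956
  · exact chkFix_spec chkR53_0 p (by omega) (by omega)
  by_cases g1 : p < 33206
  · exact chkFix_spec chkR53_1 p (by omega) (by omega)
  by_cases g2 : p < 64456
  · exact chkFix_spec chkR53_2 p (by omega) (by omega)
  exact chkFix_spec chkR53_3 p (by omega) (by omega)

theorem hfixw_53 (p : ℕ) : wapp px (base.getD 53 []) p = R53 p := by
  show wapp px [5, 6, 5, 6, 5, 6, 5, 6] p = _
  simp only [wapp_cons, wapp_nil, px_c0, px_c1, px_c2, px_c3, px_c4, px_c5, px_c6, px_c7, px_c8, px_c9, px_c10]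
  rfl

theorem hfixk_54 : ∀ p < N, R54 p = p := by
  intro p hp
  have hp' : p < 70866 := hp
  by_cases g0 : p < 49680
  · exact chkFix_spec chkR54_0 p (by omega) (by omega)
  exact chkFix_spec chkR54_1 p (by omega) (by omega)

theorem hfixw_54 (p : ℕ) : wapp px (base.getD 54 []) p = R54 p := by
  show wapp px [6, 0, 6, 0] p = _
  simp only [wapp_cons, wapp_nil, px_c0, px_c1, px_c2, px_c3, px_c4, px_c5, px_c6, px_c7, px_c8, px_c9, px_c10]
  rfl

theorem hfixk_55 : ∀ p < N, R55 p = p := by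
  intro p hp
  have hp' : p < 70866 := hp
  by_cases g0 : p < 27542
  · exact chkFix_spec chkR55_0 p (by omega) (by omega)
  by_cases g1 : p < 69208
  · exact chkFix_spec chkR55_1 p (by omega) (by omega)
  exact chkFix_spec chkR55_2 p (by omega) (by omega)

theorem hfixw_55 (p : ℕ) : wapp px (base.getD 55 []) p = R55 p := by
  show wapp px [6, 1, 6, 1, 6, 1] p = _
  simp only [wapp_cons, wapp_nil, px_c0, px_c1, px_c2, px_c3, px_c4, px_c5, px_c6, px_c7, px_c8, px_c9, px_c10]
  rfl

theorem hfixk_56 : ∀ p < N, R56 p = p := by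
  intro p hp
  have hp' : p < 70866 := hp
  by_cases g0 : p < 60013
  · exact chkFix_spec chkR56_0 p (by omega) (by omega)
  exact chkFix_spec chkR56_1 p (by omega) (by omega)

theorem hfixw_56 (p : ℕ) : wapp px (base.getD 56 []) p = R56 p := by
  show wapp px [6, 2, 6, 2] p = _
  simp only [wapp_cons, wapp_nil, px_c0, px_c1, px_c2, px_c3, px_c4, px_c5, px_c6, px_c7, px_c8, px_c9, px_c10]
  rfl

theorem hfixk_57 : ∀ p < N, R57 p = p := by
  intro p hp
  have hp' : p < 70866 := hp
  by_cases g0 : p < 29512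
  · exact chkFix_spec chkR57_0 p (by omega) (by omega)
  by_cases g1 : p < 65226
  · exact chkFix_spec chkR57_1 p (by omega) (by omega)
  exact chkFix_spec chkR57_2 p (by omega) (by omega)

theorem hfixw_57 (p : ℕ) : wapp px (base.getD 57 []) p = R57 p := by
  show wapp px [6, 3, 6, 3, 10, 10, 10] p = _
  simp only [wapp_cons, wapp_nil, px_c0, px_c1, px_c2, px_c3, px_c4, px_c5, px_c6, px_c7, px_c8, px_c9, px_c10]
  rfl

theorem hfixk_58 : ∀ p < N, R58 p = p := by
  intro p hp
  have hp' : p < 70866 := hp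
  by_cases g0 : p < 30074
  · exact chkFix_spec chkR58_0 p (by omega) (by omega)
  by_cases g1 : p < 65788
  · exact chkFix_spec chkR58_1 p (by omega) (by omega)
  exact chkFix_spec chkR58_2 p (by omega) (by omega)

theorem hfixw_58 (p : ℕ) : wapp px (base.getD 58 []) p = R58 p := by
  show wapp px [6, 4, 6, 4, 10, 10, 10] p = _
  simp only [wapp_cons, wapp_nil, px_c0, px_c1, px_c2, px_c3, px_c4, px_c5, px_c6, px_c7, px_c8, px_c9, px_c10]
  rfl

theorem hfixk_59 : ∀ p < N, R59 p = p := by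
  intro p hp
  have hp' : p < 70866 := hp
  by_cases g0 : p < 26806
  · exact chkFix_spec chkR59_0 p (by omega) (by omega)
  by_cases g1 : p < 58056
  · exact chkFix_spec chkR59_1 p (by omega) (by omega)
  exact chkFix_spec chkR59_2 p (by omega) (by omega)

theorem hfixw_59 (p : ℕ) : wapp px (base.getD 59 []) p = R59 p := by
  show wapp px [6, 5, 6, 5, 6, 5, 6, 5] p = _
  simp only [wapp_cons, wapp_nil, px_c0, px_c1, px_c2, px_c3, px_c4, px_c5, px_c6, px_c7, px_c8, px_c9, px_c10]
  rfl

theorem hfixk_60 : ∀ p < N, R60 p = p := by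
  intro p hp
  have hp' : p < 70866 := hp
  by_cases g0 : p < 16391
  · exact chkFix_spec chkR60_0 p (by omega) (by omega)
  by_cases g1 : p < 44168
  · exact chkFix_spec chkR60_1 p (by omega) (by omega)
  exact chkFix_spec chkR60_2 p (by omega) (by omega)

theorem hfixw_60 (p : ℕ) : wapp px (base.getD 60 []) p = R60 p := by
  show wapp px [0, 3, 2, 3, 2, 3, 2, 3, 2] p = _
  simp only [wapp_cons, wapp_nil, px_c0, px_c1, px_c2, px_c3, px_c4, px_c5, px_c6, px_c7, px_c8, px_c9, px_c10]
  rfl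

theorem hfixk_61 : ∀ p < N, R61 p = p := by
  intro p hp
  have hp' : p < 70866 := hp
  by_cases g0 : p < 1943
  · exact chkFix_spec chkR61_0 p (by omega) (by omega)
  by_cases g1 : p < 51943
  · exact chkFix_spec chkR61_1 p (by omega) (by omega)
  exact chkFix_spec chkR61_2 p (by omega) (by omega)

theorem hfixw_61 (p : ℕ) : wapp px (base.getD 61 []) p = R61 p := by
  show wapp px [0, 6, 5, 6, 5] p = _
  simp only [wapp_cons, wapp_nil, px_c0, px_c1, px_c2, px_c3, px_c4, px_c5, px_c6, px_c7, px_c8, px_c9, px_c10]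
  rfl

theorem hfixk_62 : ∀ p < N, R62 p = p := by
  intro p hp
  have hp' : p < 70866 := hp
  by_cases g0 : p < 6755
  · exact chkFix_spec chkR62_0 p (by omega) (by omega)
  by_cases g1 : p < 17624
  · exact chkFix_spec chkR62_1 p (by omega) (by omega)
  by_cases g2 : p < 28493
  · exact chkFix_spec chkR62_2 p (by omega) (by omega)
  by_cases g3 : p < 39362
  · exact chkFix_spec chkR62_3 p (by omega) (by omega)
  by_cases g4 : p < 50231
  · exact chkFix_spec chkR62_4 p (by omega) (by omega)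
  by_cases g5 : p < 61100
  · exact chkFix_spec chkR62_5 p (by omega) (by omega)
  exact chkFix_spec chkR62_6 p (by omega) (by omega)

theorem hfixw_62 (p : ℕ) : wapp px (base.getD 62 []) p = R62 p := by
  show wapp px [0, 1, 2, 5, 0, 1, 2, 5, 0, 1, 2, 5, 0, 1, 2, 5, 0, 1, 2, 5, 10, 10, 10] p = _
  simp only [wapp_cons, wapp_nil, px_c0, px_c1, px_c2, px_c3, px_c4, px_c5, px_c6, px_c7, px_c8, px_c9, px_c10]
  rfl

theorem hfixk_63 : ∀ p < N, R63 p = p := by
  intro p hp
  have hp' : p < 70866 := hp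
  by_cases g0 : p < 1335
  · exact chkFix_spec chkR63_0 p (by omega) (by omega)
  by_cases g1 : p < 14492
  · exact chkFix_spec chkR63_1 p (by omega) (by omega)
  by_cases g2 : p < 27649
  · exact chkFix_spec chkR63_2 p (by omega) (by omega)
  by_cases g3 : p < 40806
  · exact chkFix_spec chkR63_3 p (by omega) (by omega)
  by_cases g4 : p < 53963
  · exact chkFix_spec chkR63_4 p (by omega) (by omega)
  by_cases g5 : p < 67120
  · exact chkFix_spec chkR63_5 p (by omega) (by omega)
  exact chkFix_spec chkR63_6 p (by omega) (by omega)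

theorem hfixw_63 (p : ℕ) : wapp px (base.getD 63 []) p = R63 p := by
  show wapp px [1, 5, 6, 1, 5, 6, 1, 5, 6, 1, 5, 6, 1, 5, 6, 10, 10, 10, 10] p = _
  simp only [wapp_cons, wapp_nil, px_c0, px_c1, px_c2, px_c3, px_c4, px_c5, px_c6, px_c7, px_c8, px_c9, px_c10]
  rfl

theorem hfixk_64 : ∀ p < N, R64 p = p := by
  intro p hp
  have hp' : p < 70866 := hp
  by_cases g0 : p < 2292
  · exact chkFix_spec chkR64_0 p (by omega) (by omega)
  by_cases g1 : p < 5497
  · exact chkFix_spec chkR64_1 p (by omega) (by omega)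
  by_cases g2 : p < 8702
  · exact chkFix_spec chkR64_2 p (by omega) (by omega)
  by_cases g3 : p < 11907
  · exact chkFix_spec chkR64_3 p (by omega) (by omega)
  by_cases g4 : p < 15112
  · exact chkFix_spec chkR64_4 p (by omega) (by omega)
  by_cases g5 : p < 18317
  · exact chkFix_spec chkR64_5 p (by omega) (by omega)
  by_cases g6 : p < 21522
  · exact chkFix_spec chkR64_6 p (by omega) (by omega)
  by_cases g7 : p < 24727
  · exact chkFix_spec chkR64_7 p (by omega) (by omega)
  by_cases g8 : p < 27932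
  · exact chkFix_spec chkR64_8 p (by omega) (by omega)
  by_cases g9 : p < 31137
  · exact chkFix_spec chkR64_9 p (by omega) (by omega)
  by_cases g10 : p < 34342
  · exact chkFix_spec chkR64_10 p (by omega) (by omega)
  by_cases g11 : p < 37547
  · exact chkFix_spec chkR64_11 p (by omega) (by omega)
  by_cases g12 : p < 40752
  · exact chkFix_spec chkR64_12 p (by omega) (by omega)
  by_cases g13 : p < 43957
  · exact chkFix_spec chkR64_13 p (by omega) (by omega)
  by_cases g14 : p < 47162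
  · exact chkFix_spec chkR64_14 p (by omega) (by omega)
  by_cases g15 : p < 50367
  · exact chkFix_spec chkR64_15 p (by omega) (by omega)
  by_cases g16 : p < 53572
  · exact chkFix_spec chkR64_16 p (by omega) (by omega)
  by_cases g17 : p < 56777
  · exact chkFix_spec chkR64_17 p (by omega) (by omega)
  by_cases g18 : p < 59982
  · exact chkFix_spec chkR64_18 p (by omega) (by omega)
  by_cases g19 : p < 63187
  · exact chkFix_spec chkR64_19 p (by omega) (by omega)
  by_cases g20 : p < 66392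
  · exact chkFix_spec chkR64_20 p (by omega) (by omega)
  by_cases g21 : p < 69597
  · exact chkFix_spec chkR64_21 p (by omega) (by omega)
  exact chkFix_spec chkR64_22 p (by omega) (by omega)

theorem hfixw_64 (p : ℕ) : wapp px (base.getD 64 []) p = R64 p := by
  show wapp px [1, 2, 3, 2, 3, 1, 2, 3, 2, 3, 1, 2, 3, 2, 3, 1, 2, 3, 2, 3, 1, 2, 3, 2, 3, 4, 1, 2, 3, 2, 3, 1, 2, 3, 2, 3, 1, 2, 3, 2, 3, 1, 2, 3, 2, 3, 1, 2, 3, 2, 3, 4, 1, 2, 3, 2, 3, 1, 2, 3, 2, 3, 1, 2, 3, 2, 3, 1, 2, 3, 2, 3, 1, 2, 3, 2, 3, 4] p = _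
  simp only [wapp_cons, wapp_nil, px_c0, px_c1, px_c2, px_c3, px_c4, px_c5, px_c6, px_c7, px_c8, px_c9, px_c10]
  rfl

theorem hfix_k : ∀ k < 65, ∀ p < N, wapp px (base.getD k []) p = p := by
  intro k hk
  interval_cases k
  · intro p hp
    rw [hfixw_0]
    exact hfixk_0 p hp
  · intro p hp
    rw [hfixw_1]
    exact hfixk_1 p hp
  · intro p hp
    rw [hfixw_2]
    exact hfixk_2 p hp
  · intro p hp
    rw [hfixw_3]
    exact hfixk_3 p hp
  · intro p hp
    rw [hfixw_4]
    exact hfixk_4 p hp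
  · intro p hp
    rw [hfixw_5]
    exact hfixk_5 p hp
  · intro p hp
    rw [hfixw_6]
    exact hfixk_6 p hp
  · intro p hp
    rw [hfixw_7]
    exact hfixk_7 p hp
  · intro p hp
    rw [hfixw_8]
    exact hfixk_8 p hp
  · intro p hp
    rw [hfixw_9]
    exact hfixk_9 p hp
  · intro p hp
    rw [hfixw_10]
    exact hfixk_10 p hp
  · intro p hp
    rw [hfixw_11]
    exact hfixk_11 p hp
  · intro p hp
    rw [hfixw_12]
    exact hfixk_12 p hp
  · intro p hp
    rw [hfixw_13]
    exact hfixk_13 p hp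
  · intro p hp
    rw [hfixw_14]
    exact hfixk_14 p hp
  · intro p hp
    rw [hfixw_15]
    exact hfixk_15 p hp
  · intro p hp
    rw [hfixw_16]
    exact hfixk_16 p hp
  · intro p hp
    rw [hfixw_17]
    exact hfixk_17 p hp
  · intro p hp
    rw [hfixw_18]
    exact hfixk_18 p hp
  · intro p hp
    rw [hfixw_19]
    exact hfixk_19 p hp
  · intro p hp
    rw [hfixw_20]
    exact hfixk_20 p hp
  · intro p hp
    rw [hfixw_21]
    exact hfixk_21 p hp
  · intro p hp
    rw [hfixw_22]
    exact hfixk_22 p hp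
  · intro p hp
    rw [hfixw_23]
    exact hfixk_23 p hp
  · intro p hp
    rw [hfixw_24]
    exact hfixk_24 p hp
  · intro p hp
    rw [hfixw_25]
    exact hfixk_25 p hp
  · intro p hp
    rw [hfixw_26]
    exact hfixk_26 p hp
  · intro p hp
    rw [hfixw_27]
    exact hfixk_27 p hp
  · intro p hp
    rw [hfixw_28]
    exact hfixk_28 p hp
  · intro p hp
    rw [hfixw_29]
    exact hfixk_29 p hp
  · intro p hp
    rw [hfixw_30]
    exact hfixk_30 p hp
  · intro p hp
    rw [hfixw_31]
    exact hfixk_31 p hp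
  · intro p hp
    rw [hfixw_32]
    exact hfixk_32 p hp
  · intro p hp
    rw [hfixw_33]
    exact hfixk_33 p hp
  · intro p hp
    rw [hfixw_34]
    exact hfixk_34 p hp
  · intro p hp
    rw [hfixw_35]
    exact hfixk_35 p hp
  · intro p hp
    rw [hfixw_36]
    exact hfixk_36 p hp
  · intro p hp
    rw [hfixw_37]
    exact hfixk_37 p hp
  · intro p hp
    rw [hfixw_38]
    exact hfixk_38 p hp
  · intro p hp
    rw [hfixw_39]
    exact hfixk_39 p hp
  · intro p hp
    rw [hfixw_40]
    exact hfixk_40 p hp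
  · intro p hp
    rw [hfixw_41]
    exact hfixk_41 p hp
  · intro p hp
    rw [hfixw_42]
    exact hfixk_42 p hp
  · intro p hp
    rw [hfixw_43]
    exact hfixk_43 p hp
  · intro p hp
    rw [hfixw_44]
    exact hfixk_44 p hp
  · intro p hp
    rw [hfixw_45]
    exact hfixk_45 p hp
  · intro p hp
    rw [hfixw_46]
    exact hfixk_46 p hp
  · intro p hp
    rw [hfixw_47]
    exact hfixk_47 p hp
  · intro p hp
    rw [hfixw_48]
    exact hfixk_48 p hp
  · intro p hp
    rw [hfixw_49]
    exact hfixk_49 p hp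
  · intro p hp
    rw [hfixw_50]
    exact hfixk_50 p hp
  · intro p hp
    rw [hfixw_51]
    exact hfixk_51 p hp
  · intro p hp
    rw [hfixw_52]
    exact hfixk_52 p hp
  · intro p hp
    rw [hfixw_53]
    exact hfixk_53 p hp
  · intro p hp
    rw [hfixw_54]
    exact hfixk_54 p hp
  · intro p hp
    rw [hfixw_55]
    exact hfixk_55 p hp
  · intro p hp
    rw [hfixw_56]
    exact hfixk_56 p hp
  · intro p hp
    rw [hfixw_57]
    exact hfixk_57 p hp
  · intro p hp
    rw [hfixw_58]
    exact hfixk_58 p hp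
  · intro p hp
    rw [hfixw_59]
    exact hfixk_59 p hp
  · intro p hp
    rw [hfixw_60]
    exact hfixk_60 p hp
  · intro p hp
    rw [hfixw_61]
    exact hfixk_61 p hp
  · intro p hp
    rw [hfixw_62]
    exact hfixk_62 p hp
  · intro p hp
    rw [hfixw_63]
    exact hfixk_63 p hp
  · intro p hp
    rw [hfixw_64]
    exact hfixk_64 p hp

theorem hfix : ∀ b ∈ base, ∀ p < N, wapp px b p = p := by
  intro b hb
  obtain ⟨k, hk, rfl⟩ := List.mem_iff_getElem.mp hb
  have hk' : k < 65 := hk
  have := hfix_k k hk'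
  rw [List.getD_eq_getElem _ _ hk] at this
  exact this

end Cfsg.Agent.Lib.Helper6.Suz6Rep
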