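import Cfsg.Agent.S1680
import Cfsg.Agent.Lib.Helper6.WP3
import Cfsg.Agent.Lib.Helper6.TCP.Suz
import Cfsg.Agent.Lib.Helper6.TCD.SuzU1.Idx
import Cfsg.Agent.Lib.Helper6.TCD.SuzU2.Idx
import Cfsg.Agent.Lib.Helper6.TCD.SuzU3.Idx
import Cfsg.Agent.Lib.Helper6.TCD.SuzU4.Idx

set_option autoImplicit false
set_option maxRecDepth 100000

namespace Cfsg.Agent.Lib.Helper6.SuzUB

open Cfsg.Spor Cfsg.Agent.Lib.Helper6.TC Cfsg.Agent.Lib.Helper6.TCD

/-! # The order of the presented group Suz is at most 448345497600 -/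

theorem u4 : Finite (WG 3 SuzU4.base) ∧ Nat.card (WG 3 SuzU4.base) ≤ 20 :=
  wp_bottom SuzU4.idx

theorem u3 : Finite (WG 4 SuzU3.base) ∧ Nat.card (WG 4 SuzU3.base) ≤ 108 * 20 :=
  wp_step (k := 4) (k' := 3) (fun i => [0, 1, 3].getD i 0) SuzU3.idx (by decide) SuzU4.hbl
    (by decide +kernel) u4

theorem u2 : Finite (WG 5 SuzU2.base) ∧ Nat.card (WG 5 SuzU2.base) ≤ 280 * (108 * 20) :=
  wp_step (k := 5) (k' := 4) (fun i => i) SuzU2.idx (by decide) SuzU3.hbl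
    (by decide +kernel) u3

theorem u1 : Finite (WG 6 SuzU1.base) ∧ Nat.card (WG 6 SuzU1.base) ≤ 416 * (280 * (108 * 20)) :=
  wp_step (k := 6) (k' := 5) (fun i => i) SuzU1.idx (by decide) SuzU2.hbl
    (by decide +kernel) u2

/-- the set of the generators of the subgroup of index 1782 -/
abbrev S : Set (FreeGroup Suz.Gen) := {Suz.a, Suz.b, Suz.c, Suz.d, Suz.e, Suz.f}

theorem hS : ∀ s ∈ S, ∃ i < 6, s = ceOf TCP.Suz.gc ((fun i => i) i) := by
  intro s hs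
  simp only [S, Set.mem_insert_iff, Set.mem_singleton_iff] at hs
  rcases hs with rfl | rfl | rfl | rfl | rfl | rfl
  · exact ⟨0, by decide, rfl⟩
  · exact ⟨1, by decide, rfl⟩
  · exact ⟨2, by decide, rfl⟩
  · exact ⟨3, by decide, rfl⟩
  · exact ⟨4, by decide, rfl⟩
  · exact ⟨5, by decide, rfl⟩

theorem card_le : Finite Suz ∧ Nat.card Suz ≤ 448345497600 := by
  have hidx : (subH TCP.Suz.Rels S).index = 1782 := Cfsg.Agent.S1680.result.1
  have h := top_step (rels := TCP.Suz.Rels) (gc := TCP.Suz.gc) (S := S) (k' := 6)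
    (base := TCP.Suz.base) (base' := SuzU1.base) (fun i => i)
    ⟨hidx.le, by rw [hidx]; decide⟩ TCP.Suz.hbase hS SuzU1.hbl (by decide +kernel) u1
  exact ⟨h.1, h.2.trans (by norm_num)⟩

end Cfsg.Agent.Lib.Helper6.SuzUB
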