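import Cfsg.Agent.Lib.Helper6.Spor.Fi22UB
import Cfsg.Agent.Lib.Helper6.TCP.U62
import Cfsg.Agent.Lib.Helper6.TCD.U62K.Idx
import Cfsg.Agent.Lib.Helper6.TCD.U62E.Idx

set_option autoImplicit false
set_option maxRecDepth 100000

namespace Cfsg.Agent.Lib.Helper6.U62UB

open Cfsg.Agent.Lib.Helper6.TC Cfsg.Agent.Lib.Helper6.TCD

/-! # The order of the group `U62` presented by words is at most 9196830720 -/

theorem base_eq : TCP.U62.base = U62K.base := rfl

/-- the subgroup generated by `c, d, e, f, h, i` of the group presented by the relators between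
`c, d, e, f, g, h, i` has index at most 28, and is a quotient of the Weyl group of type `E₆` -/
theorem uE : Finite (WG 7 U62E.base) ∧ Nat.card (WG 7 U62E.base) ≤ 28 * (27 * (10 * (192))) :=
  wp_step (k := 7) (k' := 6) (fun i => [6, 5, 1, 2, 3, 0].getD i 0) U62E.idx (by decide)
    Fi22U3.hbl (by decide +kernel) Fi22UB.u3

theorem uK : Finite (WG 8 U62K.base) ∧
    Nat.card (WG 8 U62K.base) ≤ 6336 * (28 * (27 * (10 * (192)))) :=
  wp_step (k := 8) (k' := 7) (fun i => i) U62K.idx (by decide) U62E.hbl (by decide +kernel) uE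

theorem card_le : Finite TCP.U62.G ∧ Nat.card TCP.U62.G ≤ 9196830720 := by
  have h := uK
  rw [← base_eq] at h
  exact ⟨h.1, h.2.trans (by norm_num)⟩

end Cfsg.Agent.Lib.Helper6.U62UB
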