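import Cfsg.Agent.Lib.Helper6.Spor.Y422Ord
import Cfsg.Agent.Lib.Helper6.Simp2

set_option autoImplicit false

namespace Cfsg.Agent.Lib.Helper6.Y422Spider

open Cfsg.Agent.Lib.Helper6.TC Cfsg.Agent.Lib.Helper6.TCD
open Cfsg.Agent.Lib.Helper6.TCP.Y422

/-! # The spider relation holds in the group `Y422` -/

/-- the spider word `d c b d e f d h i` (columns `a, b, c, d, e, f, h, i, k = 0, …, 8`) -/
def spider : List ℕ := [3, 2, 1, 3, 4, 5, 3, 6, 7]

set_option maxRecDepth 100000 in
theorem hfixS : chkFix (fun q => wapp Y422a.px (List.replicate 10 spider).flatten q) 0 1080 = true := by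
  decide +kernel

/-- the tenth power of the spider word is trivial in the group `Y422` -/
theorem spider_pow : (PresentedGroup.mk Rels (wordElt gc spider)) ^ 10 = 1 := by
  obtain ⟨φ, hw, _, _, hinj, _, _⟩ := Y422Ord.rep
  rw [← map_pow, ← wordElt_flatten_replicate]
  refine mk_eq_one_of_fix hinj hw (by decide) ?_
  intro q hq
  exact chkFix_spec hfixS q (Nat.zero_le q) (by omega)

end Cfsg.Agent.Lib.Helper6.Y422Spider
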