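import Cfsg.Agent.Lib.Helper6.Spor.Fi22UB
import Cfsg.Agent.Lib.Helper6.TCP.Y422
import Cfsg.Agent.Lib.Helper6.TCD.Y422K.Idx
import Cfsg.Agent.Lib.Helper6.TCD.Y422P.Idx
import Cfsg.Agent.Lib.Helper6.TCD.Y422E.Idx

set_option autoImplicit false
set_option maxRecDepth 100000

namespace Cfsg.Agent.Lib.Helper6.Y422UB

open Cfsg.Agent.Lib.Helper6.TC Cfsg.Agent.Lib.Helper6.TCD

/-! # The order of the group `Y422` presented by words is at most 9904359628800 -/

theorem base_eq : TCP.Y422.base = Y422K.base := rfl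

/-- the Coxeter group of type `E₇` on `a, b, c, d, e, f, h` has order at most `56 * 51840` -/
theorem uE : Finite (WG 7 Y422E.base) ∧ Nat.card (WG 7 Y422E.base) ≤ 56 * (27 * (10 * (192))) :=
  wp_step (k := 7) (k' := 6) (fun i => [1, 2, 3, 4, 5, 6].getD i 0) Y422E.idx (by decide)
    Fi22U3.hbl (by decide +kernel) Fi22UB.u3

/-- the quotient of the Coxeter group of type `E₈` on `a, b, c, d, e, f, h, k` by the relator
`(k (abcdefh)^9)^3` has order at most `120 * 56 * 51840` -/
theorem uP : Finite (WG 8 Y422P.base) ∧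
    Nat.card (WG 8 Y422P.base) ≤ 120 * (56 * (27 * (10 * (192)))) :=
  wp_step (k := 8) (k' := 7) (fun i => i) Y422P.idx (by decide) Y422E.hbl (by decide +kernel) uE

theorem uK : Finite (WG 9 Y422K.base) ∧
    Nat.card (WG 9 Y422K.base) ≤ 28431 * (120 * (56 * (27 * (10 * (192))))) :=
  wp_step (k := 9) (k' := 8) (fun i => [0, 1, 2, 3, 4, 5, 6, 8].getD i 0) Y422K.idx (by decide)
    Y422P.hbl (by decide +kernel) uP

theorem card_le : Finite TCP.Y422.G ∧ Nat.card TCP.Y422.G ≤ 9904359628800 := by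
  have h := uK
  rw [← base_eq] at h
  exact ⟨h.1, h.2.trans (by norm_num)⟩

end Cfsg.Agent.Lib.Helper6.Y422UB
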