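import Cfsg.Agent.Lib.Helper6.Spor.Y5UB
import Cfsg.Agent.Lib.Helper6.Spor.Fi23Ord
import Cfsg.Agent.Lib.Helper6.WP11
import Cfsg.Agent.Lib.Helper6.TCD.Y5W.All

set_option autoImplicit false
set_option maxRecDepth 100000

namespace Cfsg.Agent.Lib.Helper6.Y5Fi23

open Cfsg.Spor Cfsg.Agent.Lib.Helper6.TC Cfsg.Agent.Lib.Helper6.TCD
open Cfsg.Agent.Lib.Helper6.TCP.Fi23

/-! # The group `Y432` with the spider relation is `2 × Fi23`: identities between words -/

/-- the group presented by the diagram `Y432` and the spider relator -/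
abbrev RA : Type := WG 10 Y5R.base

theorem base_sub : ∀ b ∈ Y5R.base, b ∈ TCP.Fi23.base := by decide +kernel

theorem heven : ∀ b ∈ Y5R.base, b.length % 2 = 0 := by decide +kernel

theorem hrelπ : ∀ b ∈ Y5R.base,
    PresentedGroup.mk Rels (wordElt gc (b.map (fun c => c))) = 1 := by
  intro b hb
  rw [List.map_id']
  exact TCP.Fi23.hbase b (base_sub b hb)

/-- the homomorphism onto `Fi23` -/
noncomputable def π : RA →* Fi23 := wpHom (rels := Rels) (gc := gc) (fun c => c) Y5R.hbl hrelπ

theorem π_word (u : List ℕ) (hu : ∀ c ∈ u, c < 10) :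
    π (PresentedGroup.mk (wrels 10 Y5R.base) (wordElt (gcF 10) u)) =
      PresentedGroup.mk Rels (wordElt gc u) := by
  have := lift_wordElt_map (rels := Rels) (gc := gc) (k := 10) (fun c => c) u hu
  rw [List.map_id'] at this
  exact this

theorem π_surj : Function.Surjective π := by
  rw [← MonoidHom.range_eq_top, eq_top_iff, ← PresentedGroup.closure_range_of, Subgroup.closure_le]
  rintro _ ⟨g, rfl⟩
  refine ⟨PresentedGroup.mk (wrels 10 Y5R.base) (FreeGroup.of (Fin.ofNat 10 (col g))), ?_⟩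
  have := wpHom_of (rels := Rels) (gc := gc) (fun c => c) Y5R.hbl hrelπ (Fin.ofNat 10 (col g))
  rw [Fin.val_ofNat, Nat.mod_eq_of_lt (col_lt g), ceOf_gc] at this
  rw [show π = wpHom (rels := Rels) (gc := gc) (fun c => c) Y5R.hbl hrelπ from rfl, this]
  cases g <;> rfl

/-- the sign -/
noncomputable def sgn : RA →* ℤˣ := wgSign Y5R.hbl heven

/-- the word of the central involution -/
def zw : List ℕ := (List.replicate 9 [0, 1, 2, 3, 4, 5, 8]).flatten

theorem zw_mem : zw ∈ TCP.Fi23.base := by decide +kernel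

theorem zw_lt : ∀ c ∈ zw, c < 10 := by decide +kernel

theorem π_z : π (PresentedGroup.mk (wrels 10 Y5R.base) (wordElt (gcF 10) zw)) = 1 := by
  rw [π_word zw zw_lt]
  exact TCP.Fi23.hbase zw zw_mem

theorem sgn_z : sgn (PresentedGroup.mk (wrels 10 Y5R.base) (wordElt (gcF 10) zw)) ≠ 1 := by
  unfold sgn
  rw [wgSign_word Y5R.hbl heven zw zw_lt]
  decide

/-- a word of even length acting trivially on the `31671` points is trivial in `RA` -/
theorem ra_eq_one (u : List ℕ) (hu : ∀ c ∈ u, c < 10) (hev : u.length % 2 = 0)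
    (hfix : ∀ q < Fi23a.N, wapp Fi23a.px u q = q) :
    PresentedGroup.mk (wrels 10 Y5R.base) (wordElt (gcF 10) u) = 1 := by
  obtain ⟨φ, hw, _, hinj, hcard, hfin⟩ := Fi23Ord.rep
  haveI : Finite RA := Y5UB.card_le.1
  refine eq_one_of_ker_of_sign π π_surj sgn _ π_z sgn_z ?_ _ ?_ ?_
  · rw [hcard]
    exact Y5UB.card_le.2
  · rw [π_word u hu]
    exact mk_eq_one_of_fix hinj hw hu hfix
  · unfold sgn
    rw [wgSign_word Y5R.hbl heven u hu]
    obtain ⟨m, hm⟩ : ∃ m, u.length = 2 * m := ⟨u.length / 2, by omega⟩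
    rw [hm, pow_mul]
    simp

/-! ## The word `w = (d e c h f b g)^9` as the column `10` -/

/-- the word `w` -/
def w : List ℕ := (List.replicate 9 Y5W.w7).flatten

/-- the words of the columns `0, …, 10` -/
def cw (c : ℕ) : List ℕ := if c = 10 then w else [c]

theorem hW9 : ∀ p < Fi23a.N, wapp Fi23a.px w p = Y5W.W9 p := by
  intro p hp
  unfold w
  rw [wapp_pow Cfsg.Agent.S1689.hP (u := Y5W.w7) (by decide) (Q := Y5W.QW)
    (fun q hq => (Y5W.hQW q hq).symm) 9 p hp]
  unfold Y5W.W9
  simp only [Function.iterate_succ_apply, Function.iterate_zero_apply]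

theorem hcw : ∀ c < 11, (∀ d ∈ cw c, d < 10) ∧
    ∀ p < Fi23a.N, wapp Fi23a.px (cw c) p = Y5W.px2 c p := by
  intro c hc
  by_cases h10 : c = 10
  · subst h10
    refine ⟨by decide +kernel, ?_⟩
    intro p hp
    rw [show cw 10 = w from rfl, hW9 p hp]
    rfl
  · have hc' : c < 10 := by omega
    have e : cw c = [c] := if_neg h10
    rw [e]
    refine ⟨?_, ?_⟩
    · intro d hd
      rw [List.mem_singleton] at hd
      omega
    · intro p _
      rw [wapp_cons, wapp_nil]
      unfold Y5W.px2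
      have : Nat.beq c 10 = false := by
        rw [← Bool.not_eq_true, Nat.beq_eq]
        exact h10
      rw [this]

theorem hVprop : ∀ v ∈ Y5W.V, (∀ c ∈ v, c < 11) ∧ (∀ c ∈ v.flatMap cw, c < 10) ∧
    (v.flatMap cw).length % 2 = 0 := by decide +kernel

/-- the words of `V`, the column `10` being replaced by `w`, are trivial in `RA` -/
theorem ident : ∀ v ∈ Y5W.V,
    PresentedGroup.mk (wrels 10 Y5R.base) (wordElt (gcF 10) (v.flatMap cw)) = 1 := by
  intro v hv
  obtain ⟨h1, h2, h3⟩ := hVprop v hv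
  refine ra_eq_one _ h2 h3 (fun q hq => ?_)
  rw [wapp_flatMap Cfsg.Agent.S1689.hP cw v (fun c hc => hcw c (h1 c hc)) q hq]
  exact Y5W.hV v hv q hq

/-- the other spider word -/
def sw : List ℕ := (List.replicate 10 Y5W.s9).flatten

/-- the spider relation with two arms interchanged holds in `RA` -/
theorem spider' : PresentedGroup.mk (wrels 10 Y5R.base) (wordElt (gcF 10) sw) = 1 := by
  refine ra_eq_one _ (by decide +kernel) (by decide +kernel) (fun q hq => ?_)
  unfold sw
  rw [wapp_pow Cfsg.Agent.S1689.hP (u := Y5W.s9) (by decide) (Q := Y5W.QS)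
    (fun q hq => (Y5W.hQS q hq).symm) 10 q hq]
  have := Y5W.hS10 q hq
  unfold Y5W.S10 at this
  simpa only [Function.iterate_succ_apply, Function.iterate_zero_apply] using this

end Cfsg.Agent.Lib.Helper6.Y5Fi23
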