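import Cfsg.Agent.Lib.Helper6.Spor.Y5PA
import Cfsg.Prelude.Def_Spor_M

set_option autoImplicit false
set_option maxRecDepth 100000

namespace Cfsg.Agent.Lib.Helper6.Y5Main

open Cfsg.Spor Cfsg.Agent.Lib.Helper6.TC Cfsg.Agent.Lib.Helper6.TCD
open Cfsg.Agent.Lib.Helper6.Y5Fi23 Cfsg.Agent.Lib.Helper6.Y5PA

/-! # The diagram `Y555` with the spider relation: the end nodes are words in the others -/

/-- the Coxeter relators of `Y555` and the spider relator -/
abbrev Rels5 : Set (FreeGroup Bimonster.Gen) :=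
  coxRelators Bimonster.edges ∪ {r' | r' ∈ [(Bimonster.a * Bimonster.b1 * Bimonster.c1 *
    Bimonster.a * Bimonster.b2 * Bimonster.c2 * Bimonster.a * Bimonster.b3 * Bimonster.c3) ^ 10]}

/-- the group presented by them -/
abbrev T : Type := PresentedGroup Rels5

/-- a generator as an element of `T` -/
noncomputable def g (x : Bimonster.Gen) : T := PresentedGroup.mk Rels5 (FreeGroup.of x)

/-- the node of depth `t` on the arm `m` -/
def node : ℕ → ℕ → Bimonster.Gen
  | 0, 0 => .b1 | 0, 1 => .c1 | 0, 2 => .d1 | 0, 3 => .e1 | 0, _ => .f1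
  | 1, 0 => .b2 | 1, 1 => .c2 | 1, 2 => .d2 | 1, 3 => .e2 | 1, _ => .f2
  | _, 0 => .b3 | _, 1 => .c3 | _, 2 => .d3 | _, 3 => .e3 | _, _ => .f3

/-- the nodes of the columns `0, …, 10`: the arm `c, b, a` on the arm `j`, the arm
`e, f, g, j, 10` on the arm `i`, the arm `h, i` on the arm `k` -/
def cm (i j k : ℕ) : ℕ → Bimonster.Gen
  | 0 => node j 2 | 1 => node j 1 | 2 => node j 0 | 3 => .a
  | 4 => node i 0 | 5 => node i 1 | 6 => node i 2 | 7 => node i 3
  | 8 => node k 0 | 9 => node k 1 | _ => node i 4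

/-- the elements of the columns -/
noncomputable def f (i j k : ℕ) (c : ℕ) : T := g (cm i j k c)

theorem all_nodes (x : Bimonster.Gen) : x ∈ coxNodes Bimonster.edges := by
  cases x <;> decide

theorem cox_rel (x y : Bimonster.Gen) : (g x * g y) ^ coxLabel Bimonster.edges x y = 1 := by
  have : PresentedGroup.mk Rels5
      ((FreeGroup.of x * FreeGroup.of y) ^ coxLabel Bimonster.edges x y) = 1 :=
    PresentedGroup.one_of_mem (Or.inl ⟨x, all_nodes x, y, all_nodes y, rfl⟩)
  rw [map_pow, map_mul] at this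
  exact this

/-- the Coxeter relators of the columns -/
theorem hcox : ∀ i j k : Fin 3, i ≠ j → i ≠ k → j ≠ k → ∀ b ∈ Y5P.base.take 66,
    b = pairw (b.headD 0) (b.getD 1 0) (coxLabel Bimonster.edges (cm i.val j.val k.val (b.headD 0))
      (cm i.val j.val k.val (b.getD 1 0))) := by
  decide +kernel

theorem prod_pairw (i j k c d m : ℕ) :
    ((pairw c d m).map (f i j k)).prod = (f i j k c * f i j k d) ^ m := by
  unfold pairw
  rw [prod_map_flatten_replicate]
  simp

theorem prod_cox {i j k : ℕ} (hi : i < 3) (hj : j < 3) (hk : k < 3) (hij : i ≠ j) (hik : i ≠ k)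
    (hjk : j ≠ k) : ∀ b ∈ Y5P.base.take 66, (b.map (f i j k)).prod = 1 := by
  intro b hb
  have := hcox ⟨i, hi⟩ ⟨j, hj⟩ ⟨k, hk⟩ (by simpa [Fin.ext_iff] using hij)
    (by simpa [Fin.ext_iff] using hik) (by simpa [Fin.ext_iff] using hjk) b hb
  rw [this, prod_pairw]
  exact cox_rel _ _

/-! ## The spider relators -/

/-- the product `a bₘ cₘ` -/
noncomputable def X (m : ℕ) : T := g .a * g (node m 0) * g (node m 1)

def u0 : List ℕ := [3, 2, 1, 3, 4, 5, 3, 8, 9]

/-- the spider word of the columns -/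
def spw : List ℕ := (List.replicate 10 u0).flatten

theorem prod_spw (i j k : ℕ) : (spw.map (f i j k)).prod = (X j * X i * X k) ^ 10 := by
  unfold spw
  rw [prod_map_flatten_replicate]
  congr 1

theorem prod_sw (i j k : ℕ) : (sw.map (f i j k)).prod = (X j * X k * X i) ^ 10 := by
  unfold sw
  rw [prod_map_flatten_replicate]
  congr 1

theorem pow_rot {x y z : T} {n : ℕ} (h : (x * y * z) ^ n = 1) : (y * z * x) ^ n = 1 := by
  have e : y * z * x = x⁻¹ * (x * y * z) * x⁻¹⁻¹ := by group
  rw [e, conj_pow, h]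
  group

theorem s012 : (X 0 * X 1 * X 2) ^ 10 = 1 := by
  have : PresentedGroup.mk Rels5 ((Bimonster.a * Bimonster.b1 * Bimonster.c1 *
      Bimonster.a * Bimonster.b2 * Bimonster.c2 * Bimonster.a * Bimonster.b3 * Bimonster.c3) ^ 10)
      = 1 := PresentedGroup.one_of_mem (Or.inr (by simp))
  rw [map_pow] at this
  rw [← this]
  congr 1

theorem hclassR : ∀ b ∈ Y5R.base, b ∈ Y5P.base.take 66 ∨ b = spw := by decide +kernel

theorem hclassP : ∀ b ∈ Y5P.base, b ∈ Y5P.base.take 66 ∨ b = spw ∨ b = e1 ∨ b = e2 ∨ b = e3 := by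
  decide +kernel

theorem hrelR {i j k : ℕ} (hi : i < 3) (hj : j < 3) (hk : k < 3) (hij : i ≠ j) (hik : i ≠ k)
    (hjk : j ≠ k) (hsp : (X j * X i * X k) ^ 10 = 1) :
    ∀ b ∈ Y5R.base, (b.map (f i j k)).prod = 1 := by
  intro b hb
  rcases hclassR b hb with h | rfl
  · exact prod_cox hi hj hk hij hik hjk b h
  · rw [prod_spw]
    exact hsp

/-- the homomorphism from `RA` given by the arms `i, j, k` -/
noncomputable def homR {i j k : ℕ} (hi : i < 3) (hj : j < 3) (hk : k < 3) (hij : i ≠ j)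
    (hik : i ≠ k) (hjk : j ≠ k) (hsp : (X j * X i * X k) ^ 10 = 1) : RA →* T :=
  wgHom (f i j k) Y5R.hbl (hrelR hi hj hk hij hik hjk hsp)

theorem homR_word {i j k : ℕ} (hi : i < 3) (hj : j < 3) (hk : k < 3) (hij : i ≠ j)
    (hik : i ≠ k) (hjk : j ≠ k) (hsp : (X j * X i * X k) ^ 10 = 1) (u : List ℕ)
    (hu : ∀ c ∈ u, c < 10) :
    homR hi hj hk hij hik hjk hsp (PresentedGroup.mk (wrels 10 Y5R.base) (wordElt (gcF 10) u)) =
      (u.map (f i j k)).prod :=
  lift_wordElt_prod (f i j k) u hu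

theorem s021 : (X 0 * X 2 * X 1) ^ 10 = 1 := by
  have h := homR_word (i := 1) (j := 0) (k := 2) (by decide) (by decide) (by decide) (by decide)
    (by decide) (by decide) s012 sw (by decide +kernel)
  rw [spider', map_one, prod_sw] at h
  exact h.symm

theorem spider_all {i j k : ℕ} (hi : i < 3) (hj : j < 3) (hk : k < 3) (hij : i ≠ j) (hik : i ≠ k)
    (hjk : j ≠ k) : (X j * X i * X k) ^ 10 = 1 := by
  have s120 := pow_rot s012
  have s201 := pow_rot s120
  have s210 := pow_rot s021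
  have s102 := pow_rot s210
  interval_cases i <;> interval_cases j <;> interval_cases k <;>
    first
    | exact absurd rfl hij
    | exact absurd rfl hik
    | exact absurd rfl hjk
    | exact s012
    | exact s120
    | exact s201
    | exact s021
    | exact s210
    | exact s102

/-! ## The homomorphisms from `PA` -/

theorem hrelP {i j k : ℕ} (hi : i < 3) (hj : j < 3) (hk : k < 3) (hij : i ≠ j) (hik : i ≠ k)
    (hjk : j ≠ k) : ∀ b ∈ Y5P.base, (b.map (f i j k)).prod = 1 := by
  intro b hb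
  have hsp := spider_all hi hj hk hij hik hjk
  rcases hclassP b hb with h | rfl | rfl | rfl | rfl
  · exact prod_cox hi hj hk hij hik hjk b h
  · rw [prod_spw]
    exact hsp
  · rw [← homR_word hi hj hk hij hik hjk hsp e1 e_lt.1, he1, map_one]
  · rw [← homR_word hi hj hk hij hik hjk hsp e2 e_lt.2.1, he2, map_one]
  · rw [← homR_word hi hj hk hij hik hjk hsp e3 e_lt.2.2, he3, map_one]

/-- the homomorphism from `PA` given by the arms `i, j, k` -/
noncomputable def homP {i j k : ℕ} (hi : i < 3) (hj : j < 3) (hk : k < 3) (hij : i ≠ j)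
    (hik : i ≠ k) (hjk : j ≠ k) : PA →* T :=
  wgHom (f i j k) Y5P.hbl (hrelP hi hj hk hij hik hjk)

theorem w_lt11 : ∀ c ∈ w, c < 11 := by decide +kernel

/-- the end node of the arm `i` is the ninth power of a Coxeter word of type `E₇` -/
theorem end_node {i j k : ℕ} (hi : i < 3) (hj : j < 3) (hk : k < 3) (hij : i ≠ j) (hik : i ≠ k)
    (hjk : j ≠ k) :
    g (node i 4) = (g .a * g (node i 0) * g (node j 0) * g (node k 0) * g (node i 1) *
      g (node j 1) * g (node i 2)) ^ 9 := by
  have h := congrArg (homP hi hj hk hij hik hjk) f_eq_w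
  have h1 : homP hi hj hk hij hik hjk
      (PresentedGroup.mk (wrels 11 Y5P.base) (FreeGroup.of (Fin.ofNat 11 10))) = f i j k 10 :=
    wgHom_of (f i j k) Y5P.hbl (hrelP hi hj hk hij hik hjk) (Fin.ofNat 11 10)
  have h2 : homP hi hj hk hij hik hjk
      (PresentedGroup.mk (wrels 11 Y5P.base) (wordElt (gcF 11) w)) = (w.map (f i j k)).prod :=
    lift_wordElt_prod (f i j k) w w_lt11
  rw [h1, h2] at h
  rw [show f i j k 10 = g (node i 4) from rfl] at h
  rw [h]
  unfold Y5Fi23.w
  rw [prod_map_flatten_replicate]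
  congr 1

end Cfsg.Agent.Lib.Helper6.Y5Main
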