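import Cfsg.Agent.Lib.Helper6.Spor.Y5Fi23
import Cfsg.Agent.Lib.Helper6.TCD.Y5P.Idx

set_option autoImplicit false
set_option maxRecDepth 100000

namespace Cfsg.Agent.Lib.Helper6.Y5PA

open Cfsg.Agent.Lib.Helper6.TC Cfsg.Agent.Lib.Helper6.TCD
open Cfsg.Agent.Lib.Helper6.Y5Fi23

/-! # In the group `Y532` with the spider relation the last node of the long arm is the word `w`

`PA` is presented by the diagram `Y532` (the column `10` being joined to `j = 7`), the spider
relator, and three relators holding in `RA`. -/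

/-- the group presented by `Y5P.base` -/
abbrev PA : Type := WG 11 Y5P.base

theorem base_sub : ∀ b ∈ Y5R.base, b ∈ Y5P.base := by decide +kernel

theorem hrelι : ∀ b ∈ Y5R.base,
    PresentedGroup.mk (wrels 11 Y5P.base) (wordElt (gcF 11) (b.map (fun c => c))) = 1 := by
  intro b hb
  rw [List.map_id']
  exact wp_hbase b (base_sub b hb)

/-- the homomorphism from `RA` -/
noncomputable def ι : RA →* PA :=
  wpHom (rels := wrels 11 Y5P.base) (gc := gcF 11) (fun c => c) Y5R.hbl hrelι

theorem ι_word (u : List ℕ) (hu : ∀ c ∈ u, c < 10) :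
    ι (PresentedGroup.mk (wrels 10 Y5R.base) (wordElt (gcF 10) u)) =
      PresentedGroup.mk (wrels 11 Y5P.base) (wordElt (gcF 11) u) := by
  have := lift_wordElt_map (rels := wrels 11 Y5P.base) (gc := gcF 11) (k := 10) (fun c => c) u hu
  rw [List.map_id'] at this
  exact this

/-! ## The extra relators hold in `RA` -/

/-- the three extra relators -/
def e1 : List ℕ := w ++ w
def e2 : List ℕ := w ++ [9] ++ w.reverse ++ [9]
def e3 : List ℕ := (List.replicate 3 (w ++ [7])).flatten

theorem w_lt : ∀ c ∈ w, c < 10 := by decide +kernel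

theorem hsq : ∀ c < 10, [c, c] ∈ Y5R.base := by decide +kernel

/-- the element `w` of `RA` -/
noncomputable def W : RA := PresentedGroup.mk (wrels 10 Y5R.base) (wordElt (gcF 10) w)

/-- the generators of `RA` -/
noncomputable def x (c : ℕ) : RA := PresentedGroup.mk (wrels 10 Y5R.base) (ceOf (gcF 10) c)

theorem mk_cons (c : ℕ) (u : List ℕ) :
    PresentedGroup.mk (wrels 10 Y5R.base) (wordElt (gcF 10) (c :: u)) =
      x c * PresentedGroup.mk (wrels 10 Y5R.base) (wordElt (gcF 10) u) := by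
  rw [wordElt_cons, map_mul]
  rfl

theorem mk_append (u v : List ℕ) :
    PresentedGroup.mk (wrels 10 Y5R.base) (wordElt (gcF 10) (u ++ v)) =
      PresentedGroup.mk (wrels 10 Y5R.base) (wordElt (gcF 10) u) *
        PresentedGroup.mk (wrels 10 Y5R.base) (wordElt (gcF 10) v) := by
  rw [wordElt_append, map_mul]

theorem mk_nil : PresentedGroup.mk (wrels 10 Y5R.base) (wordElt (gcF 10) []) = 1 := by
  rw [wordElt_nil, map_one]

theorem W_sq : W * W = 1 := by
  have := ident [10, 10] (by decide)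
  rw [show [10, 10].flatMap cw = w ++ w from by decide +kernel, mk_append] at this
  exact this

theorem W_inv : W⁻¹ = W := (eq_inv_of_mul_eq_one_left W_sq).symm

theorem W_comm9 : x 9 * W * (x 9 * W) = 1 := by
  have := ident [9, 10, 9, 10] (by decide)
  rw [show [9, 10, 9, 10].flatMap cw = [9] ++ w ++ ([9] ++ w) from by decide +kernel, mk_append,
    mk_append, show ([9] : List ℕ) = 9 :: [] from rfl, mk_cons, mk_nil, mul_one] at this
  exact this

theorem W_braid7 : x 7 * W * (x 7 * W) * (x 7 * W) = 1 := by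
  have := ident [7, 10, 7, 10, 7, 10] (by decide)
  rw [show [7, 10, 7, 10, 7, 10].flatMap cw = [7] ++ w ++ ([7] ++ w) ++ ([7] ++ w) from by
    decide +kernel, mk_append, mk_append, mk_append,
    show ([7] : List ℕ) = 7 :: [] from rfl, mk_cons, mk_nil, mul_one] at this
  exact this

theorem he1 : PresentedGroup.mk (wrels 10 Y5R.base) (wordElt (gcF 10) e1) = 1 := by
  unfold e1
  rw [mk_append]
  exact W_sq

theorem he2 : PresentedGroup.mk (wrels 10 Y5R.base) (wordElt (gcF 10) e2) = 1 := by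
  unfold e2
  rw [mk_append, mk_append, mk_append, mk_wordElt_reverse hsq w w_lt,
    show ([9] : List ℕ) = 9 :: [] from rfl, mk_cons, mk_nil, mul_one]
  show W * x 9 * W⁻¹ * x 9 = 1
  rw [W_inv]
  have h := W_comm9
  -- conjugate by `W`
  have : W * x 9 * W * x 9 = W * (x 9 * W * (x 9 * W)) * W⁻¹ := by
    rw [W_inv]
    simp only [mul_assoc]
    rw [W_sq, mul_one]
  rw [this, h, mul_one, mul_inv_cancel]

theorem he3 : PresentedGroup.mk (wrels 10 Y5R.base) (wordElt (gcF 10) e3) = 1 := by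
  have h := W_braid7
  have e : e3 = w ++ [7] ++ (w ++ [7]) ++ (w ++ [7]) := by decide +kernel
  rw [e, mk_append, mk_append, mk_append, show ([7] : List ℕ) = 7 :: [] from rfl, mk_cons, mk_nil,
    mul_one]
  show W * x 7 * (W * x 7) * (W * x 7) = 1
  have : W * x 7 * (W * x 7) * (W * x 7) = (x 7)⁻¹ * (x 7 * W * (x 7 * W) * (x 7 * W)) * x 7 := by
    simp only [mul_assoc, inv_mul_cancel_left]
  rw [this, h, mul_one, inv_mul_cancel]

/-! ## The homomorphism onto `RA` -/

/-- the kinds of relators of `PA` -/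
theorem hclass : ∀ b ∈ Y5P.base,
    (b ∈ Y5R.base) ∨ (b ∈ Y5W.V) ∨ b = e1 ∨ b = e2 ∨ b = e3 := by decide +kernel

theorem ne10_of_lt : ∀ (b : List ℕ), (∀ c ∈ b, c < 10) → ∀ c ∈ b, c ≠ 10 := by
  intro b hb c hc
  have := hb c hc
  omega

theorem cw_flat (b : List ℕ) (hb : ∀ c ∈ b, c < 10) : b.flatMap cw = b :=
  flatMap_ite_eq 10 w b (ne10_of_lt b hb)

theorem e_lt : (∀ c ∈ e1, c < 10) ∧ (∀ c ∈ e2, c < 10) ∧ (∀ c ∈ e3, c < 10) := by
  decide +kernel

theorem hrelψ : ∀ b ∈ Y5P.base,
    PresentedGroup.mk (wrels 10 Y5R.base) (wordElt (gcF 10) (b.flatMap cw)) = 1 := by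
  intro b hb
  rcases hclass b hb with h | h | rfl | rfl | rfl
  · rw [cw_flat b (Y5R.hbl b h)]
    exact wp_hbase b h
  · exact ident b h
  · rw [cw_flat _ e_lt.1]
    exact he1
  · rw [cw_flat _ e_lt.2.1]
    exact he2
  · rw [cw_flat _ e_lt.2.2]
    exact he3

/-- the homomorphism onto `RA`, the column `10` going to `w` -/
noncomputable def ψ : PA →* RA :=
  wpHomW (rels := wrels 10 Y5R.base) (gc := gcF 10) cw Y5P.hbl hrelψ

theorem ψ_ι : ψ.comp ι = MonoidHom.id RA := by
  apply PresentedGroup.ext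
  intro i
  have h1 : ι (PresentedGroup.of i) =
      PresentedGroup.mk (wrels 11 Y5P.base) (ceOf (gcF 11) i.val) :=
    wpHom_of (rels := wrels 11 Y5P.base) (gc := gcF 11) (fun c => c) Y5R.hbl hrelι i
  have hi : i.val < 11 := by have := i.isLt; omega
  rw [MonoidHom.comp_apply, h1, ceOf_gcF]
  have h2 := wpHomW_of (rels := wrels 10 Y5R.base) (gc := gcF 10) cw Y5P.hbl hrelψ
    (Fin.ofNat 11 i.val)
  rw [show ψ = wpHomW (rels := wrels 10 Y5R.base) (gc := gcF 10) cw Y5P.hbl hrelψ from rfl, h2,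
    Fin.val_ofNat, Nat.mod_eq_of_lt hi]
  have hc : cw i.val = [i.val] := if_neg (by have := i.isLt; omega)
  rw [hc, wordElt_cons, wordElt_nil, mul_one, ceOf_gcF, MonoidHom.id_apply]
  congr 2
  exact Fin.ext (by rw [Fin.val_ofNat, Nat.mod_eq_of_lt i.isLt])

/-! ## The homomorphism from `RA` is onto -/

theorem ι_range : ι.range = ⊤ := by
  have hidx : (subH (wrels 11 Y5P.base) (wset 11 Y5P.subw)).index = 1 := by
    have := Y5P.idx
    omega
  rw [Subgroup.index_eq_one] at hidx
  rw [← hidx]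
  refine wpHom_range (rels := wrels 11 Y5P.base) (gc := gcF 11) (S := wset 11 Y5P.subw)
    (fun c => c) Y5R.hbl hrelι ?_ ?_
  · rintro s ⟨u, hu, rfl⟩
    have : ∃ i < 10, u = [i] := by
      revert u
      decide
    obtain ⟨i, hi, rfl⟩ := this
    exact ⟨i, hi, by rw [wordElt_cons, wordElt_nil, mul_one]⟩
  · intro i hi
    refine ⟨[i], ?_, by rw [wordElt_cons, wordElt_nil, mul_one]⟩
    interval_cases i <;> decide

/-- in `PA` the column `10` is the word `w` -/
theorem f_eq_w : PresentedGroup.mk (wrels 11 Y5P.base) (FreeGroup.of (Fin.ofNat 11 10)) =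
    PresentedGroup.mk (wrels 11 Y5P.base) (wordElt (gcF 11) w) := by
  have hmem : PresentedGroup.mk (wrels 11 Y5P.base) (FreeGroup.of (Fin.ofNat 11 10)) ∈ ι.range := by
    rw [ι_range]
    exact Subgroup.mem_top _
  obtain ⟨r, hr⟩ := hmem
  have h1 : ψ (ι r) = r := by
    have := congrArg (fun φ => φ r) ψ_ι
    simpa using this
  have h2 : ψ (PresentedGroup.mk (wrels 11 Y5P.base) (FreeGroup.of (Fin.ofNat 11 10))) =
      PresentedGroup.mk (wrels 10 Y5R.base) (wordElt (gcF 10) w) := by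
    have := wpHomW_of (rels := wrels 10 Y5R.base) (gc := gcF 10) cw Y5P.hbl hrelψ (Fin.ofNat 11 10)
    rw [show ψ = wpHomW (rels := wrels 10 Y5R.base) (gc := gcF 10) cw Y5P.hbl hrelψ from rfl, this]
    rfl
  rw [← hr, ← ι_word w w_lt, ← h2, ← hr, h1]

end Cfsg.Agent.Lib.Helper6.Y5PA
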