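import Cfsg.Agent.Lib.Helper6.Spor.Fi23UB
import Cfsg.Agent.Lib.Helper6.TCD.Y5U.Idx
import Cfsg.Agent.Lib.Helper6.TCD.Y5R.Idx

set_option autoImplicit false
set_option maxRecDepth 100000

namespace Cfsg.Agent.Lib.Helper6.Y5UB

open Cfsg.Agent.Lib.Helper6.TC Cfsg.Agent.Lib.Helper6.TCD

/-! # The groups `Y332` and `Y432` with the spider relation: bounds for the orders

The columns of `Y5R` are those of `Fi23` (`a, b, c, d, e, f, g, j, h, i`), the relators being the
Coxeter relators of the diagram `Y432` and the spider relator; `Y5U` is the same for the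
diagram `Y332` on the columns `a, b, c, d, e, f, g, h, i`. -/

theorem uU : Finite (WG 9 Y5U.base) ∧
    Nat.card (WG 9 Y5U.base) ≤ 28160 * (728 * (243 * (27 * (10 * (192))))) :=
  wp_step (k := 9) (k' := 8) (fun i => [1, 2, 3, 4, 5, 6, 7, 8].getD i 0) Y5U.idx (by decide)
    Fi23U2.hbl (by decide +kernel) Fi23UB.u2

theorem uR : Finite (WG 10 Y5R.base) ∧
    Nat.card (WG 10 Y5R.base) ≤ 31671 * (28160 * (728 * (243 * (27 * (10 * (192)))))) :=
  wp_step (k := 10) (k' := 9) (fun i => [0, 1, 2, 3, 4, 5, 6, 8, 9].getD i 0) Y5R.idx (by decide)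
    Y5U.hbl (by decide +kernel) uU

theorem card_le : Finite (WG 10 Y5R.base) ∧
    Nat.card (WG 10 Y5R.base) ≤ 2 * 4089470473293004800 :=
  ⟨uR.1, uR.2.trans (by norm_num)⟩

end Cfsg.Agent.Lib.Helper6.Y5UB
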